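import Cfsg.Agent.Lib.TwistMult.Layers
import Mathlib.Algebra.Polynomial.Roots
import Mathlib.Algebra.CharP.Basic

/-!
# Criteria for the absence of invariant pairings between two weight spaces
-/

set_option autoImplicit false

namespace CfsgLib.TwistMult.Layers

universe u v w

variable {G : Type v} [Group G] {K : Type w} [Field K] (D : Layers G K)

/-- The scalars of a layer preserve its coordinate group. -/
theorem χ_mul_mem {i : ℕ} (hi : i < D.len) {t : G} (ht : t ∈ D.T) {a : K} (ha : a ∈ D.P i) :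
    D.χ i t * a ∈ D.P i := by
  obtain ⟨x, hx, rfl⟩ := D.c_surj i hi a ha
  rw [← D.c_conj i hi t ht x hx]
  exact D.c_mem i hi _ (D.conj i hi.le t ht x hx)

theorem pair_zero_left {M : Type u} [CommGroup M] {f : K → M} {P : AddSubgroup K}
    (hf : ∀ a ∈ P, ∀ a' ∈ P, f (a + a') = f a * f a') : f 0 = 1 := by
  have h := hf 0 P.zero_mem 0 P.zero_mem
  rw [add_zero] at h
  exact mul_eq_left.1 h.symm

variable [Finite K]

/-- An element fixing the first weight and moving the second kills every pairing. -/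
theorem noPairing_of_fix {j i : ℕ} (hi : i < D.len)
    (h : ∃ t ∈ D.T, D.χ j t = 1 ∧ D.χ i t ≠ 1) : D.NoPairing.{u} j i := by
  obtain ⟨t, ht, hj1, hi1⟩ := h
  intro M _ B hl hr hinv _ a ha b hb
  have hmaps : ∀ b ∈ D.P i, (D.χ i t - 1) * b ∈ D.P i := fun b hb => by
    rw [sub_mul, one_mul]; exact sub_mem (D.χ_mul_mem hi ht hb) hb
  have hinj : Function.Injective fun b : D.P i => (⟨_, hmaps b b.2⟩ : D.P i) := fun b b' e =>
    Subtype.ext (mul_left_cancel₀ (sub_ne_zero.2 hi1) (congrArg Subtype.val e))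
  obtain ⟨c, hc⟩ := Finite.injective_iff_surjective.1 hinj ⟨b, hb⟩
  have hc' : (D.χ i t - 1) * (c : K) = b := congrArg Subtype.val hc
  have h1 := hinv t ht a ha c c.2
  rw [hj1, one_mul, show D.χ i t * (c : K) = c + b by rw [← hc']; ring, hr a ha c c.2 b hb] at h1
  exact mul_eq_left.1 h1

/-- An element fixing the second weight and moving the first kills every pairing. -/
theorem noPairing_of_fix' {j i : ℕ} (hj : j < D.len)
    (h : ∃ t ∈ D.T, D.χ i t = 1 ∧ D.χ j t ≠ 1) : D.NoPairing.{u} j i := by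
  obtain ⟨t, ht, hi1, hj1⟩ := h
  intro M _ B hl hr hinv _ a ha b hb
  have hmaps : ∀ b ∈ D.P j, (D.χ j t - 1) * b ∈ D.P j := fun b hb => by
    rw [sub_mul, one_mul]; exact sub_mem (D.χ_mul_mem hj ht hb) hb
  have hinj : Function.Injective fun b : D.P j => (⟨_, hmaps b b.2⟩ : D.P j) := fun b b' e =>
    Subtype.ext (mul_left_cancel₀ (sub_ne_zero.2 hj1) (congrArg Subtype.val e))
  obtain ⟨c, hc⟩ := Finite.injective_iff_surjective.1 hinj ⟨a, ha⟩
  have hc' : (D.χ j t - 1) * (c : K) = a := congrArg Subtype.val hc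
  have h1 := hinv t ht c c.2 b hb
  rw [hi1, one_mul, show D.χ j t * (c : K) = c + a by rw [← hc']; ring, hl c c.2 a ha b hb] at h1
  exact mul_eq_left.1 h1

omit [Finite K]

/-- All non-zero scalars of a subfield with `ν ^ 2 + ν + 1 ≠ 0` kill pairings of a layer with itself. -/
theorem noPairing_of_scalars {i : ℕ} (hone : (1 : K) ∈ D.P i)
    (hmul : ∀ a ∈ D.P i, ∀ b ∈ D.P i, a * b ∈ D.P i) (hinvP : ∀ a ∈ D.P i, a⁻¹ ∈ D.P i)
    (hscal : ∀ l ∈ D.P i, l ≠ 0 → ∃ t ∈ D.T, D.χ i t = l)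
    (hν : ∃ ν ∈ D.P i, ν ≠ 0 ∧ ν + 1 ≠ 0 ∧ ν ^ 2 + ν + 1 ≠ 0) : D.NoPairing.{u} i i := by
  obtain ⟨ν, hνP, hν0, hν1, hν2⟩ := hν
  intro M _ B hl hr hinv _ a ha b hb
  have h0l : ∀ b ∈ D.P i, B 0 b = 1 := fun b hb =>
    pair_zero_left (f := fun a => B a b) fun a ha a' ha' => hl a ha a' ha' b hb
  have key : ∀ x ∈ D.P i, x ≠ 0 → ∀ y ∈ D.P i, B x y = B 1 (x⁻¹ * y) := by
    intro x hx hx0 y hy
    obtain ⟨t, ht, ht'⟩ := hscal x hx hx0
    have h := hinv t ht 1 hone (x⁻¹ * y) (hmul _ (hinvP x hx) _ hy)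
    rwa [ht', mul_one, mul_inv_cancel_left₀ hx0] at h
  set k := (1 + ν)⁻¹ - 1 - ν⁻¹ with hk
  have h1ν : (1 + ν) ≠ 0 := by rwa [add_comm]
  have hkP : k ∈ D.P i :=
    sub_mem (sub_mem (hinvP _ (add_mem hone hνP)) hone) (hinvP _ hνP)
  have hk0 : k ≠ 0 := fun h => hν2 (by rw [hk] at h; field_simp at h; linear_combination -h)
  have hadd : ∀ y ∈ D.P i, ∀ y' ∈ D.P i, B 1 (y + y') = B 1 y * B 1 y' := fun y hy y' hy' =>
    hr 1 hone y hy y' hy'
  have hzero : ∀ y ∈ D.P i, B 1 y = 1 := by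
    intro y hy
    set z := k⁻¹ * y
    have hz : z ∈ D.P i := hmul _ (hinvP _ hkP) _ hy
    have e1 : (1 + ν)⁻¹ * z ∈ D.P i := hmul _ (hinvP _ (add_mem hone hνP)) _ hz
    have e2 : ν⁻¹ * z ∈ D.P i := hmul _ (hinvP _ hνP) _ hz
    have h := hl 1 hone ν hνP z hz
    rw [key _ (add_mem hone hνP) h1ν z hz, key ν hνP hν0 z hz, ← hadd z hz _ e2] at h
    have e3 : y + (z + ν⁻¹ * z) = (1 + ν)⁻¹ * z := by
      have : y = k * z := by simp only [z]; rw [mul_inv_cancel_left₀ hk0]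
      rw [this, hk]; ring
    rw [← e3, hadd y hy _ (add_mem hz e2)] at h
    exact mul_eq_right.1 h
  by_cases ha0 : a = 0
  · rw [ha0]; exact h0l b hb
  · rw [key a ha ha0 b hb]; exact hzero _ (hmul _ (hinvP a ha) _ hb)

/-- An alternating pairing on a cyclic layer is trivial. -/
theorem noPairing_of_cyclic {i : ℕ} {e : K} (he : e ∈ D.P i)
    (h : ∀ a ∈ D.P i, ∃ n : ℕ, a = n • e) : D.NoPairing.{u} i i := by
  intro M _ B hl hr _ halt a ha b hb
  obtain ⟨n, rfl⟩ := h a ha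
  obtain ⟨m, rfl⟩ := h b hb
  have h1 : ∀ m : ℕ, B e (m • e) = 1 := by
    intro m
    induction m with
    | zero => rw [zero_nsmul]; exact pair_zero_left (hr e he)
    | succ m ih => rw [succ_nsmul, hr e he _ (nsmul_mem he m) _ he, ih, halt rfl e he, mul_one]
  induction n with
  | zero => rw [zero_nsmul]; exact pair_zero_left (f := fun a => B a _) fun a ha a' ha' => hl a ha a' ha' _ hb
  | succ n ih =>
    rw [succ_nsmul, hl _ (nsmul_mem he n) _ he _ hb, ih (nsmul_mem he n), h1, mul_one]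

/-- A subset with at least five elements of a field has the element needed above. -/
theorem exists_good_scalar {P : Set K} (hP : 4 < P.ncard) :
    ∃ ν ∈ P, ν ≠ 0 ∧ ν + 1 ≠ 0 ∧ ν ^ 2 + ν + 1 ≠ 0 := by
  classical
  by_contra h
  push Not at h
  set R : Set K := {0, -1} ∪ {x | x ^ 2 + x + 1 = 0}
  have hsub : P ⊆ R := fun ν hν => by
    by_cases h0 : ν = 0
    · exact Or.inl (Or.inl h0)
    by_cases h1 : ν + 1 = 0
    · exact Or.inl (Or.inr (eq_neg_of_add_eq_zero_left h1))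
    exact Or.inr (h ν hν h0 h1)
  set p : Polynomial K := Polynomial.X ^ 2 + Polynomial.X + 1 with hp
  have hp0 : p ≠ 0 := fun e => by
    have := congrArg (Polynomial.eval 0) e
    simp [hp] at this
  have hroots : {x : K | x ^ 2 + x + 1 = 0} ⊆ (p.roots.toFinset : Set K) := fun x hx => by
    simp only [Finset.mem_coe, Multiset.mem_toFinset, Polynomial.mem_roots hp0, Polynomial.IsRoot.def]
    have hx' : x ^ 2 + x + 1 = 0 := hx
    simp [hp, hx']
  have hdeg : p.natDegree ≤ 2 := by rw [hp]; compute_degree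
  have hfin : ({x : K | x ^ 2 + x + 1 = 0}).Finite := Set.Finite.subset (Finset.finite_toSet _) hroots
  have h2 : ({x : K | x ^ 2 + x + 1 = 0}).ncard ≤ 2 :=
    (Set.ncard_le_ncard hroots (Finset.finite_toSet _)).trans (by
      rw [Set.ncard_coe_finset]
      exact ((Multiset.toFinset_card_le _).trans (Polynomial.card_roots' p)).trans hdeg)
  have h3 : ({0, -1} : Set K).ncard ≤ 2 := (Set.ncard_insert_le _ _).trans (by rw [Set.ncard_singleton])
  have := (Set.ncard_le_ncard hsub (((Set.finite_singleton _).insert _).union hfin)).trans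
    (Set.ncard_union_le _ _)
  omega

end CfsgLib.TwistMult.Layers
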