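import Cfsg.Agent.Lib.TwistMult.E6Tables
import Cfsg.Agent.Lib.TwistMult.Pairings
import Cfsg.Agent.Lib.TwistedStr.StrE6

/-!
# Root elements, torus elements and the layers of ²E₆(q) for q ≥ 3
-/

set_option autoImplicit false

namespace CfsgLib.TwistMult

open Cfsg.Lie CfsgLib.ChevStr CfsgLib.Twisted
open scoped MatrixGroups

variable {K : Type*} [Field K]

/-- The element over an orbit of two roots. -/
noncomputable def duo (K : Type*) [Field K] (q r : ℕ) (t : K) : GL chevE6.Idx K :=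
  (coreE6 K).xGL r t * (coreE6 K).xGL (e6Sym.root r) ((e6Sym.sign r : K) * t ^ q)

theorem duo_mem_Ucl {L : List ℕ} {r : ℕ} (q : ℕ) (t : K) (h1 : r ∈ L) (h2 : e6Sym.root r ∈ L) :
    duo K q r t ∈ (coreE6 K).Ucl (listSet L) :=
  mul_mem ((coreE6 K).xGL_mem_Ucl (S := listSet L) h1 _)
    ((coreE6 K).xGL_mem_Ucl (S := listSet L) h2 _)

/-- The torus parameters with six exponents. -/
def parE6 (q : ℕ) (g : Kˣ) (w : List ℤ) (j : Fin chevE6.rank) : Kˣ :=
  let x := fun k => w.getD k 0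
  let a := g ^ x 0 * (g ^ q) ^ x 1
  let b := g ^ x 2 * (g ^ q) ^ x 3
  [a, (g * g ^ q) ^ x 4, b, (g * g ^ q) ^ x 5, b ^ q, a ^ q].getD j.val 1

section pairs

variable {M : Type*} [CommGroup M] (u v : M)

theorem two_zpow (a b k : ℤ) : (u ^ a * v ^ b) ^ k = u ^ (a * k) * v ^ (b * k) := by
  rw [mul_zpow, ← zpow_mul, ← zpow_mul]

theorem two_mul_two (a b c d : ℤ) : (u ^ a * v ^ b) * (u ^ c * v ^ d) = u ^ (a + c) * v ^ (b + d) := by
  rw [zpow_add, zpow_add, mul_mul_mul_comm]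

end pairs

variable [Fintype K] {p n : ℕ} [ExpChar K p] (hn : Fintype.card K = (p ^ n) * (p ^ n))
include hn

omit [ExpChar K p] in
theorem twist_two (g : Kˣ) (a b : ℤ) :
    (g ^ a * (g ^ p ^ n) ^ b) ^ p ^ n = g ^ b * (g ^ p ^ n) ^ a := by
  have e : ∀ (u : Kˣ) (k : ℤ), (u ^ k) ^ p ^ n = (u ^ p ^ n) ^ k := fun u k => by
    rw [← zpow_natCast, ← zpow_mul, mul_comm, zpow_mul, zpow_natCast]
  rw [mul_pow, e, e, unit_pow_sq K hn, mul_comm]

omit [ExpChar K p] in
theorem parE6_mem (g : Kˣ) (w : List ℤ) :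
    parE6 (p ^ n) g w ∈ fixTorus (F := K) piE6 (fun _ => p ^ n) := by
  rw [mem_fixTorus]
  intro j
  obtain ⟨e0, e1, e2, e3, e4, e5⟩ := piE6_vals
  have hs : ∀ y : ℤ, ((g * g ^ p ^ n) ^ y) ^ p ^ n = (g * g ^ p ^ n) ^ y := fun y => by
    rw [← zpow_natCast, ← zpow_mul, mul_comm y, zpow_mul, zpow_natCast, mul_pow, unit_pow_sq K hn,
      mul_comm (g ^ p ^ n)]
  rcases nodeE6_cases j with rfl | rfl | rfl | rfl | rfl | rfl <;>
    simp only [e0, e1, e2, e3, e4, e5] <;> simp [parE6, nodeE6, hs, unit_pow_sq K hn]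

omit [ExpChar K p] in
/-- The weight of a torus element is given by the two exponents. -/
theorem weight_parE6 (g : Kˣ) (w : List ℤ) {r : ℕ} (hr : r < chevE6.nroots) :
    rootDataE6.torusChar (parE6 (p ^ n) g w) (rootDataE6.α r) =
      g ^ (wtExp r w).1 * (g ^ p ^ n) ^ (wtExp r w).2 := by
  rw [rootDataE6.torusChar_root _ hr, prod_nodeE6]
  simp only [parE6, nodeE6, List.getD_cons_zero, List.getD_cons_succ, twist_two hn]
  rw [← zpow_one (g * g ^ p ^ n)]
  simp only [← zpow_mul, mul_zpow, wtExp]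
  simp only [two_mul_two]
  congr 2 <;> ring

theorem torus_memE6 (g : Kˣ) (w : List ℤ) :
    (coreE6 K).R.torus (parE6 (p ^ n) g w) ∈ twistedE6 K (p ^ n) :=
  fixTorus_leE6 K _ (parE6_mem hn g w)

theorem act_duo {r : ℕ} (hr : r ∈ pairedE6) (t : K) :
    (frobE6 K p n).act (duo K (p ^ n) r t) = duo K (p ^ n) r t := by
  obtain ⟨h0, -, hp1, h2, hs, n1, m1, k1⟩ := pairedRoots r hr
  have hq2 : (t ^ p ^ n) ^ p ^ n = t := by
    rw [← pow_mul, ← hn, FiniteField.pow_card]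
  have hcast : ∀ z : ℤ, (z : K) ^ p ^ n = (z : K) := fun z => by
    rw [← iterateFrobenius_def, map_intCast]
  set C := coreE6 K
  set r1 := e6Sym.root r
  rw [duo, (frobE6 K p n).act_mul (C.xGL_mem_group _ _) (C.xGL_mem_group _ _),
    (frobE6 K p n).act_word (root := e6Sym.root) (fun _ => rfl) h0,
    (frobE6 K p n).act_word (root := e6Sym.root) (fun _ => rfl) hp1.1, h2]
  show C.xGL r1 ((e6Sym.sign r : K) * t ^ p ^ n) *
    C.xGL r ((e6Sym.sign r1 : K) * ((e6Sym.sign r : K) * t ^ p ^ n) ^ p ^ n) = _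
  rw [mul_pow, hcast, hq2, ← mul_assoc ((e6Sym.sign r1 : ℤ) : K) _ t, ← Int.cast_mul, hs,
    Int.cast_one, one_mul, C.xGL_commute h0 hp1.1 n1 m1 (by simp [k1])]

theorem duo_mem (hq : 2 ≤ p ^ n) {r : ℕ} (hr : r ∈ pairedE6) (t : K) :
    duo K (p ^ n) r t ∈ twistedE6 K (p ^ n) := by
  obtain ⟨-, hp0, hp1, -⟩ := pairedRoots r hr
  have hU : duo K (p ^ n) r t ∈ (coreE6 K).Ucl {k | chevE6.IsPosRoot k} :=
    mul_mem ((coreE6 K).xGL_mem_Ucl (S := {k | chevE6.IsPosRoot k}) hp0 _)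
      ((coreE6 K).xGL_mem_Ucl (S := {k | chevE6.IsPosRoot k}) hp1 _)
  exact (gensE6 K hn hq).fixU_pos.1 (Subgroup.mem_inf.2 ⟨hU, (frobE6 K p n).mem_fixedSub.2
    ⟨mul_mem ((coreE6 K).xGL_mem_group _ _) ((coreE6 K).xGL_mem_group _ _), act_duo hn hr t⟩⟩)

omit hn [Fintype K] in
theorem act_fixed {r : ℕ} (hr : r ∈ fixedE6) (t : K) :
    (frobE6 K p n).act ((coreE6 K).xGL r t) = (coreE6 K).xGL r (t ^ p ^ n) := by
  obtain ⟨h0, -, h1, h2⟩ := fixedRoots r hr
  rw [(frobE6 K p n).act_word (root := e6Sym.root) (fun _ => rfl) h0, h1]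
  show (coreE6 K).xGL r ((e6Sym.sign r : K) * t ^ p ^ n) = _
  rw [h2, Int.cast_one, one_mul]

theorem fixed_mem (hq : 2 ≤ p ^ n) {r : ℕ} (hr : r ∈ fixedE6) {t : K} (ht : t ^ p ^ n = t) :
    (coreE6 K).xGL r t ∈ twistedE6 K (p ^ n) :=
  (gensE6 K hn hq).fixU_pos.1 (Subgroup.mem_inf.2
    ⟨(coreE6 K).xGL_mem_Ucl (S := {k | chevE6.IsPosRoot k}) (fixedRoots r hr).2.1 t,
      (frobE6 K p n).mem_fixedSub.2
        ⟨(coreE6 K).xGL_mem_group _ _, by rw [act_fixed hr, ht]⟩⟩)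

section weights

variable (h3 : 3 ≤ p ^ n)
include h3

omit [ExpChar K p] in
/-- A generator of the units has no trivial weight of small exponents. -/
theorem exists_regular : ∃ g : Kˣ, ∀ e ∈ smallExp, g ^ e.1 * (g ^ p ^ n) ^ e.2 ≠ 1 := by
  obtain ⟨g, hg⟩ := IsCyclic.exists_generator (α := Kˣ)
  have hord : orderOf g = p ^ n * p ^ n - 1 := by
    rw [orderOf_eq_card_of_forall_mem_zpowers hg, Nat.card_units, Nat.card_eq_fintype_card, hn]
  set q := p ^ n with hqdef
  have hne : ∀ k, 0 < k → k < q * q - 1 → g ^ k ≠ 1 := fun k hk hk' h =>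
    absurd (Nat.le_of_dvd hk (orderOf_dvd_of_pow_eq_one h)) (by omega)
  have hbig : q + 1 < q * q - 1 := by
    have : q * 3 ≤ q * q := Nat.mul_le_mul_left q h3
    omega
  have h1 : g ≠ 1 := fun h => hne 1 one_pos (by omega) (by rw [pow_one, h])
  have h2 : g ^ q ≠ 1 := hne q (by omega) (by omega)
  have h4 : g * g ^ q ≠ 1 := by rw [← pow_succ']; exact hne (q + 1) (by omega) hbig
  have h5 : g ^ q ≠ g := fun h => hne (q - 1) (by omega) (by omega) (mul_right_cancel (b := g) (by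
    rw [← pow_succ, Nat.sub_add_cancel (by omega), h, one_mul]))
  refine ⟨g, fun e he => ?_⟩
  simp only [smallExp, List.mem_cons, List.not_mem_nil, or_false] at he
  rcases he with rfl | rfl | rfl | rfl | rfl | rfl | rfl | rfl
  · simpa using h1
  · simpa using h1
  · simpa using h2
  · simpa using h2
  · simpa using h4
  · rw [zpow_neg_one, zpow_neg_one, ← mul_inv]
    exact fun h => h4 (inv_eq_one.1 h)
  · rw [zpow_one, zpow_neg_one]
    exact fun h => h5 (mul_inv_eq_one.1 h).symm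
  · rw [zpow_one, zpow_neg_one]
    exact fun h => h5 (inv_mul_eq_one.1 h).symm

end weights

omit hn [Fintype K]

/-- The coordinate groups of the layers. -/
def layerE6P (K : Type*) [Field K] (p n : ℕ) [ExpChar K p] (i : ℕ) : AddSubgroup K :=
  if i ∈ longE6 then (RingHom.eqLocusField (iterateFrobenius K p n) (RingHom.id K)).toSubring.toAddSubgroup
  else ⊤

theorem mem_layerE6P_long {i : ℕ} (hi : i ∈ longE6) {t : K} :
    t ∈ layerE6P K p n i ↔ t ^ p ^ n = t := by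
  rw [layerE6P, if_pos hi]
  show iterateFrobenius K p n t = RingHom.id K t ↔ _
  rw [iterateFrobenius_def, RingHom.id_apply]

theorem mem_layerE6P_short {i : ℕ} (hi : i ∉ longE6) (t : K) : t ∈ layerE6P K p n i := by
  rw [layerE6P, if_neg hi]; trivial

/-- The parameters of the torus. -/
def parsE6 (K : Type*) [Field K] (p n : ℕ) : Set (Fin chevE6.rank → Kˣ) :=
  {c | ∃ g w, c = parE6 (p ^ n) g w}

theorem coord_duo {i : ℕ} (hi : i < 24) (hs : i ∉ longE6) (q : ℕ) (t : K) :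
    (coreE6 K).coord (listSet (lev chE6 i)) (rep chE6 i) (duo K q (rep chE6 i) t) = t := by
  have hc : chainCheck chevE6 (coreE6 K).R.α e6Sym.root chE6 = true := chE6_check
  have hi' : i < chE6.length := hi
  have hlev := level_at hc hi'
  obtain ⟨-, hm, hm', -, -⟩ := Frob.of_levelCheck ((chain_spec hc).2 i hi').1
  obtain ⟨hr, -, h2, -⟩ := paired_layers i hi hs
  have h2' := (pairedRoots _ hr).2.2.2.2.2.1
  rw [duo, (coreE6 K).coord_mul hlev hm hm' ((coreE6 K).xGL_mem_Ucl (S := listSet (lev chE6 i)) hm _)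
    ((coreE6 K).xGL_mem_Ucl (S := listSet (lev chE6 i)) h2 _),
    (coreE6 K).coord_xGL_self hlev hm hm',
    (coreE6 K).coord_of_mem hlev hm hm'
      ((coreE6 K).xGL_mem_Ucl (S := listSet (lev chE6 i) \ {rep chE6 i}) ⟨h2, h2'⟩ _), add_zero]

variable (hn : Fintype.card K = (p ^ n) * (p ^ n)) (hq : 2 ≤ p ^ n) (h3 : 3 ≤ p ^ n)

/-- The layers of ²E₆. -/
noncomputable def dataE6 : ChainData (frobE6 K p n) (twistedE6 K (p ^ n)) e6Sym.root chE6 where
  check := chE6_check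
  hρ _ := rfl
  le_fixed := le_fixedE6 K hn
  P := layerE6P K p n
  mem_P i hi g hg := by
    by_cases hl : i ∈ longE6
    · obtain ⟨-, hr, -⟩ := fixed_layers i hl
      obtain ⟨h0, -, hroot, hsign⟩ := fixedRoots _ hr
      have h := (frobE6 K p n).coord_fixed (root := e6Sym.root) (fun _ => rfl) (r := ⟨rep chE6 i, h0⟩)
        (((chain_spec (C := coreE6 K) chE6_check).2 i hi).1)
        (lev_closed (C := coreE6 K) chE6_check i) hroot hg
      have h' : (e6Sym.sign (rep chE6 i) : K) *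
          (coreE6 K).coord (listSet (lev chE6 i)) (rep chE6 i) g ^ p ^ n =
          (coreE6 K).coord (listSet (lev chE6 i)) (rep chE6 i) g := h
      rw [hsign, Int.cast_one, one_mul] at h'
      exact (mem_layerE6P_long hl).2 h'
    · exact mem_layerE6P_short hl _
  gen i hi a ha := by
    by_cases hl : i ∈ longE6
    · obtain ⟨-, hr, hm, -⟩ := fixed_layers i hl
      refine ⟨(coreE6 K).xGL (rep chE6 i) a,
        (coreE6 K).xGL_mem_Ucl (S := listSet (lev chE6 i)) hm a,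
        fixed_mem hn hq hr ((mem_layerE6P_long hl).1 ha), ?_⟩
      obtain ⟨-, h2, h3', -, -⟩ := Frob.of_levelCheck ((chain_spec (C := coreE6 K) chE6_check).2 i hi).1
      exact (coreE6 K).coord_xGL_self (level_at (C := coreE6 K) chE6_check hi) h2 h3' a
    · obtain ⟨hr, h1, h2, -⟩ := paired_layers i hi hl
      exact ⟨duo K (p ^ n) (rep chE6 i) a, duo_mem_Ucl _ a h1 h2, duo_mem hn hq hr a,
        coord_duo hi hl _ a⟩
  params := parsE6 K p n
  torus_mem := by
    rintro _ ⟨g, w, rfl⟩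
    exact torus_memE6 hn g w
  moves i hi := by
    obtain ⟨g, hg⟩ := exists_regular hn h3
    refine ⟨_, ⟨g, scalW i, rfl⟩, fun e => ?_⟩
    have e' : rootDataE6.torusChar (parE6 (p ^ n) g (scalW i)) (rootDataE6.α (rep chE6 i)) = 1 :=
      Units.ext e
    by_cases hl : i ∈ longE6
    · obtain ⟨-, hr, -, hw⟩ := fixed_layers i hl
      rw [weight_parE6 hn g _ (fixedRoots _ hr).1, hw] at e'
      exact hg _ (by simp [smallExp]) e'
    · obtain ⟨hr, -, -, hw⟩ := paired_layers i hi hl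
      rw [weight_parE6 hn g _ (pairedRoots _ hr).1, hw] at e'
      exact hg _ (by simp [smallExp]) e'

end CfsgLib.TwistMult
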