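import Cfsg.Agent.Lib.TwistMult.Chain
import Cfsg.Agent.Lib.TwistedStr.TorusE6
import Cfsg.Agent.Lib.TwistedStr.WeylE6

/-!
# Root tables for the layers of ²E₆
-/

set_option autoImplicit false

namespace CfsgLib.TwistMult

open Cfsg.Lie CfsgLib.ChevStr CfsgLib.Twisted

/-- The chain of the positive roots by orbits, ordered by height. -/
def chE6 : List (List ℕ × ℕ) :=
  [([36,56,37,42,39,46,38,57,40,43,47,41,58,44,48,50,45,59,49,61,51,52,62,53,60,54,64,63,55,67,65,66,68,69,70,71], 36),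
    ([37,42,39,46,38,57,40,43,47,41,58,44,48,50,45,59,49,61,51,52,62,53,60,54,64,63,55,67,65,66,68,69,70,71], 37),
    ([39,46,38,57,40,43,47,41,58,44,48,50,45,59,49,61,51,52,62,53,60,54,64,63,55,67,65,66,68,69,70,71], 39),
    ([46,38,57,40,43,47,41,58,44,48,50,45,59,49,61,51,52,62,53,60,54,64,63,55,67,65,66,68,69,70,71], 46),
    ([38,57,40,43,47,41,58,44,48,50,45,59,49,61,51,52,62,53,60,54,64,63,55,67,65,66,68,69,70,71], 38),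
    ([40,43,47,41,58,44,48,50,45,59,49,61,51,52,62,53,60,54,64,63,55,67,65,66,68,69,70,71], 40),
    ([47,41,58,44,48,50,45,59,49,61,51,52,62,53,60,54,64,63,55,67,65,66,68,69,70,71], 47),
    ([41,58,44,48,50,45,59,49,61,51,52,62,53,60,54,64,63,55,67,65,66,68,69,70,71], 41),
    ([44,48,50,45,59,49,61,51,52,62,53,60,54,64,63,55,67,65,66,68,69,70,71], 44),
    ([48,50,45,59,49,61,51,52,62,53,60,54,64,63,55,67,65,66,68,69,70,71], 48),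
    ([45,59,49,61,51,52,62,53,60,54,64,63,55,67,65,66,68,69,70,71], 45),
    ([49,61,51,52,62,53,60,54,64,63,55,67,65,66,68,69,70,71], 49),
    ([51,52,62,53,60,54,64,63,55,67,65,66,68,69,70,71], 51),
    ([52,62,53,60,54,64,63,55,67,65,66,68,69,70,71], 52),
    ([53,60,54,64,63,55,67,65,66,68,69,70,71], 53),
    ([60,54,64,63,55,67,65,66,68,69,70,71], 60),
    ([54,64,63,55,67,65,66,68,69,70,71], 54),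
    ([63,55,67,65,66,68,69,70,71], 63),
    ([55,67,65,66,68,69,70,71], 55),
    ([65,66,68,69,70,71], 65),
    ([66,68,69,70,71], 66),
    ([69,70,71], 69),
    ([70,71], 70),
    ([71], 71)]

/-- The layers over fixed roots. -/
def longE6 : List ℕ := [2,3,6,8,12,14,15,17,19,21,22,23]

/-- The representatives over fixed roots. -/
def fixedE6 : List ℕ := [39,46,47,44,51,53,60,63,65,69,70,71]

/-- The representatives over orbits of two roots. -/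
def pairedE6 : List ℕ := [36,37,38,40,41,48,45,49,52,54,55,66]

/-- Exponents giving a layer the weight of a chosen element. -/
def scalE6 : List (List ℤ) :=
  [[0,0,0,-1,0,0],
    [0,-1,0,0,0,0],
    [0,0,-1,0,0,0],
    [0,0,0,0,0,-1],
    [0,0,0,1,0,0],
    [0,-1,0,0,0,0],
    [0,0,-1,0,0,0],
    [0,0,-1,0,0,0],
    [-1,0,0,0,0,0],
    [0,-1,0,0,0,0],
    [0,0,1,0,0,0],
    [0,0,-1,0,0,0],
    [-1,0,0,0,0,0],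
    [0,0,1,0,0,0],
    [-1,0,0,0,0,0],
    [0,0,0,0,-1,0],
    [0,0,0,-1,0,0],
    [0,0,0,0,0,-1],
    [-1,0,0,0,0,0],
    [0,0,-1,0,0,0],
    [1,0,0,0,0,0],
    [0,0,0,0,0,-1],
    [0,0,0,0,-1,0],
    [0,0,0,0,1,0]]

/-- Exponents fixing one weight of a pair and moving the other. -/
def pairWtE6 : List (List (List ℤ)) :=
  [[],
    [[0,0,0,0,0,-1]],
    [[0,0,0,0,-1,0], [-1,0,0,0,0,0]],
    [[0,0,-1,0,0,0], [-1,0,0,0,0,0], [0,0,-1,0,0,0]],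
    [[0,0,0,0,0,-1], [0,0,-1,-1,0,-1], [-1,0,0,0,0,0], [-1,0,0,0,0,0]],
    [[0,0,0,0,-1,0], [0,0,0,0,-1,0], [-1,0,0,0,0,0], [-1,0,0,0,0,0], [0,0,0,0,-1,0]],
    [[0,0,0,0,-1,0], [-1,0,0,0,0,0], [0,0,-1,0,0,-1], [0,0,-1,0,0,0], [-1,0,0,0,0,0], [-1,0,0,0,0,0]],
    [[0,0,0,0,-1,0], [0,0,0,0,-1,0], [-1,0,0,0,0,0], [-1,0,0,0,0,0], [0,0,0,0,-1,0], [0,0,-1,-1,0,0], [-1,0,0,0,0,0]],
    [[0,0,0,0,-1,0], [0,0,0,0,-1,0], [-1,0,0,0,0,0], [-1,0,0,0,0,0], [0,0,0,0,-1,0], [0,0,0,0,0,-1], [-1,0,0,0,0,0], [0,0,0,0,0,-1]],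
    [[0,0,0,0,-1,0], [0,0,0,0,-1,0], [-1,0,0,0,0,0], [-1,0,0,0,0,0], [0,0,0,0,-1,0], [0,0,0,0,0,-1], [-1,0,0,0,0,0], [0,0,0,0,0,-1], [-1,0,-1,0,0,0]],
    [[0,0,0,0,-1,0], [0,0,0,0,-1,0], [-1,0,0,0,0,0], [-1,0,0,0,0,0], [0,0,0,0,-1,0], [0,0,0,0,0,-1], [-1,0,0,0,0,0], [0,0,0,0,0,-1], [-1,0,-1,0,0,0], [-1,-1,0,0,0,0]],
    [[0,0,0,0,-1,0], [0,0,0,0,-1,0], [-1,0,0,0,0,0], [-1,0,0,0,0,0], [0,0,0,0,-1,0], [0,0,0,0,0,-1], [-1,0,0,0,0,0], [0,0,0,0,0,-1], [-1,0,-1,0,0,0], [0,0,-1,-1,0,0], [-1,-1,0,0,0,0]],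
    [[0,0,0,0,-1,0], [0,0,0,0,-1,0], [-1,0,0,0,0,0], [-1,0,0,0,0,0], [0,0,0,0,-1,0], [-1,0,-1,0,0,0], [-1,0,0,0,0,0], [-1,0,-1,0,0,0], [0,0,0,0,0,-1], [0,0,0,0,0,-1], [0,0,0,0,0,-1], [0,0,0,0,0,-1]],
    [[0,0,0,0,-1,0], [0,0,0,0,-1,0], [-1,0,0,0,0,0], [-1,0,0,0,0,0], [0,0,0,0,-1,0], [-1,-1,0,0,0,0], [-1,0,0,0,0,0], [-1,-1,0,0,0,0], [0,0,0,0,0,-1], [0,0,0,0,0,-1], [0,0,0,0,0,-1], [0,0,0,0,0,-1], [-1,0,-1,0,0,0]],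
    [[0,0,-1,0,0,0], [-1,1,0,0,0,0], [-1,0,0,0,0,0], [-1,0,0,0,0,0], [0,0,-1,0,0,0], [0,0,-1,0,0,0], [-1,0,0,0,0,0], [0,0,-1,0,0,0], [0,0,-1,0,0,0], [0,0,-1,0,0,0], [0,0,-1,0,0,0], [0,0,-1,0,0,0], [0,0,-1,0,0,0], [0,0,-1,0,0,0]],
    [[0,0,-1,0,0,0], [0,0,0,0,-1,0], [-1,0,0,0,0,0], [-1,0,0,0,0,0], [0,0,-1,0,0,0], [0,0,-1,0,0,0], [-1,0,0,0,0,0], [0,0,-1,0,0,0], [0,0,-1,0,0,0], [0,0,-1,0,0,0], [0,0,-1,0,0,0], [0,0,-1,0,0,0], [0,0,-1,0,0,0], [0,0,-1,0,0,0], [0,0,0,0,-1,0]],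
    [[0,0,0,0,0,-1], [-1,-1,0,0,0,0], [-1,0,0,0,0,0], [-1,0,0,0,0,0], [-1,-1,0,0,0,0], [0,0,0,0,-1,0], [-1,0,0,0,0,0], [0,0,0,0,-1,0], [0,0,0,0,-1,0], [0,0,0,0,-1,0], [0,0,0,0,-1,0], [0,0,0,0,-1,0], [0,0,0,0,-1,0], [0,0,0,0,-1,0], [0,0,-1,0,0,0], [0,0,-1,0,0,0]],
    [[0,0,-1,0,0,0], [0,0,0,0,-1,0], [-1,0,0,0,0,0], [-1,0,0,0,0,0], [0,0,-1,0,0,0], [0,0,-1,0,0,0], [-1,0,0,0,0,0], [0,0,-1,0,0,0], [0,0,-1,0,0,0], [0,0,-1,0,0,0], [0,0,-1,0,0,0], [0,0,-1,0,0,0], [0,0,-1,0,0,0], [0,0,-1,0,0,0], [0,0,0,0,-1,0], [0,0,0,0,0,-1], [0,0,-1,0,0,0]],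
    [[-1,-1,-1,-1,0,0], [0,0,0,0,0,-1], [-1,0,0,0,0,0], [-1,0,0,0,0,0], [0,0,0,0,0,-1], [0,0,0,0,-1,0], [-1,0,0,0,0,0], [0,0,0,0,-1,0], [0,0,0,0,-1,0], [0,0,0,0,-1,0], [0,0,0,0,-1,0], [0,0,0,0,-1,0], [0,0,0,0,-1,0], [0,0,0,0,-1,0], [0,0,-1,0,0,0], [0,0,-1,0,0,0], [0,0,0,0,0,-1], [0,0,-1,0,0,0]],
    [[0,0,0,0,0,-1], [-1,0,-1,0,0,0], [-1,0,0,0,0,0], [-1,0,0,0,0,0], [-1,0,0,-1,0,0], [0,0,0,0,-1,0], [-1,0,0,0,0,0], [0,0,0,0,-1,0], [0,0,0,0,-1,0], [0,0,0,0,-1,0], [0,0,0,0,-1,0], [0,0,0,0,-1,0], [0,0,0,0,-1,0], [0,0,0,0,-1,0], [0,0,-1,0,0,0], [0,0,-1,0,0,0], [-1,0,-1,0,0,0], [0,0,-1,0,0,0], [0,0,0,0,0,-1]],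
    [[0,0,-1,-1,0,0], [0,0,0,0,0,-1], [-1,0,0,0,0,0], [-1,0,0,0,0,0], [0,0,0,0,0,-1], [0,0,0,0,-1,0], [-1,0,0,0,0,0], [0,0,0,0,-1,0], [0,0,0,0,-1,0], [0,0,0,0,-1,0], [0,0,0,0,-1,0], [0,0,0,0,-1,0], [0,0,0,0,-1,0], [0,0,0,0,-1,0], [0,0,-1,0,0,0], [0,0,-1,0,0,0], [0,0,0,0,0,-1], [0,0,-1,0,0,0], [0,0,-1,-1,0,0], [0,0,0,0,0,-1]],
    [[0,0,0,0,0,-1], [-1,0,0,0,0,0], [0,0,0,0,-1,0], [0,0,-1,0,0,0], [-1,0,0,0,0,0], [-1,0,0,0,0,0], [0,0,0,0,-1,0], [-1,0,0,0,0,0], [-1,0,0,0,0,0], [-1,0,0,0,0,0], [-1,0,0,0,0,0], [-1,0,0,0,0,0], [-1,0,0,0,0,0], [-1,0,0,0,0,0], [-1,0,0,0,0,0], [-1,0,0,0,0,0], [-1,0,0,0,0,0], [-1,0,0,0,0,0], [-1,0,0,0,0,0], [-1,0,0,0,0,0], [-1,0,0,0,0,0]],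
    [[0,0,-1,0,0,0], [-1,0,0,0,0,0], [0,0,-1,0,0,0], [0,0,0,0,-1,-1], [-1,0,0,0,0,0], [-1,0,0,0,0,0], [0,0,-1,0,0,0], [-1,0,0,0,0,0], [-1,0,0,0,0,0], [-1,0,0,0,0,0], [-1,0,0,0,0,0], [-1,0,0,0,0,0], [-1,0,0,0,0,0], [-1,0,0,0,0,0], [-1,0,0,0,0,0], [-1,0,0,0,0,0], [-1,0,0,0,0,0], [-1,0,0,0,0,0], [-1,0,0,0,0,0], [-1,0,0,0,0,0], [-1,0,0,0,0,0], [0,0,-1,0,0,0]],
    [[0,0,-1,0,0,0], [-1,0,0,0,0,0], [0,0,-1,0,0,0], [0,0,0,0,0,-1], [-1,0,0,0,0,0], [-1,0,0,0,0,0], [0,0,-1,0,0,0], [-1,0,0,0,0,0], [-1,0,0,0,0,0], [-1,0,0,0,0,0], [-1,0,0,0,0,0], [-1,0,0,0,0,0], [-1,0,0,0,0,0], [-1,0,0,0,0,0], [-1,0,0,0,0,0], [-1,0,0,0,0,0], [-1,0,0,0,0,0], [-1,0,0,0,0,0], [-1,0,0,0,0,0], [-1,0,0,0,0,0], [-1,0,0,0,0,0], [0,0,-1,0,0,0], [0,0,0,0,0,-1]]]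

/-- The two exponents of the weight of a torus element given by six exponents. -/
def wtExp (r : ℕ) (w : List ℤ) : ℤ × ℤ :=
  let k := fun j => chevE6.cartan j r
  let x := fun j => w.getD j 0
  (k 0 * x 0 + k 5 * x 1 + k 2 * x 2 + k 4 * x 3 + k 1 * x 4 + k 3 * x 5,
    k 0 * x 1 + k 5 * x 0 + k 2 * x 3 + k 4 * x 2 + k 1 * x 4 + k 3 * x 5)

/-- The exponent pairs of weights different from one. -/
def smallExp : List (ℤ × ℤ) := [(1, 0), (-1, 0), (0, 1), (0, -1), (1, 1), (-1, -1), (1, -1), (-1, 1)]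

/-- The chosen exponents of a layer. -/
def scalW (i : ℕ) : List ℤ := scalE6.getD i []

/-- The chosen exponents of a pair of layers. -/
def pairW (i j : ℕ) : List ℤ := (pairWtE6.getD i []).getD j []

theorem chE6_check : chainCheck chevE6 rootDataE6.α e6Sym.root chE6 = true := by decide +kernel

theorem chE6_length : chE6.length = 24 := by decide

theorem pairedRoots : ∀ r ∈ pairedE6,
    r < chevE6.nroots ∧ chevE6.IsPosRoot r ∧ chevE6.IsPosRoot (e6Sym.root r) ∧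
      e6Sym.root (e6Sym.root r) = r ∧ e6Sym.sign (e6Sym.root r) * e6Sym.sign r = 1 ∧
      e6Sym.root r ≠ r ∧ e6Sym.root r ≠ chevE6.neg r ∧ chevE6.commTerms r (e6Sym.root r) = [] := by
  decide +kernel

theorem fixedRoots : ∀ r ∈ fixedE6,
    r < chevE6.nroots ∧ chevE6.IsPosRoot r ∧ e6Sym.root r = r ∧ e6Sym.sign r = 1 := by
  decide +kernel

theorem fixed_layers : ∀ i ∈ longE6,
    i < 24 ∧ rep chE6 i ∈ fixedE6 ∧ rep chE6 i ∈ lev chE6 i ∧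
      wtExp (rep chE6 i) (scalW i) = (1, 1) := by decide +kernel

theorem paired_layers : ∀ i, i < 24 → i ∉ longE6 →
    rep chE6 i ∈ pairedE6 ∧ rep chE6 i ∈ lev chE6 i ∧ e6Sym.root (rep chE6 i) ∈ lev chE6 i ∧
      wtExp (rep chE6 i) (scalW i) = (1, 0) := by decide +kernel

theorem pair_weights_fin : ∀ i j : Fin 24, (j : ℕ) < i →
    (wtExp (rep chE6 j) (pairW i j) = (0, 0) ∧ wtExp (rep chE6 i) (pairW i j) ∈ smallExp) ∨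
      (wtExp (rep chE6 i) (pairW i j) = (0, 0) ∧ wtExp (rep chE6 j) (pairW i j) ∈ smallExp) := by
  decide +kernel

theorem pair_weights : ∀ i, i < 24 → ∀ j, j < i →
    (wtExp (rep chE6 j) (pairW i j) = (0, 0) ∧ wtExp (rep chE6 i) (pairW i j) ∈ smallExp) ∨
      (wtExp (rep chE6 i) (pairW i j) = (0, 0) ∧ wtExp (rep chE6 j) (pairW i j) ∈ smallExp) :=
  fun i hi j hji => pair_weights_fin ⟨i, hi⟩ ⟨j, hji.trans hi⟩ hji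

theorem topTables : chevE6.commTerms 46 70 = [(71, 1, 1, 1)] ∧ chevE6.commTerms 46 71 = [] ∧
    chevE6.commTerms 70 71 = [] ∧ (70 : ℕ) ≠ 46 ∧ (70 : ℕ) ≠ chevE6.neg 46 ∧
    (71 : ℕ) ≠ chevE6.neg 46 ∧ (71 : ℕ) ≠ chevE6.neg 70 := by decide +kernel

/-- Reflections moving each fixed root towards the highest one. -/
def pathE6 : List (ℕ × Fin 4 × ℕ) :=
  [(70, 3, 71), (69, 2, 70), (65, 1, 69), (63, 2, 65), (60, 3, 63), (53, 0, 65), (51, 2, 53),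
    (44, 3, 51), (47, 1, 51), (39, 3, 47), (46, 2, 47)]

theorem pathE6_spec : ∀ s ∈ pathE6, s.1 ∈ fixedE6 ∧ s.2.2 ∈ fixedE6 ∧
    ∀ k : Fin chevE6.nroots, (k : ℕ) = s.1 →
      (reflDataE6.wordPerm (e6TwistWord s.2.1) k : ℕ) = s.2.2 := by decide +kernel

end CfsgLib.TwistMult
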