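import Cfsg.Agent.Lib.TwistMult.RankOne
import Cfsg.Agent.Lib.TwistedStr.OrbitTorus
import Cfsg.Agent.Lib.Twisted.WeylQuot

/-!
# The rank-one data from commuting fundamental root groups twisted by field automorphisms
-/

set_option autoImplicit false
set_option linter.unusedSectionVars false

namespace CfsgLib.TwistMult

open Cfsg.Lie CfsgLib.ChevStr CfsgLib.ChevStr.ChevCore CfsgLib.Twisted
open scoped MatrixGroups

universe u

variable {D : ChevalleyDatum} {K : Type u} [Field K] (C : ChevCore D K) (hη : C.EtaNeg)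
  (p : ℕ) [ExpChar K p]

theorem frob_zero (e : ℕ) : (0 : K) ^ p ^ e = 0 :=
  zero_pow (pow_ne_zero e (expChar_pos K p).ne')

/-- The field twist of a node. -/
noncomputable def slFrob (E : Subfield K) (e : ℕ) :
    Matrix.SpecialLinearGroup (Fin 2) ↥E →* Matrix.SpecialLinearGroup (Fin 2) K :=
  Matrix.SpecialLinearGroup.map ((iterateFrobenius K p e).comp E.subtype)

theorem slFrob_slX (E : Subfield K) (e : ℕ) (t : ↥E) :
    slFrob p E e (slX t) = slX ((t : K) ^ p ^ e) := by
  ext a b
  fin_cases a <;> fin_cases b <;> simp [slFrob, iterateFrobenius_def, frob_zero]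

theorem slFrob_slY (E : Subfield K) (e : ℕ) (t : ↥E) :
    slFrob p E e (slY t) = slY ((t : K) ^ p ^ e) := by
  ext a b
  fin_cases a <;> fin_cases b <;> simp [slFrob, iterateFrobenius_def, frob_zero]

theorem slFrob_slW (E : Subfield K) (e : ℕ) : slFrob p E e slW = slW := by
  ext a b
  fin_cases a <;> fin_cases b <;> simp [slFrob, iterateFrobenius_def, frob_zero]
  exact neg_one_pow_expChar p e

theorem slFrob_dia (E : Subfield K) (e : ℕ) (u : (↥E)ˣ) :
    slFrob p E e (dia u) = dia ((Units.map E.subtype.toMonoidHom u) ^ p ^ e) := by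
  ext a b
  fin_cases a <;> fin_cases b <;>
    simp [slFrob, dia, CfsgLib.Schur.slDiag_coe, iterateFrobenius_def, frob_zero, ← map_pow]

theorem commute_slHom {i j : Fin D.rank} (h : CommPair D (D.simple i.val) (D.simple j.val))
    (s t : Matrix.SpecialLinearGroup (Fin 2) K) : Commute (C.slHom i hη s) (C.slHom j hη t) := by
  have key : ∀ a ∈ [D.simple i.val, D.neg (D.simple i.val)], ∀ x : K,
      Commute (C.slHom j hη t) (C.xGL a x) := fun a ha x => by
    refine sl_decomp (fun t => Commute (C.slHom j hη t) (C.xGL a x)) (fun y => ?_) (fun y => ?_)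
      (fun g g' hg hg' => by rw [map_mul]; exact hg.mul_left hg') t
    · rw [RegTorus.slHom_slX]; exact h.commute C a ha _ (by simp) x y
    · rw [RegTorus.slHom_slY]; exact h.commute C a ha _ (by simp) x y
  refine sl_decomp (fun s => Commute (C.slHom i hη s) (C.slHom j hη t)) (fun x => ?_) (fun x => ?_)
    (fun g g' hg hg' => by rw [map_mul]; exact hg.mul_left hg') s
  · rw [RegTorus.slHom_slX]; exact (key _ (by simp) x).symm
  · rw [RegTorus.slHom_slY]; exact (key _ (by simp) x).symm

/-- The product over a list of twisted nodes. -/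
noncomputable def ofun (E : Subfield K) (L : List (Fin D.rank × ℕ))
    (s : Matrix.SpecialLinearGroup (Fin 2) ↥E) : GL D.Idx K :=
  (L.map fun je => C.slHom je.1 hη (slFrob p E je.2 s)).prod

/-- The pairwise orthogonality of the nodes of a list. -/
def PairOK (D : ChevalleyDatum) (L : List (Fin D.rank × ℕ)) : Prop :=
  L.Pairwise fun a b => CommPair D (D.simple a.1.val) (D.simple b.1.val)

theorem ofun_mul (E : Subfield K) : ∀ {L : List (Fin D.rank × ℕ)}, PairOK D L →
    ∀ s t, ofun C hη p E L (s * t) = ofun C hη p E L s * ofun C hη p E L t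
  | [], _, s, t => by simp [ofun]
  | a :: L, hL, s, t => by
    obtain ⟨h1, h2⟩ := List.pairwise_cons.1 hL
    have hc : Commute (C.slHom a.1 hη (slFrob p E a.2 t)) (ofun C hη p E L s) :=
      Commute.list_prod_right _ _ fun y hy => by
        obtain ⟨b, hb, rfl⟩ := List.mem_map.1 hy
        exact commute_slHom C hη (h1 b hb) _ _
    have ih := ofun_mul E (L := L) h2 s t
    simp only [ofun, List.map_cons, List.prod_cons, map_mul] at hc ih ⊢
    rw [ih, hc.mul_mul_mul_comm]

/-- The homomorphism of an orbit. -/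
noncomputable def ohom (E : Subfield K) {L : List (Fin D.rank × ℕ)} (hL : PairOK D L) :
    Matrix.SpecialLinearGroup (Fin 2) ↥E →* GL D.Idx K :=
  MonoidHom.mk' (ofun C hη p E L) (ofun_mul C hη p E hL)

/-- The root word of an orbit. -/
def oword (L : List (Fin D.rank × ℕ)) (t : K) : List (ℕ × K) :=
  L.map fun je => (D.simple je.1.val, t ^ p ^ je.2)

/-- The opposite root word of an orbit. -/
def owordNeg (L : List (Fin D.rank × ℕ)) (t : K) : List (ℕ × K) :=
  L.map fun je => (D.neg (D.simple je.1.val), t ^ p ^ je.2)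

theorem ohom_slX (E : Subfield K) {L : List (Fin D.rank × ℕ)} (hL : PairOK D L) (t : ↥E) :
    ohom C hη p E hL (slX t) = C.wordGL (oword p L (t : K)) := by
  show ofun C hη p E L (slX t) = _
  clear hL
  induction L with
  | nil => simp [ofun, oword, C.wordGL_nil]
  | cons a L ih =>
    simp only [ofun, oword, List.map_cons, List.prod_cons, C.wordGL_cons] at ih ⊢
    rw [ih, slFrob_slX, RegTorus.slHom_slX]
    rfl

theorem ohom_slY (E : Subfield K) {L : List (Fin D.rank × ℕ)} (hL : PairOK D L) (t : ↥E) :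
    ohom C hη p E hL (slY t) = C.wordGL (owordNeg p L (t : K)) := by
  show ofun C hη p E L (slY t) = _
  clear hL
  induction L with
  | nil => simp [ofun, owordNeg, C.wordGL_nil]
  | cons a L ih =>
    simp only [ofun, owordNeg, List.map_cons, List.prod_cons, C.wordGL_cons] at ih ⊢
    rw [ih, slFrob_slY, RegTorus.slHom_slY]
    rfl

theorem ohom_dia (E : Subfield K) {L : List (Fin D.rank × ℕ)} (hL : PairOK D L) (u : (↥E)ˣ) :
    ohom C hη p E hL (dia u) =
      (L.map fun je => C.R.torusSingle je.1 ((Units.map E.subtype.toMonoidHom u) ^ p ^ je.2)).prod := by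
  show ofun C hη p E L (dia u) = _
  rw [ofun]
  congr 1
  refine List.map_congr_left fun je _ => ?_
  rw [slFrob_dia]
  set w := (Units.map E.subtype.toMonoidHom u) ^ p ^ je.2
  rw [show (dia w : Matrix.SpecialLinearGroup (Fin 2) K) = RegTorus.mkSL (w : K) 0 0 ↑w⁻¹ (by simp) from
    Subtype.ext (CfsgLib.Schur.slDiag_coe w), RegTorus.slHom_diag]

theorem ohom_dia_mem (E : Subfield K) {L : List (Fin D.rank × ℕ)} (hL : PairOK D L) (u : (↥E)ˣ) :
    ohom C hη p E hL (dia u) ∈ D.diagonalSubgroup K := by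
  rw [ohom_dia, C.diagonalSubgroup_eq]
  refine Subgroup.list_prod_mem _ fun x hx => ?_
  obtain ⟨je, -, rfl⟩ := List.mem_map.1 hx
  exact ⟨_, rfl⟩

theorem ohom_slW (E : Subfield K) {L : List (Fin D.rank × ℕ)} (hL : PairOK D L) :
    ohom C hη p E hL slW ∈ D.monomialSubgroup K ∧
      C.Moves (ohom C hη p E hL slW) (C.hR.wordPerm (L.map Prod.fst)) := by
  show ofun C hη p E L slW ∈ D.monomialSubgroup K ∧
    C.Moves (ofun C hη p E L slW) (C.hR.wordPerm (L.map Prod.fst))
  clear hL
  induction L with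
  | nil =>
    simp only [ofun, List.map_nil, List.prod_nil, ReflData.wordPerm]
    exact ⟨one_mem _, moves_one_of_diag (one_mem _)⟩
  | cons a L ih =>
    have e : C.slHom a.1 hη (slFrob p E a.2 slW) = C.R.torusSingle a.1 1 * C.nS a.1 := by
      rw [slFrob_slW, show C.slHom a.1 hη slW = C.rN a.1 1 from C.slMap_slW a.1, ← C.nGL_simple,
        Units.val_one]
      rfl
    have hd : C.R.torusSingle a.1 (1 : Kˣ) ∈ D.diagonalSubgroup K := by
      rw [C.diagonalSubgroup_eq]; exact ⟨_, rfl⟩
    simp only [ofun, List.map_cons, List.prod_cons, ReflData.wordPerm, e] at ih ⊢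
    refine ⟨mul_mem (mul_mem (diag_le_monomial hd) (C.nS_mem_monomial _)) ih.1, ?_⟩
    refine ChevCore.Moves.mul C ?_ ih.2
    have h := ChevCore.Moves.mul C (moves_one_of_diag hd) (ChevCore.Acts.moves C (C.acts_nS a.1))
    rwa [one_mul] at h

theorem torus_conj_ohom (E : Subfield K) {L : List (Fin D.rank × ℕ)} (hL : PairOK D L)
    (c : Fin D.rank → Kˣ) (v : (↥E)ˣ)
    (hv : ∀ je ∈ L, C.R.torusChar c (C.R.α (D.simple je.1.val)) =
      (Units.map E.subtype.toMonoidHom v) ^ p ^ je.2)
    (s : Matrix.SpecialLinearGroup (Fin 2) ↥E) :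
    C.R.torus c * ohom C hη p E hL s * (C.R.torus c)⁻¹ =
      ohom C hη p E hL (RegTorus.slDiag v s) := by
  show C.R.torus c * ofun C hη p E L s * _ = ofun C hη p E L _
  clear hL
  induction L with
  | nil => simp [ofun]
  | cons a L ih =>
    have ih' := ih fun je hje => hv je (List.mem_cons_of_mem _ hje)
    have e : slFrob p E a.2 (RegTorus.slDiag v s) =
        RegTorus.slDiag (C.R.torusChar c (C.R.α (D.simple a.1.val))) (slFrob p E a.2 s) := by
      rw [hv a List.mem_cons_self]
      ext i j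
      fin_cases i <;> fin_cases j <;>
        simp [slFrob, RegTorus.slDiag, iterateFrobenius_def, mul_pow]
    simp only [ofun, List.map_cons, List.prod_cons] at ih' ⊢
    rw [e, ← RegTorus.torus_conj_slHom, ← ih']
    group

section data

variable [Fintype K] {φ : Frob C} {I : Type} {O : OrbitData C.R φ.ρ I} {G1 : Subgroup (GL D.Idx K)}
  {d : ℕ}

/-- The facts making the orbit homomorphisms into rank-one data. -/
structure OrbitSpec (g : Gens φ O G1 d) (E : I → Subfield K) (lead : I → Fin D.rank)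
    (rest : I → List (Fin D.rank × ℕ)) : Prop where
  pair : ∀ i, PairOK D ((lead i, 0) :: rest i)
  nodes : ∀ i, ∀ je ∈ (lead i, 0) :: rest i, je.1 ∈ O.J i
  rest_ne : ∀ i, ∀ je ∈ rest i, je.1 ≠ lead i
  wneg : ∀ i, ∀ j ∈ O.J i, D.IsNegRoot
    (C.hR.wordPerm (((lead i, 0) :: rest i).map Prod.fst) ⟨D.simple j.val, C.R.simple_lt j⟩)
  gen : ∀ i, ∀ t ∈ E i, C.wordGL (oword p ((lead i, 0) :: rest i) t) ∈ G1 ∧
    C.wordGL (owordNeg p ((lead i, 0) :: rest i) t) ∈ G1
  card : ∀ i, Nat.card ↥(φ.fixU (inRoots C.R (O.J i))) = Nat.card ↥(E i)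
  char_mem : ∀ i, ∀ c, C.R.torus c ∈ G1 →
    (C.R.torusChar c (C.R.α (D.simple (lead i).val)) : K) ∈ E i
  char_rest : ∀ i, ∀ c, C.R.torus c ∈ G1 → ∀ je ∈ rest i,
    C.R.torusChar c (C.R.α (D.simple je.1.val)) =
      C.R.torusChar c (C.R.α (D.simple (lead i).val)) ^ p ^ je.2
  tor : ∀ x ∈ D.diagonalSubgroup K, x ∈ G1 → x ∈ Subgroup.closure (⋃ i, Set.range fun u : (↥(E i))ˣ =>
    (((lead i, 0) :: rest i).map fun je =>
      C.R.torusSingle je.1 ((Units.map (E i).subtype.toMonoidHom u) ^ p ^ je.2)).prod)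

variable {g : Gens φ O G1 d} {E : I → Subfield K} {lead : I → Fin D.rank}
  {rest : I → List (Fin D.rank × ℕ)} (H : OrbitSpec C p g E lead rest)
include H

theorem OrbitSpec.mem (i : I) (s : Matrix.SpecialLinearGroup (Fin 2) ↥(E i)) :
    ohom C hη p (E i) (H.pair i) s ∈ G1 :=
  RegTorus.slHom_mem (φ := ohom C hη p (E i) (H.pair i))
    (fun t => by rw [ohom_slX]; exact (H.gen i t t.2).1)
    (fun t => by rw [ohom_slY]; exact (H.gen i t t.2).2) s

/-- The homomorphism into the group. -/
noncomputable def OrbitSpec.hom (i : I) : Matrix.SpecialLinearGroup (Fin 2) ↥(E i) →* ↥G1 :=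
  (ohom C hη p (E i) (H.pair i)).codRestrict G1 (H.mem C hη p i)

theorem OrbitSpec.X_inj (i : I) (t : ↥(E i)) (h : C.wordGL (oword p ((lead i, 0) :: rest i) (t : K)) = 1) :
    t = 0 := by
  rw [oword, List.map_cons, C.wordGL_cons, pow_zero, pow_one] at h
  set J : Finset (Fin D.rank) := {lead i}
  have ha : C.xGL (D.simple (lead i).val) (t : K) ∈ C.Ucl (inRoots C.R J) :=
    C.xGL_mem_Ucl (S := inRoots C.R J)
      ⟨C.R.simple_pos _, suppIn_simple (Finset.mem_singleton_self _)⟩ _
  have hc : C.wordGL (oword p (rest i) (t : K)) ∈ C.Ucl (outRoots C.R J) :=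
    C.wordGL_mem_Ucl fun q hq => by
      obtain ⟨je, hje, rfl⟩ := List.mem_map.1 hq
      refine ⟨C.R.simple_pos _, fun hs => ?_⟩
      have h1 := hs je.1 (by simpa [J] using H.rest_ne i je hje)
      rw [C.R.α_simple, Pi.single_eq_same] at h1
      exact one_ne_zero h1
  obtain ⟨h1, -⟩ := split_unique C J ha (one_mem _) hc (one_mem _) (h.trans (one_mul 1).symm)
  exact Subtype.ext ((C.xGL_eq_one_iff (C.R.simple_lt _)).1 h1)

theorem OrbitSpec.X_in (i : I) (t : ↥(E i)) :
    C.wordGL (oword p ((lead i, 0) :: rest i) (t : K)) ∈ φ.fixU (inRoots C.R (O.J i)) :=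
  Subgroup.mem_inf.2 ⟨C.wordGL_mem_Ucl fun q hq => by
    obtain ⟨je, hje, rfl⟩ := List.mem_map.1 hq
    exact ⟨C.R.simple_pos _, suppIn_simple (H.nodes i je hje)⟩,
    g.le_fixed (H.gen i t t.2).1⟩

/-- The rank-one data. -/
noncomputable def OrbitSpec.data : RankOneData g where
  E := E
  hom := H.hom C hη p
  X_in i t := by
    show ohom C hη p (E i) (H.pair i) (slX t) ∈ _
    rw [ohom_slX]; exact H.X_in C p i t
  X_surj i a ha := by
    let f : ↥(E i) → ↥(φ.fixU (inRoots C.R (O.J i))) := fun t => ⟨_, H.X_in C p i t⟩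
    have hf : Function.Injective f := fun s t e => by
      have e' : ohom C hη p (E i) (H.pair i) (slX s) = ohom C hη p (E i) (H.pair i) (slX t) := by
        rw [ohom_slX, ohom_slX]; exact congrArg Subtype.val e
      refine sub_eq_zero.1 (H.X_inj C p i (s - t) ?_)
      rw [← ohom_slX C hη p (E i) (H.pair i) (s - t)]
      refine mul_right_cancel (b := ohom C hη p (E i) (H.pair i) (slX t)) ?_
      rw [one_mul, ← map_mul, ← slX_add, sub_add_cancel, e']
    obtain ⟨t, ht⟩ := ((Nat.bijective_iff_injective_and_card f).2 ⟨hf, (H.card i).symm⟩).2 ⟨a, ha⟩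
    refine ⟨t, ?_⟩
    show ohom C hη p (E i) (H.pair i) (slX t) = a
    rw [ohom_slX]
    exact congrArg Subtype.val ht
  X_inj i t h := by
    have h' : ohom C hη p (E i) (H.pair i) (slX t) = 1 := congrArg Subtype.val h
    rw [ohom_slX] at h'
    exact H.X_inj C p i t h'
  dia_tor i u := ohom_dia_mem C hη p (E i) (H.pair i) u
  W_mono i := (ohom_slW C hη p (E i) (H.pair i)).1
  W_moves i := by
    rw [g.wJ_eq_word _ (fun a ha => ?_) (H.wneg i)]
    · exact (ohom_slW C hη p (E i) (H.pair i)).2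
    · obtain ⟨je, hje, rfl⟩ := List.mem_map.1 ha
      exact H.nodes i je hje
  tor_conj h hh i := by
    obtain ⟨c, hc⟩ : (h : GL D.Idx K) ∈ C.R.torus.range := C.diagonalSubgroup_eq ▸ hh
    have hcG : C.R.torus c ∈ G1 := hc ▸ h.2
    set χ := C.R.torusChar c (C.R.α (D.simple (lead i).val))
    let v : (↥(E i))ˣ := Units.mk0 ⟨_, H.char_mem i c hcG⟩ fun e => χ.ne_zero (congrArg Subtype.val e)
    have hv : Units.map (E i).subtype.toMonoidHom v = χ := Units.ext rfl
    refine ⟨v, ?_⟩
    have key : ∀ s, h * H.hom C hη p i s * h⁻¹ = H.hom C hη p i (RegTorus.slDiag v s) := fun s => by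
      refine Subtype.ext ?_
      show (h : GL D.Idx K) * ohom C hη p (E i) (H.pair i) s * (h : GL D.Idx K)⁻¹ =
        ohom C hη p (E i) (H.pair i) _
      rw [← hc, torus_conj_ohom C hη p (E i) (H.pair i) c v]
      intro je hje
      rw [hv]
      rcases List.mem_cons.1 hje with rfl | hje
      · rw [pow_zero, pow_one]
      · exact H.char_rest i c hcG je hje
    exact ⟨fun t => key _, fun t => key _⟩
  tor_gen := by
    intro x hx
    have h1 := H.tor (x : GL D.Idx K) hx x.2
    have h2 : Subgroup.closure (⋃ i, Set.range fun u : (↥(E i))ˣ =>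
        (((lead i, 0) :: rest i).map fun je =>
          C.R.torusSingle je.1 ((Units.map (E i).subtype.toMonoidHom u) ^ p ^ je.2)).prod) ≤
        (Subgroup.closure (⋃ i, Set.range fun u => H.hom C hη p i (dia u))).map G1.subtype := by
      rw [MonoidHom.map_closure, Set.image_iUnion]
      refine Subgroup.closure_mono (Set.iUnion_mono fun i => ?_)
      rintro _ ⟨u, rfl⟩
      exact ⟨_, ⟨u, rfl⟩, ohom_dia C hη p (E i) (H.pair i) u⟩
    obtain ⟨y, hy, hyx⟩ := h2 h1
    rwa [← show y = x from Subtype.ext hyx]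

end data

end CfsgLib.TwistMult
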