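import Cfsg.Agent.Lib.TwistMult.Lifted
import Cfsg.Agent.Lib.TwistMult.OrbitHom
import Cfsg.Agent.Lib.TwistedStr.TorusE6
import Cfsg.Agent.Lib.TwistedStr.Structure

/-!
# The rank-one data of ²E₆ and the bound on the kernels of its stem extensions
-/

set_option autoImplicit false
set_option linter.unusedSectionVars false
set_option linter.style.haveILetI false

namespace CfsgLib.TwistMult

open Cfsg.Lie CfsgLib.ChevStr CfsgLib.Twisted
open scoped MatrixGroups

universe u

theorem etaNegE6 (F : Type*) [Field F] : (coreE6 F).EtaNeg := etaCheck_E6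

/-- The first node of an orbit. -/
def leadE6 : Fin 4 → Fin chevE6.rank
  | 0 => nodeE6 0
  | 1 => nodeE6 2
  | 2 => nodeE6 3
  | 3 => nodeE6 1

/-- The other nodes of an orbit with their field automorphisms. -/
def restE6 (n : ℕ) : Fin 4 → List (Fin chevE6.rank × ℕ)
  | 0 => [(nodeE6 5, n)]
  | 1 => [(nodeE6 4, n)]
  | 2 => []
  | 3 => []

theorem e6_lead_word : ∀ i : Fin 4, e6TwistWord i = ((leadE6 i, 0) :: restE6 0 i).map Prod.fst := by
  decide +kernel

variable {K : Type u} [Field K] [Fintype K] {p n : ℕ} [ExpChar K p]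
  (hn : Fintype.card K = (p ^ n) * (p ^ n)) (hq : 2 ≤ p ^ n)

/-- The fields of the orbits. -/
def fieldE6 (K : Type u) [Field K] (p n : ℕ) [ExpChar K p] : Fin 4 → Subfield K
  | 0 => ⊤
  | 1 => ⊤
  | 2 => RingHom.eqLocusField (iterateFrobenius K p n) (RingHom.id K)
  | 3 => RingHom.eqLocusField (iterateFrobenius K p n) (RingHom.id K)

omit [Fintype K] in
theorem mem_fieldE6_small {i : Fin 4} (hi : i = 2 ∨ i = 3) {t : K} :
    t ∈ fieldE6 K p n i ↔ t ^ p ^ n = t := by
  rcases hi with rfl | rfl <;>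
  · show iterateFrobenius K p n t = RingHom.id K t ↔ _
    rw [iterateFrobenius_def, RingHom.id_apply]

include hn in
theorem card_fieldE6_small (hq : 2 ≤ p ^ n) {i : Fin 4} (hi : i = 2 ∨ i = 3) :
    Nat.card ↥(fieldE6 K p n i) = p ^ n := by
  refine (Nat.card_congr (Equiv.subtypeEquivRight fun _ => mem_fieldE6_small hi)).trans
    (card_pow_eq_self (F := K) hq ?_)
  rw [hn, show p ^ n * p ^ n - 1 = (p ^ n + 1) * (p ^ n - 1) from by
    rw [Nat.add_one_mul, Nat.mul_sub_one]
    have : p ^ n ≤ p ^ n * p ^ n := Nat.le_mul_self _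
    omega]
  exact Dvd.intro_left _ rfl

include hn in
theorem card_fieldE6_big {i : Fin 4} (hi : i = 0 ∨ i = 1) :
    Nat.card ↥(fieldE6 K p n i) = p ^ n * p ^ n := by
  rw [← hn, ← Nat.card_eq_fintype_card (α := K)]
  rcases hi with rfl | rfl <;>
  exact Nat.card_congr (Equiv.subtypeUnivEquiv fun _ => Subfield.mem_top _)

include hn hq

theorem specE6 : OrbitSpec (coreE6 K) p (gensE6 K hn hq) (fieldE6 K p n) leadE6 (restE6 n) := by
  have g := gensE6 K hn hq
  obtain ⟨s0, s1, s2, s3, s4, s5, m0, m1, m2, m3, m4, m5⟩ := e6_simples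
  have hchar : ∀ c, (coreE6 K).R.torus c ∈ twistedE6 K (p ^ n) → ∀ j : Fin chevE6.rank,
      (coreE6 K).R.torusChar c ((coreE6 K).R.α (chevE6.simple (piE6 j).val)) =
        (coreE6 K).R.torusChar c ((coreE6 K).R.α (chevE6.simple j.val)) ^ p ^ n := by
    intro c hc j
    have h := g.char_fixed hc ⟨chevE6.simple j.val, rootDataE6.simple_lt j⟩
    rw [show (((frobE6 K p n).ρ ⟨chevE6.simple j.val, rootDataE6.simple_lt j⟩ : Fin chevE6.nroots) : ℕ) =
      chevE6.simple (piE6 j).val from piE6_root j] at h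
    exact h
  obtain ⟨e0, e1, e2, e3, -⟩ := piE6_vals
  have gen : ∀ a b : ℕ, (a, b) ∈ [(e6p1, e6p6), (e6m1, e6m6), (e6p3, e6p5), (e6m3, e6m5)] → ∀ t : K,
      (coreE6 K).wordGL [(a, t), (b, t ^ p ^ n)] ∈ twistedE6 K (p ^ n) := fun a b hab t =>
    (coreE6 K).wordGL_mem_gen (W := e6Words K (p ^ n)) (Or.inr ⟨t, (a, b), hab, rfl⟩)
  have gen1 : ∀ a : ℕ, a ∈ [e6p2, e6m2, e6p4, e6m4] → ∀ t : K, t ^ p ^ n = t →
      (coreE6 K).wordGL [(a, t)] ∈ twistedE6 K (p ^ n) := fun a ha t ht =>
    (coreE6 K).wordGL_mem_gen (W := e6Words K (p ^ n)) (Or.inl ⟨t, ht, a, ha, rfl⟩)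
  refine ⟨fun i => ?_, fun i => ?_, fun i => ?_, fun i => ?_, fun i t ht => ?_, fun i => ?_,
    fun i c hc => ?_, fun i c hc => ?_, fun x hx hxG => ?_⟩
  · obtain ⟨h0, h1⟩ := e6_commPairs
    fin_cases i <;> simp [PairOK, leadE6, restE6, nodeE6, h0, h1]
  · fin_cases i <;> simp [leadE6, restE6, nodeE6, orbE6, nodesE6]
  · intro je hje
    fin_cases i <;> simp [restE6] at hje <;> subst hje <;> simp [leadE6, nodeE6, Fin.ext_iff]
  · intro j hj
    rw [show ((leadE6 i, 0) :: restE6 n i).map Prod.fst = e6TwistWord i by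
      rw [e6_lead_word]; fin_cases i <;> rfl]
    exact e6_word_neg i j hj
  · fin_cases i
    · exact ⟨by simpa [oword, leadE6, restE6, nodeE6, s0, s5] using gen e6p1 e6p6 (by simp) t,
        by simpa [owordNeg, leadE6, restE6, nodeE6, s0, s5, m0, m5] using gen e6m1 e6m6 (by simp) t⟩
    · exact ⟨by simpa [oword, leadE6, restE6, nodeE6, s2, s4] using gen e6p3 e6p5 (by simp) t,
        by simpa [owordNeg, leadE6, restE6, nodeE6, s2, s4, m2, m4] using gen e6m3 e6m5 (by simp) t⟩
    · have ht' := (mem_fieldE6_small (Or.inl rfl)).1 ht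
      exact ⟨by simpa [oword, leadE6, restE6, nodeE6, s3] using gen1 e6p4 (by simp) t ht',
        by simpa [owordNeg, leadE6, restE6, nodeE6, s3, m3] using gen1 e6m4 (by simp) t ht'⟩
    · have ht' := (mem_fieldE6_small (Or.inr rfl)).1 ht
      exact ⟨by simpa [oword, leadE6, restE6, nodeE6, s1] using gen1 e6p2 (by simp) t ht',
        by simpa [owordNeg, leadE6, restE6, nodeE6, s1, m1] using gen1 e6m2 (by simp) t ht'⟩
  · show Nat.card ↥((frobE6 K p n).fixU (inRoots (coreE6 K).R (nodesE6 i))) = _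
    rw [inE6]
    have hcl : ∀ i, (coreE6 K).R.IsClosed (listSet (rootsE6 i)) :=
      fun i => inE6 K i ▸ inRoots_closed _ _
    fin_cases i
    · refine ((pairE6 K hn (a := e6p1) (b := e6p6) (by decide) (by simp) (by decide)
        (levelE6_pair 0) (hcl 0)).2.trans hn).trans (card_fieldE6_big hn (Or.inl rfl)).symm
    · refine ((pairE6 K hn (a := e6p3) (b := e6p5) (by decide) (by simp) (by decide)
        (levelE6_pair 1) (hcl 1)).2.trans hn).trans (card_fieldE6_big hn (Or.inr rfl)).symm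
    · exact (singleE6 K hn hq (a := e6p4) (by decide) (by decide) (by decide) (by simp)
        levelE6_single.1 (hcl 2)).2.trans (card_fieldE6_small hn hq (Or.inl rfl)).symm
    · exact (singleE6 K hn hq (a := e6p2) (by decide) (by decide) (by decide) (by simp)
        levelE6_single.2 (hcl 3)).2.trans (card_fieldE6_small hn hq (Or.inr rfl)).symm
  · fin_cases i
    · exact Subfield.mem_top _
    · exact Subfield.mem_top _
    · have h := hchar c hc (nodeE6 3)
      rw [e3] at h
      refine (mem_fieldE6_small (Or.inl rfl)).2 ?_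
      rw [← Units.val_pow_eq_pow_val]
      exact congrArg Units.val h.symm
    · have h := hchar c hc (nodeE6 1)
      rw [e1] at h
      refine (mem_fieldE6_small (Or.inr rfl)).2 ?_
      rw [← Units.val_pow_eq_pow_val]
      exact congrArg Units.val h.symm
  · intro je hje
    fin_cases i <;> simp [restE6] at hje <;> subst hje
    · have h := hchar c hc (nodeE6 0)
      rw [e0] at h
      exact h
    · have h := hchar c hc (nodeE6 2)
      rw [e2] at h
      exact h
  · obtain ⟨c, hc, rfl⟩ : x ∈ (fixTorus piE6 (fun _ => p ^ n)).map (coreE6 K).R.torus :=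
      diag_infE6 K hn hq ▸ Subgroup.mem_inf.2 ⟨hx, hxG⟩
    obtain ⟨h5, h4, h3, h1⟩ := fixE6_eq K (mem_fixTorus.1 hc)
    have hc' : c = Pi.mulSingle (nodeE6 0) (c (nodeE6 0)) * Pi.mulSingle (nodeE6 5) (c (nodeE6 0) ^ p ^ n) *
        (Pi.mulSingle (nodeE6 2) (c (nodeE6 2)) * Pi.mulSingle (nodeE6 4) (c (nodeE6 2) ^ p ^ n)) *
        Pi.mulSingle (nodeE6 3) (c (nodeE6 3)) * Pi.mulSingle (nodeE6 1) (c (nodeE6 1)) := by
      funext j
      rcases nodeE6_cases j with rfl | rfl | rfl | rfl | rfl | rfl <;>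
        simp [h5, h4, Pi.mulSingle_apply] <;> simp [nodeE6, Fin.ext_iff]
    set S := Subgroup.closure (⋃ i, Set.range fun u : (↥(fieldE6 K p n i))ˣ =>
      (((leadE6 i, 0) :: restE6 n i).map fun je => (coreE6 K).R.torusSingle je.1
        ((Units.map (fieldE6 K p n i).subtype.toMonoidHom u) ^ p ^ je.2)).prod) with hS
    have key : ∀ (i : Fin 4) (a : Kˣ) (ha : (a : K) ∈ fieldE6 K p n i),
        (((leadE6 i, 0) :: restE6 n i).map fun je =>
          (coreE6 K).R.torusSingle je.1 (a ^ p ^ je.2)).prod ∈ S := fun i a ha => by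
      rw [hS]
      refine Subgroup.subset_closure (Set.mem_iUnion.2 ⟨i, Units.mk0 ⟨(a : K), ha⟩
        (fun e => a.ne_zero (congrArg Subtype.val e)), ?_⟩)
      refine congrArg List.prod (List.map_congr_left fun je _ => ?_)
      exact congrArg _ (congrArg (· ^ p ^ je.2) (Units.ext rfl))
    clear_value S
    rw [hc', map_mul, map_mul, map_mul, map_mul, map_mul]
    have k0 := key 0 (c (nodeE6 0)) (Subfield.mem_top _)
    have k2 := key 1 (c (nodeE6 2)) (Subfield.mem_top _)
    have k3 := key 2 (c (nodeE6 3)) ((mem_fieldE6_small (Or.inl rfl)).2 (by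
      rw [← Units.val_pow_eq_pow_val, h3]))
    have k1 := key 3 (c (nodeE6 1)) ((mem_fieldE6_small (Or.inr rfl)).2 (by
      rw [← Units.val_pow_eq_pow_val, h1]))
    simp only [leadE6, restE6, List.map_cons, List.map_nil, List.prod_cons, List.prod_nil, pow_zero,
      pow_one, mul_one, RootData.torusSingle] at k0 k1 k2 k3
    exact mul_mem (mul_mem (mul_mem k0 k2) k3) k1

/-- The rank-one data of ²E₆. -/
noncomputable def rankDataE6 : RankOneData (gensE6 K hn hq) :=
  (specE6 hn hq).data (coreE6 K) (etaNegE6 K) p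

theorem card_diaHomE6_ker : Nat.card ↥(rankDataE6 hn hq).diaHom.ker = Nat.gcd 3 (p ^ n + 1) := by
  classical
  set R := rankDataE6 hn hq
  set G1 := twistedE6 K (p ^ n)
  set H := (chevE6.diagonalSubgroup K).subgroupOf G1
  have hr : R.diaHom.range = H := by
    refine le_antisymm ?_ (R.tor_gen.trans ((Subgroup.closure_le _).2 fun y hy => ?_))
    · rintro _ ⟨v, rfl⟩
      show MonoidHom.noncommPiCoprod (fun i => (R.hom i).comp dia) R.pairwise_dia v ∈ H
      rw [MonoidHom.noncommPiCoprod_apply]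
      exact Subgroup.noncommProd_mem _ _ fun i _ => R.dia_tor i (v i)
    · obtain ⟨i, u, rfl⟩ := Set.mem_iUnion.1 hy
      refine ⟨Pi.mulSingle i u, ?_⟩
      show MonoidHom.noncommPiCoprod (fun i => (R.hom i).comp dia) R.pairwise_dia _ = _
      rw [MonoidHom.noncommPiCoprod_mulSingle]
      rfl
  have hcard : Nat.gcd 3 (p ^ n + 1) * Nat.card ↥R.diaHom.range =
      Nat.card (∀ i, (↥(R.E i))ˣ) := by
    have e : H = (chevE6.diagonalSubgroup K ⊓ G1).subgroupOf G1 :=
      (Subgroup.inf_subgroupOf_right _ _).symm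
    rw [hr, e, Nat.card_congr (Subgroup.subgroupOfEquivOfLe
      (inf_le_right : chevE6.diagonalSubgroup K ⊓ G1 ≤ G1)).toEquiv, card_H1E6 K hn hq, Nat.card_pi,
      Fin.prod_univ_four, Nat.card_units, Nat.card_units, Nat.card_units, Nat.card_units]
    show _ = (Nat.card ↥(fieldE6 K p n 0) - 1) * (Nat.card ↥(fieldE6 K p n 1) - 1) *
      (Nat.card ↥(fieldE6 K p n 2) - 1) * (Nat.card ↥(fieldE6 K p n 3) - 1)
    rw [card_fieldE6_big hn (Or.inl rfl), card_fieldE6_big hn (Or.inr rfl),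
      card_fieldE6_small hn hq (Or.inl rfl), card_fieldE6_small hn hq (Or.inr rfl)]
    ring
  have h := R.diaHom.ker.card_mul_index
  rw [Subgroup.index_ker, ← hcard] at h
  exact Nat.eq_of_mul_eq_mul_right Nat.card_pos h

/-- The kernel of a stem extension without part in the characteristic is cyclic of order dividing
`gcd(3, q + 1)`. -/
theorem exists_onto_kerE6 [Fact p.Prime] [CharP K p]
    (hp : CfsgLib.Schur.NoMultiplierAt p ↥(twistedE6 K (p ^ n)))
    {Γ : Type u} [Group Γ] [Finite Γ] {σ : Γ →* ↥(twistedE6 K (p ^ n))}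
    (hσ : Cfsg.IsStemExtension σ) :
    ∃ f : Multiplicative (ZMod (Nat.gcd 3 (p ^ n + 1))) →* ↥σ.ker, Function.Surjective f := by
  have hco : ¬ p ∣ Nat.card ↥σ.ker := fun hd => by
    obtain ⟨x, hx⟩ := exists_prime_orderOf_dvd_card' p hd
    have hxp : x ^ p = 1 := orderOf_dvd_iff_pow_eq_one.1 hx.dvd
    have hx1 : (x : Γ) = 1 := hp Γ σ hσ x x.2 (by
      rw [← SubmonoidClass.coe_pow, hxp]; rfl)
    rw [show x = 1 from Subtype.ext hx1, orderOf_one] at hx
    exact (Fact.out : p.Prime).one_lt.ne hx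
  obtain ⟨L⟩ := exists_liftData (rankDataE6 hn hq) hσ.1 hσ.2.1 hco
  obtain ⟨f, hf⟩ := L.exists_onto_ker hσ.2.2
  have hc := card_diaHomE6_ker hn hq
  have hcyc : IsCyclic ↥(rankDataE6 hn hq).diaHom.ker := by
    rcases (Nat.dvd_prime Nat.prime_three).1 (Nat.gcd_dvd_left 3 (p ^ n + 1)) with h | h
    · rw [h] at hc
      have := (Nat.card_eq_one_iff_unique.1 hc).1
      infer_instance
    · rw [h] at hc
      have : Fact (Nat.Prime 3) := ⟨Nat.prime_three⟩
      exact isCyclic_of_prime_card hc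
  let e := zmodCyclicMulEquiv hcyc
  rw [hc] at e
  exact ⟨f.comp e.toMonoidHom, hf.comp e.surjective⟩

end CfsgLib.TwistMult
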