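import Cfsg.Agent.Lib.TwistMult.E6Pairs
import Cfsg.Agent.Lib.Schur.Criteria
import Cfsg.Agent.Lib.TwistAut.Base

/-!
# The multiplier of ²E₆(q), q ≥ 3, has no part in the defining characteristic
-/

set_option autoImplicit false
set_option linter.style.haveILetI false

namespace CfsgLib.TwistMult

open Cfsg.Lie CfsgLib.ChevStr CfsgLib.Twisted CfsgLib.TwistAut
open scoped MatrixGroups

variable {K : Type*} [Field K] [Fintype K] {p n : ℕ} [ExpChar K p] [Fact p.Prime] [CharP K p]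
  (hn : Fintype.card K = (p ^ n) * (p ^ n)) (h3 : 3 ≤ p ^ n)

include hn h3

theorem pos_indexE6 :
    ¬ p ∣ ((pU (twistedE6 K (p ^ n))).subgroupOf (twistedE6 K (p ^ n))).index := by
  have hq : 2 ≤ p ^ n := le_trans (by norm_num) h3
  set G1 := twistedE6 K (p ^ n)
  have g := gensE6 K hn hq
  have hp : p.Prime := Fact.out
  have h1 := Subgroup.card_mul_index ((bor G1).subgroupOf G1)
  have h2 := Subgroup.card_mul_index ((pU G1).subgroupOf G1)
  rw [← h1, Nat.card_congr (Subgroup.subgroupOfEquivOfLe (inf_le_right : bor G1 ≤ G1)).toEquiv,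
    Nat.card_congr (Subgroup.subgroupOfEquivOfLe (inf_le_right : pU G1 ≤ G1)).toEquiv, card_bor g,
    mul_assoc] at h2
  rw [Nat.eq_of_mul_eq_mul_left Nat.card_pos h2, Nat.Prime.dvd_mul hp]
  have hn0 : n ≠ 0 := fun h => by rw [h, pow_zero] at hq; omega
  have hpq : p ∣ p ^ n := dvd_pow_self p hn0
  refine not_or.2 ⟨fun h => ?_,
    not_dvd_index g p (n := n) (by rw [Nat.card_eq_fintype_card, hn]; ring)⟩
  have h' := dvd_trans h (Dvd.intro_left _ (card_H1E6 K hn hq))
  rcases hp.dvd_mul.1 h' with h' | h'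
  · have h4 := Nat.dvd_sub hpq (hp.dvd_of_dvd_pow h')
    rw [show p ^ n - (p ^ n - 1) = 1 by omega] at h4
    exact hp.ne_one (Nat.dvd_one.1 h4)
  · have h4 := Nat.dvd_sub (dvd_mul_of_dvd_left hpq (p ^ n)) (hp.dvd_of_dvd_pow h')
    have h5 : 1 ≤ p ^ n * p ^ n := Nat.one_le_iff_ne_zero.2 (Nat.mul_ne_zero (by omega) (by omega))
    rw [show p ^ n * p ^ n - (p ^ n * p ^ n - 1) = 1 by omega] at h4
    exact hp.ne_one (Nat.dvd_one.1 h4)

theorem noMultiplierAt_charE6 : CfsgLib.Schur.NoMultiplierAt p ↥(twistedE6 K (p ^ n)) := by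
  have hq : 2 ≤ p ^ n := le_trans (by norm_num) h3
  set G1 := twistedE6 K (p ^ n)
  have hpg : IsPGroup p ↥((pU G1).subgroupOf G1) :=
    (isPGroup_pU (C := coreE6 K) (G1 := G1) p).comap_of_injective G1.subtype G1.subtype_injective
  have key : (pU G1).subgroupOf G1 = (chevE6.posUnipotent K).subgroupOf G1 :=
    Subgroup.inf_subgroupOf_right _ _
  refine CfsgLib.Schur.noMultiplierAt_of_derived (hpg.toSylow (pos_indexE6 hn h3))
    fun Γ _ _ σ hσ Q hQ z hz hzQ _ => ?_
  exact derived_inf_kerE6 hn hq h3 hσ.1 hσ.2.1 (hQ.le.trans key.le) hz hzQ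

end CfsgLib.TwistMult
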