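import Cfsg.Agent.Lib.TwistMult.E6Rank
import Cfsg.Agent.Lib.TwistMult.E6Char
import Cfsg.Agent.Lib.ChevMult.EType
import Cfsg.Agent.Lib.TwistedStr.StrE6
import Cfsg.Agent.Lib.ChevCover.Instance

/-!
# A stem extension of ²E₆(q) with kernel of order 3 for q ≡ 2 mod 3, and the multiplier
-/

set_option autoImplicit false
set_option linter.unusedSectionVars false

namespace CfsgLib.TwistMult

open Cfsg.Lie CfsgLib.ChevStr CfsgLib.Twisted CfsgLib.ChevCover
open scoped MatrixGroups commutatorElement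

universe u

section cover

variable {D : ChevalleyDatum} {F : Type*} [Field F] {C : ChevCore D F} {Γ : Type*} [Group Γ]
  (G : Cover C Γ)

/-- Root elements of a pair of roots without combinations commute. -/
theorem cover_commute {r s : Fin D.nroots} (h : CommPair D r s) :
    ∀ a ∈ [r, G.negF r], ∀ b ∈ [s, G.negF s], ∀ t u : F, Commute (G.X b u) (G.X a t) := by
  intro a ha b hb t u
  obtain ⟨h1, h2, h3⟩ := h.2.2 a.val (by
    rcases List.mem_pair.1 ha with rfl | rfl <;> simp [Cover.negF]) b.val (by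
    rcases List.mem_pair.1 hb with rfl | rfl <;> simp [Cover.negF])
  have h4 := G.X_comm a a.isLt b b.isLt h1 h2 t u
  rw [show D.commWord F a b t u = [] by simp [ChevalleyDatum.commWord, h3], List.map_nil,
    List.prod_nil, mul_one] at h4
  exact h4

/-- The elements `h` of a commuting pair lie in a subgroup with the elements of the pair. -/
theorem H_pair_mem (f : F →+* F) {L : Subgroup Γ} {r s : Fin D.nroots} (hrs : CommPair D r s)
    (hpos : ∀ t, G.X r t * G.X s (f t) ∈ L)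
    (hneg : ∀ t, G.X (G.negF r) t * G.X (G.negF s) (f t) ∈ L) (t : F) :
    G.H r t * G.H s (f t) ∈ L := by
  have hc := cover_commute G hrs
  have hN : ∀ x, G.N r x * G.N s (f x) ∈ L := fun x => by
    have hm := mul_mem (mul_mem (hpos x) (hneg (-x⁻¹))) (hpos x)
    rw [map_neg, map_inv₀] at hm
    have h1 : Commute (G.X s (f x)) (G.X (G.negF r) (-x⁻¹)) := hc _ (by simp) _ (by simp) _ _
    have h2 : Commute (G.X (G.negF s) (-(f x)⁻¹)) (G.X r x) := hc _ (by simp) _ (by simp) _ _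
    have h3 : Commute (G.X s (f x)) (G.X r x) := hc _ (by simp) _ (by simp) _ _
    convert hm using 1
    set a := G.X r x
    set b := G.X s (f x)
    set c := G.X (G.negF r) (-x⁻¹)
    set d := G.X (G.negF s) (-(f x)⁻¹)
    show a * c * a * (b * d * b) = a * b * (c * d) * (a * b)
    calc a * c * a * (b * d * b) = a * c * (a * b) * d * b := by group
      _ = a * c * (b * a) * d * b := by rw [h3.eq]
      _ = a * (c * b) * (a * d) * b := by group
      _ = a * (b * c) * (d * a) * b := by rw [h1.eq, h2.eq]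
      _ = a * b * (c * d) * (a * b) := by group
  have hcN : Commute (G.N s (f t)) (G.N r (-1)) := by
    refine ((Commute.mul_right (Commute.mul_right ?_ ?_) ?_).mul_left
      (Commute.mul_right (Commute.mul_right ?_ ?_) ?_)).mul_left
      (Commute.mul_right (Commute.mul_right ?_ ?_) ?_) <;> exact hc _ (by simp) _ (by simp) _ _
  have hm := mul_mem (hN t) (hN (-1))
  rw [map_neg, map_one] at hm
  convert hm using 1
  show G.N r t * G.N r (-1) * (G.N s (f t) * G.N s (-1)) = _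
  calc G.N r t * G.N r (-1) * (G.N s (f t) * G.N s (-1))
      = G.N r t * (G.N r (-1) * G.N s (f t)) * G.N s (-1) := by group
    _ = G.N r t * G.N s (f t) * (G.N r (-1) * G.N s (-1)) := by rw [← hcN.eq]; group

end cover

/-- The exponents of the element of order 3 of the kernel of the torus map. -/
def kerExp : Fin chevE6.rank → ℕ := fun j => [1, 0, 2, 0, 1, 2].getD j.val 0

theorem kerExp_cartan : ∀ i : Fin chevE6.rank,
    (∑ j, (kerExp j : ℤ) * chevE6.cartan j.val (chevE6.simple i.val)) % 3 = 0 := by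
  decide +kernel

theorem hasNeighboursE6 : Cover.HasNeighbours chevE6 := hasNeighbours (by simp)

variable {K : Type u} [Field K]

/-- The kernel of the torus map contains the powers of a cube root of one. -/
theorem kerExp_mem {z : Kˣ} (hz : z ^ 3 = 1) :
    (fun j => z ^ kerExp j) ∈ ((coreE6 K).R.torus (F := K)).ker := by
  rw [MonoidHom.mem_ker, (coreE6 K).torus_eq_one_iff]
  funext i
  show ∏ j, (z ^ kerExp j) ^ chevE6.cartan j.val (chevE6.simple i.val) = 1
  simp only [← zpow_natCast, ← zpow_mul]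
  have hsum : ∀ (s : Finset (Fin chevE6.rank)) (f : Fin chevE6.rank → ℤ),
      ∏ j ∈ s, z ^ f j = z ^ ∑ j ∈ s, f j := fun s f => by
    induction s using Finset.induction with
    | empty => simp
    | insert a t ha ih => rw [Finset.prod_insert ha, Finset.sum_insert ha, ih, zpow_add]
  rw [hsum, ← Int.emod_add_mul_ediv (∑ j, (kerExp j : ℤ) *
    chevE6.cartan j.val (chevE6.simple i.val)) 3, kerExp_cartan, zero_add, zpow_mul,
    show (3 : ℤ) = ((3 : ℕ) : ℤ) from rfl, zpow_natCast, hz, one_zpow]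

/-- The lift of a word in root elements. -/
def liftWord (w : List (ℕ × K)) : chevE6.SteinbergGroup K :=
  (w.map fun x => chevE6.stGen K x.1 x.2).prod

theorem θ_liftWord (w : List (ℕ × K)) :
    (steinberg (coreE6 K)).θ (liftWord w) = (coreE6 K).wordGL w := by
  rw [liftWord, map_list_prod, List.map_map]
  exact congrArg List.prod (List.map_congr_left fun x _ => (steinberg (coreE6 K)).θ_X x.1 x.2)

/-- The cover of ²E₆ inside Steinberg's group. -/
def coverE6 (K : Type u) [Field K] (q : ℕ) : Subgroup (chevE6.SteinbergGroup K) :=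
  Subgroup.closure (liftWord '' e6Words K q)

theorem coverE6_map (q : ℕ) :
    (coverE6 K q).map (steinberg (coreE6 K)).θ = twistedE6 K q := by
  rw [coverE6, MonoidHom.map_closure]
  show _ = Subgroup.closure _
  congr 1
  ext g
  constructor
  · rintro ⟨_, ⟨w, hw, rfl⟩, rfl⟩
    exact ⟨w, hw, by rw [θ_liftWord, (coreE6 K).coe_wordGL]⟩
  · rintro ⟨w, hw, hg⟩
    exact ⟨_, ⟨w, hw, rfl⟩, (θ_liftWord w).trans (Units.ext
      (((coreE6 K).coe_wordGL w).trans hg.symm))⟩

variable [Fintype K] {p n : ℕ} [ExpChar K p] (hn : Fintype.card K = (p ^ n) * (p ^ n))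
  (hq : 2 ≤ p ^ n)
include hn hq

/-- An element of order 3 of the kernel inside the cover. -/
theorem exists_ker_coverE6 (h3 : 3 ∣ p ^ n + 1) :
    Nat.card ↥(steinberg (coreE6 K)).θ.ker = 3 ∧
      ∃ x ∈ coverE6 K (p ^ n), (steinberg (coreE6 K)).θ x = 1 ∧ x ≠ 1 := by
  classical
  set C := coreE6 K
  set G := steinberg C with hG
  have hdvd : 3 ∣ Fintype.card K - 1 := by
    rw [hn]
    refine h3.trans ⟨p ^ n - 1, ?_⟩
    rw [← Nat.sq_sub_sq, one_pow, sq]
  obtain ⟨e⟩ : Nonempty ((C.R.torus (F := K)).ker ≃* Subgroup.center (chevE6.SteinbergGroup K)) := by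
    obtain ⟨e⟩ := ChevMult.exists_center_equiv C
      (chevCore (D := chevE7) (by simp) K) hasNeighboursE6 ChevMult.embCompatE6 ChevMult.embCartanE6
    exact ⟨e⟩
  have hker : G.θ.ker = Subgroup.center (chevE6.SteinbergGroup K) :=
    (ker_groupHom_eq C).symm.trans (ker_groupHom_eq_center C hasNeighboursE6)
  have hcard : Nat.card ↥G.θ.ker = 3 := by
    rw [hker, ChevMult.center_E6.2, Nat.gcd_eq_left hdvd]
  refine ⟨hcard, ?_⟩
  obtain ⟨φ, hφ, hle, hθ⟩ := ChevMult.exists_torusLift C hasNeighboursE6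
  obtain ⟨z, hz⟩ : ∃ z : Kˣ, orderOf z = 3 :=
    have : Fact (Nat.Prime 3) := ⟨Nat.prime_three⟩
    exists_prime_orderOf_dvd_card 3 (by rw [Fintype.card_units]; exact hdvd)
  have hz3 : z ^ 3 = 1 := hz ▸ pow_orderOf_eq_one z
  have hzq : z ^ p ^ n = z ^ 2 := by
    rw [← pow_mod_orderOf, hz, show p ^ n % 3 = 2 by omega]
  set k : Fin chevE6.rank → Kˣ := fun j => z ^ kerExp j with hk
  have hkmem := kerExp_mem hz3
  rw [← hk] at hkmem
  have hθk : G.θ (φ k) = 1 := (DFunLike.congr_fun hθ k).trans hkmem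
  refine ⟨φ k, ?_, hθk, ?_⟩
  · set f : K →+* K := iterateFrobenius K p n
    have hf : ∀ t : K, f t = t ^ p ^ n := fun t => iterateFrobenius_def p n t
    obtain ⟨s0, -, s2, -, s4, s5, m0, -, m2, -, m4, m5⟩ := e6_simples
    obtain ⟨h05, h24⟩ := e6_commPairs
    have gen : ∀ a b : ℕ, (a, b) ∈ [(e6p1, e6p6), (e6m1, e6m6), (e6p3, e6p5), (e6m3, e6m5)] →
        ∀ t : K, G.X a t * G.X b (f t) ∈ coverE6 K (p ^ n) := fun a b hab t => by
      refine Subgroup.subset_closure ⟨[(a, t), (b, f t)], Or.inr ⟨t, (a, b), hab, by rw [hf]⟩, ?_⟩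
      simp [liftWord, G, steinberg]
    have hpair : ∀ i j : Fin chevE6.rank, CommPair chevE6 (chevE6.simple i.val) (chevE6.simple j.val) →
        (chevE6.simple i.val, chevE6.simple j.val) ∈ [(e6p1, e6p6), (e6p3, e6p5)] →
        (chevE6.neg (chevE6.simple i.val), chevE6.neg (chevE6.simple j.val)) ∈
          [(e6m1, e6m6), (e6m3, e6m5)] → ∀ x : Kˣ,
        φ (Pi.mulSingle i x * Pi.mulSingle j (x ^ p ^ n)) ∈ coverE6 K (p ^ n) := by
      intro i j hij hP hM x
      rw [map_mul, hφ, hφ, Units.val_pow_eq_pow_val, ← hf]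
      refine H_pair_mem G f (r := C.pRoot i) (s := C.pRoot j) hij (fun t => gen _ _ ?_ t)
        (fun t => gen _ _ ?_ t) _
      · revert hP; simp [ChevCore.pRoot]; tauto
      · revert hM; simp [ChevCore.pRoot, Cover.negF]; tauto
    have hsplit : k = Pi.mulSingle (nodeE6 0) z * Pi.mulSingle (nodeE6 5) (z ^ p ^ n) *
        (Pi.mulSingle (nodeE6 2) (z ^ 2) * Pi.mulSingle (nodeE6 4) ((z ^ 2) ^ p ^ n)) := by
      have h4 : z ^ 4 = z := by rw [pow_succ, hz3, one_mul]
      funext j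
      rcases nodeE6_cases j with rfl | rfl | rfl | rfl | rfl | rfl <;>
        simp [k, kerExp, nodeE6, Fin.ext_iff, hzq, ← pow_mul, mul_comm 2 (p ^ n)]
      rw [pow_mul, hzq, ← pow_mul, h4]
    rw [hsplit, map_mul]
    exact mul_mem (hpair (nodeE6 0) (nodeE6 5) h05 (by simp [nodeE6, s0, s5])
        (by simp [nodeE6, s0, s5, m0, m5]) z)
      (hpair (nodeE6 2) (nodeE6 4) h24 (by simp [nodeE6, s2, s4])
        (by simp [nodeE6, s2, s4, m2, m4]) (z ^ 2))
  · intro h1
    let ψ : ↥(C.R.torus (F := K)).ker → ↥G.θ.ker := fun c =>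
      ⟨φ c, (DFunLike.congr_fun hθ c.1).trans c.2⟩
    have hsurj : Function.Surjective ψ := by
      rintro ⟨y, hy⟩
      obtain ⟨c, rfl⟩ := hle ((ker_groupHom_eq C).ge hy)
      exact ⟨⟨c, (DFunLike.congr_fun hθ c).symm.trans hy⟩, rfl⟩
    have hcard' : Nat.card ↥(C.R.torus (F := K)).ker = Nat.card ↥G.θ.ker := by
      rw [hker]; exact Nat.card_congr e.toEquiv
    have hinj := (hsurj.bijective_of_nat_card_le hcard'.le).1
    have h0 : (⟨k, hkmem⟩ : ↥(C.R.torus (F := K)).ker) = 1 :=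
      hinj (Subtype.ext (by show φ k = φ 1; rw [h1, map_one]))
    have := congrFun (congrArg Subtype.val h0) (nodeE6 0)
    simp [k, kerExp, nodeE6] at this
    rw [this, orderOf_one] at hz
    omega

/-- A stem extension of ²E₆(q) with kernel of order 3. -/
theorem exists_stemE6 [Fact p.Prime] [CharP K p] (h3 : 3 ∣ p ^ n + 1) :
    ∃ (Γ : Type u) (_ : Group Γ) (_ : Finite Γ) (σ : Γ →* ↥(twistedE6 K (p ^ n))),
      Cfsg.IsStemExtension σ ∧ Nat.card ↥σ.ker = 3 := by
  classical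
  set G := steinberg (coreE6 K) with hG
  obtain ⟨hcard, x, hx, hθx, hx1⟩ := exists_ker_coverE6 hn hq h3
  have : Fact (Nat.Prime 3) := ⟨Nat.prime_three⟩
  have : Finite (chevE6.SteinbergGroup K) := ChevMult.finite_steinberg (coreE6 K) hasNeighboursE6
  set L := coverE6 K (p ^ n) with hL
  have hmap := coverE6_map (K := K) (p ^ n)
  let σ : ↥L →* ↥(twistedE6 K (p ^ n)) := (G.θ.comp L.subtype).codRestrict _ fun g =>
    hmap.le ⟨g, g.2, rfl⟩
  have hσ : Function.Surjective σ := by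
    rintro ⟨g, hg⟩
    obtain ⟨y, hy, rfl⟩ := hmap.ge hg
    exact ⟨⟨y, hy⟩, rfl⟩
  have hker : ∀ g : ↥L, g ∈ σ.ker ↔ (g : chevE6.SteinbergGroup K) ∈ G.θ.ker := fun g =>
    ⟨fun h => congrArg Subtype.val h, fun h => Subtype.ext h⟩
  have hk3 : Nat.card ↥σ.ker = 3 := by
    have hd : Nat.card ↥σ.ker ∣ 3 := by
      rw [← hcard, ← Subgroup.card_subtype L σ.ker]
      exact Subgroup.card_dvd_of_le (Subgroup.map_le_iff_le_comap.2 fun g hg => (hker g).1 hg)
    refine ((Nat.dvd_prime Nat.prime_three).1 hd).resolve_left fun h => ?_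
    have := Subgroup.eq_bot_of_card_eq _ h
    have h1 : (⟨x, hx⟩ : ↥L) ∈ σ.ker := (hker _).2 hθx
    rw [this, Subgroup.mem_bot] at h1
    exact hx1 (congrArg Subtype.val h1)
  have hcent : σ.ker ≤ Subgroup.center ↥L := fun g hg => Subgroup.mem_center_iff.2 fun y =>
    Subtype.ext (Subgroup.mem_center_iff.1
      (G.ker_le_center hasNeighboursE6 ((hker g).1 hg)) y)
  refine ⟨↥L, inferInstance, inferInstance, σ, ⟨hσ, hcent, ?_⟩, hk3⟩
  have hp3 : p ≠ 3 := by
    rintro rfl
    have hn0 : n ≠ 0 := fun h => by rw [h, pow_zero] at hq; omega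
    have : 3 ∣ 3 ^ n := dvd_pow_self 3 hn0
    omega
  have hall : ∀ g : ↥L, Abelianization.of g ^ 3 = 1 := fun g => by
    have hc : σ g ∈ (commutator ↥L).map σ := by
      rw [commutator_eq_closure, MonoidHom.map_closure]
      have h := perfectE6Twisted (K := K) hn hq ▸ Subgroup.mem_top (σ g)
      rw [commutator_eq_closure] at h
      refine Subgroup.closure_mono ?_ h
      rintro _ ⟨a, b, rfl⟩
      obtain ⟨a, rfl⟩ := hσ a
      obtain ⟨b, rfl⟩ := hσ b
      exact ⟨⁅a, b⁆, ⟨a, b, rfl⟩, map_commutatorElement _ _ _⟩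
    obtain ⟨c, hc, hce⟩ := hc
    have hm : c⁻¹ * g ∈ σ.ker := by rw [MonoidHom.mem_ker, map_mul, map_inv, hce, inv_mul_cancel]
    have h : (⟨_, hm⟩ : ↥σ.ker) ^ 3 = 1 := hk3 ▸ pow_card_eq_one'
    have h' := congrArg (fun y : ↥σ.ker => Abelianization.of (y : ↥L)) h
    simp only [SubmonoidClass.coe_pow, map_pow, map_mul, map_inv, OneMemClass.coe_one, map_one] at h'
    rwa [show Abelianization.of c = 1 from MonoidHom.mem_ker.1 (Abelianization.ker_of ↥L ▸ hc),
      inv_one, one_mul] at h'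
  have hgen : ∀ w ∈ e6Words K (p ^ n), liftWord w ^ p = 1 := by
    have hX : ∀ r < chevE6.nroots, ∀ t : K, G.X r t ^ p = 1 := fun r hr t => by
      show G.xHom ⟨r, hr⟩ (Multiplicative.ofAdd t) ^ p = 1
      rw [← map_pow, ← ofAdd_nsmul, nsmul_eq_mul, CharP.cast_eq_zero, zero_mul, ofAdd_zero, map_one]
    obtain ⟨s0, s1, s2, s3, s4, s5, m0, m1, m2, m3, m4, m5⟩ := e6_simples
    rintro w (⟨t, -, r, hr, rfl⟩ | ⟨t, rs, hrs, rfl⟩)
    · have hlt : r < chevE6.nroots := by revert r; decide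
      simpa [liftWord, G, steinberg] using hX r hlt t
    · have hlt : rs.1 < chevE6.nroots ∧ rs.2 < chevE6.nroots ∧ rs.2 ≠ rs.1 ∧
          rs.2 ≠ chevE6.neg rs.1 ∧ chevE6.commTerms rs.1 rs.2 = [] := by
        revert rs; decide +kernel
      obtain ⟨h1, h2, h4, h5, h6⟩ := hlt
      have hc := G.X_comm rs.1 h1 rs.2 h2 h4 h5 t (t ^ p ^ n)
      rw [show chevE6.commWord K rs.1 rs.2 t (t ^ p ^ n) = [] by
        simp [ChevalleyDatum.commWord, h6], List.map_nil, List.prod_nil, mul_one] at hc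
      have e : liftWord [(rs.1, t), (rs.2, t ^ p ^ n)] = G.X rs.1 t * G.X rs.2 (t ^ p ^ n) := by
        simp [liftWord, G, steinberg]
      rw [e, Commute.mul_pow hc.symm, hX _ h1, hX _ h2, one_mul]
  have hof : ∀ g : ↥L, Abelianization.of g = 1 := by
    rintro ⟨g, hg⟩
    induction hg using Subgroup.closure_induction with
    | mem y hy =>
      obtain ⟨w, hw, rfl⟩ := hy
      have h := congrArg Abelianization.of (show (⟨liftWord w, Subgroup.subset_closure ⟨w, hw, rfl⟩⟩ : ↥L) ^ p = 1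
        from Subtype.ext (hgen w hw))
      rw [map_pow, map_one] at h
      have := pow_gcd_eq_one.2 ⟨h, hall ⟨liftWord w, Subgroup.subset_closure ⟨w, hw, rfl⟩⟩⟩
      rwa [(Nat.coprime_primes (Fact.out : p.Prime) Nat.prime_three).2 hp3, pow_one] at this
    | one => exact map_one _
    | mul a b ha hb h1 h2 =>
      rw [show (⟨a * b, _⟩ : ↥L) = ⟨a, ha⟩ * ⟨b, hb⟩ from rfl, map_mul, h1, h2, mul_one]
    | inv a ha h1 => rw [show (⟨a⁻¹, _⟩ : ↥L) = ⟨a, ha⟩⁻¹ from rfl, map_inv, h1, inv_one]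
  intro g _
  rw [← Abelianization.ker_of ↥L]
  exact hof g

theorem hasMultiplierE6 [Fact p.Prime] [CharP K p] (h3 : 3 ≤ p ^ n) :
    Cfsg.HasCyclicSchurMultiplier ↥(twistedE6 K (p ^ n)) (Nat.gcd 3 (p ^ n + 1)) := by
  refine ⟨?_, fun Γ _ _ σ hσ => exists_onto_kerE6 hn hq (noMultiplierAt_charE6 hn h3) hσ⟩
  rcases (Nat.dvd_prime Nat.prime_three).1 (Nat.gcd_dvd_left 3 (p ^ n + 1)) with h | h
  · rw [h]
    have hk : (MonoidHom.id ↥(twistedE6 K (p ^ n))).ker = ⊥ := MonoidHom.ker_id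
    refine ⟨_, inferInstance, inferInstance, MonoidHom.id _,
      ⟨Function.surjective_id, hk ▸ bot_le, hk ▸ bot_le⟩, ?_⟩
    rw [hk]
    exact ⟨MulEquiv.ofUnique⟩
  · rw [h]
    have hd : 3 ∣ p ^ n + 1 := h ▸ Nat.gcd_dvd_right 3 (p ^ n + 1)
    obtain ⟨Γ, i1, i2, σ, hσ, hc⟩ := exists_stemE6 hn hq hd
    have : Fact (Nat.Prime 3) := ⟨Nat.prime_three⟩
    refine ⟨Γ, i1, i2, σ, hσ, ⟨?_⟩⟩
    have hcyc : IsCyclic ↥σ.ker := isCyclic_of_prime_card hc
    have e := zmodCyclicMulEquiv hcyc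
    rw [hc] at e
    exact e.symm

end CfsgLib.TwistMult
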