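import Cfsg.Agent.Lib.Twisted.FrobBuild
import Cfsg.Agent.Lib.TwistMult.Pairings

/-!
# The weight layers of the unipotent group of a twisted group from a checked chain of root lists
-/

set_option autoImplicit false

namespace CfsgLib.TwistMult

open Cfsg.Lie CfsgLib.ChevStr CfsgLib.Twisted
open scoped MatrixGroups commutatorElement

/-- The roots of a term of a chain. -/
def lev (ch : List (List ℕ × ℕ)) (i : ℕ) : List ℕ := (ch.getD i ([], 0)).1

/-- The leading root of a term of a chain. -/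
def rep (ch : List (List ℕ × ℕ)) (i : ℕ) : ℕ := (ch.getD i ([], 0)).2

/-- Each term is one orbit larger than the next and is central modulo it; the first holds all
positive roots. -/
def chainCheck (D : ChevalleyDatum) (α : ℕ → Fin D.rank → ℤ) (root : ℕ → ℕ)
    (ch : List (List ℕ × ℕ)) : Bool :=
  ((List.range D.nroots).all fun r => !decide (D.IsPosRoot r) || (lev ch 0).contains r) &&
  ((List.range ch.length).all fun i =>
    levelCheck D α root (lev ch i) (lev ch (i + 1)) (rep ch i) &&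
    (lev ch i).all (fun b => (lev ch 0).all fun k => (lev ch (i + 1)).contains k ||
      (lev ch 0).all fun a => (List.finRange D.rank).any fun l =>
        decide (α k l < α a l + α b l)))

variable {D : ChevalleyDatum} {F : Type*} [Field F] {C : ChevCore D F} {φ : Frob C}
  {root : ℕ → ℕ} {ch : List (List ℕ × ℕ)}

theorem lev_of_le {i : ℕ} (h : ch.length ≤ i) : lev ch i = [] := by
  rw [lev, List.getD_eq_default _ _ h]

section check

variable (hc : chainCheck D C.R.α root ch = true)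
include hc

theorem chain_spec : (∀ r < D.nroots, D.IsPosRoot r → r ∈ lev ch 0) ∧
    ∀ i < ch.length, levelCheck D C.R.α root (lev ch i) (lev ch (i + 1)) (rep ch i) = true ∧
      ∀ b ∈ lev ch i, ∀ k ∈ lev ch 0, k ∈ lev ch (i + 1) ∨
        ∀ a ∈ lev ch 0, ∃ l, C.R.α k l < C.R.α a l + C.R.α b l := by
  simp only [chainCheck, Bool.and_eq_true, List.all_eq_true, List.mem_range, Bool.or_eq_true,
    List.any_eq_true, List.contains_iff_mem, Bool.not_eq_true', decide_eq_false_iff_not,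
    decide_eq_true_eq, List.mem_finRange, true_and] at hc
  exact ⟨fun r hr hp => (hc.1 r hr).resolve_left fun h => h hp, fun i hi => hc.2 i hi⟩

theorem lev_pos : ∀ i, ∀ a ∈ lev ch i, D.IsPosRoot a := fun i a ha => by
  by_cases hi : i < ch.length
  · exact ((Frob.of_levelCheck ((chain_spec hc).2 i hi).1).2.2.2.1 a ha).2.1
  · rw [lev_of_le (not_lt.1 hi)] at ha; exact absurd ha List.not_mem_nil

theorem lev_succ (i : ℕ) : ∀ a ∈ lev ch (i + 1), a ∈ lev ch i := fun a ha => by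
  by_cases hi : i < ch.length
  · exact (Frob.of_levelCheck ((chain_spec hc).2 i hi).1).1 a ha
  · rw [lev_of_le (by omega)] at ha; exact absurd ha List.not_mem_nil

theorem lev_anti : ∀ k i : ℕ, ∀ a ∈ lev ch (i + k), a ∈ lev ch i := by
  intro k
  induction k with
  | zero => exact fun i a ha => ha
  | succ k ih => exact fun i a ha => ih i a (lev_succ hc (i + k) a ha)

theorem listSet_zero : listSet (lev ch 0) = {r | D.IsPosRoot r} :=
  Set.ext fun r => ⟨fun h => lev_pos hc 0 r h, fun h => (chain_spec hc).1 r h.1 h⟩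

theorem combo_succ {i : ℕ} {a b k : ℕ} (ha : a ∈ lev ch 0) (hb : b ∈ lev ch i)
    (hk : C.R.IsCombo a b k) : k ∈ lev ch (i + 1) := by
  have hap := lev_pos hc 0 a ha
  have hbp := lev_pos hc i b hb
  by_cases hi : i < ch.length
  · have hk0 : k ∈ lev ch 0 := by
      have h := C.R.isClosed_pos.2 a hap b hbp k hk
      exact (chain_spec hc).1 k hk.1 h
    refine (((chain_spec hc).2 i hi).2 b hb k hk0).resolve_right fun h => ?_
    obtain ⟨l, hl⟩ := h a ha
    obtain ⟨-, x, y, hx, hy, hxy⟩ := hk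
    rw [hxy] at hl
    simp only [Pi.add_apply, Pi.smul_apply, smul_eq_mul] at hl
    have ha0 : 0 ≤ C.R.α a l := ((C.R.isPos_iff a).1 hap).2 l
    have hb0 : 0 ≤ C.R.α b l := ((C.R.isPos_iff b).1 hbp).2 l
    nlinarith
  · rw [lev_of_le (not_lt.1 hi)] at hb; exact absurd hb List.not_mem_nil

theorem lev_closed (i : ℕ) : C.R.IsClosed (listSet (lev ch i)) :=
  ⟨lev_pos hc i, fun a ha b hb k hk =>
    lev_succ hc i k (combo_succ hc (lev_anti hc i 0 a ((Nat.zero_add i).symm ▸ ha :)) hb hk)⟩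

theorem level_at {i : ℕ} (hi : i < ch.length) :
    C.Level (listSet (lev ch i)) (listSet (lev ch (i + 1))) :=
  (Frob.level_of_check ((chain_spec hc).2 i hi).1 (lev_closed hc i)).1

theorem Ucl_anti {i : ℕ} : C.Ucl (listSet (lev ch (i + 1))) ≤ C.Ucl (listSet (lev ch i)) :=
  C.Ucl_mono fun a ha => lev_succ hc i a ha

theorem Ucl_le_top (i : ℕ) : C.Ucl (listSet (lev ch i)) ≤ C.Ucl (listSet (lev ch 0)) :=
  C.Ucl_mono fun a ha => lev_anti hc i 0 a (by rw [Nat.zero_add]; exact ha)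

theorem normalizes (i : ℕ) :
    C.Ucl (listSet (lev ch 0)) ≤
      Subgroup.normalizer (C.Ucl (listSet (lev ch i)) : Set (GL D.Idx F)) :=
  C.Ucl_le fun r hr t => C.pos_normalizes (lev_pos hc 0 r hr) (lev_pos hc i)
    (fun _ hs k hk => lev_succ hc i k (combo_succ hc hr hs hk)) t

theorem conj_mem {i : ℕ} {x g : GL D.Idx F} (hx : x ∈ C.Ucl (listSet (lev ch 0)))
    (hg : g ∈ C.Ucl (listSet (lev ch i))) : x * g * x⁻¹ ∈ C.Ucl (listSet (lev ch i)) :=
  (Subgroup.mem_normalizer_iff.1 (normalizes hc i hx) g).1 hg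

theorem comm_mem_succ {i : ℕ} {x g : GL D.Idx F} (hx : x ∈ C.Ucl (listSet (lev ch 0)))
    (hg : g ∈ C.Ucl (listSet (lev ch i))) : ⁅x, g⁆ ∈ C.Ucl (listSet (lev ch (i + 1))) := by
  set N := C.Ucl (listSet (lev ch (i + 1)))
  have hN : ∀ y ∈ C.Ucl (listSet (lev ch 0)), ∀ w ∈ N, y * w * y⁻¹ ∈ N := fun y hy w hw =>
    conj_mem hc hy hw
  have gen : ∀ r ∈ lev ch 0, ∀ t : F, ∀ s ∈ lev ch i, ∀ u : F,
      ⁅C.xGL r t, C.xGL s u⁆ ∈ N := by
    intro r hr t s hs u
    have hrp := lev_pos hc 0 r hr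
    have hsp := lev_pos hc i s hs
    by_cases hne : s = r
    · subst hne
      rw [show ⁅C.xGL s t, C.xGL s u⁆ = 1 from commutatorElement_eq_one_iff_mul_comm.2
        (by rw [← C.xGL_add, ← C.xGL_add, add_comm])]
      exact one_mem _
    have e := C.xGL_comm hrp.1 hsp.1 hne
      (fun e => C.R.not_pos_and_neg hsp (by rw [e, C.R.isNeg_neg_iff hrp.1]; exact hrp)) t u
    have hw : C.wordGL (D.commWord F r s t u) ∈ N :=
      C.commWord_mem (S := listSet (lev ch (i + 1))) (fun k hk => combo_succ hc hr hs hk) t u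
    rw [show ⁅C.xGL r t, C.xGL s u⁆ =
      C.xGL r t * C.xGL s u * (C.xGL s u * C.xGL r t)⁻¹ by rw [commutatorElement_def]; group, e]
    have h := hN _ (mul_mem (C.xGL_mem_Ucl (S := listSet (lev ch 0)) hr t)
      (C.xGL_mem_Ucl (S := listSet (lev ch 0)) (lev_anti hc i 0 s (by rw [Nat.zero_add]; exact hs)) u)) _ (inv_mem hw)
    simpa [mul_assoc] using h
  revert g
  refine Subgroup.closure_induction
    (p := fun x _ => ∀ {g}, g ∈ C.Ucl (listSet (lev ch i)) → ⁅x, g⁆ ∈ N) ?_ ?_ ?_ ?_ hx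
  · rintro _ ⟨r, hr, t, rfl⟩ g hg
    refine Subgroup.closure_induction (p := fun g _ => ⁅C.xGL r t, g⁆ ∈ N) ?_ ?_ ?_ ?_ hg
    · rintro _ ⟨s, hs, u, rfl⟩; exact gen r hr t s hs u
    · simp [one_mem]
    · intro a b ha _ h1 h2
      rw [show ⁅C.xGL r t, a * b⁆ = ⁅C.xGL r t, a⁆ * (a * ⁅C.xGL r t, b⁆ * a⁻¹) by
        simp only [commutatorElement_def]; group]
      exact mul_mem h1 (hN a (Ucl_le_top hc i ha) _ h2)
    · intro a ha h1
      rw [show ⁅C.xGL r t, a⁻¹⁆ = a⁻¹ * ⁅C.xGL r t, a⁆⁻¹ * a⁻¹⁻¹ by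
        simp only [commutatorElement_def]; group]
      exact hN _ (inv_mem (Ucl_le_top hc i ha)) _ (inv_mem h1)
  · intro g _; simp [one_mem]
  · intro a b ha _ h1 h2 g hg
    rw [show ⁅a * b, g⁆ = a * ⁅b, g⁆ * a⁻¹ * ⁅a, g⁆ by simp only [commutatorElement_def]; group]
    exact mul_mem (hN a ha _ (h2 hg)) (h1 hg)
  · intro a ha h1 g hg
    rw [show ⁅a⁻¹, g⁆ = a⁻¹ * ⁅a, g⁆⁻¹ * a⁻¹⁻¹ by simp only [commutatorElement_def]; group]
    exact hN _ (inv_mem ha) _ (inv_mem (h1 hg))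

theorem ker_coord {i : ℕ} (hi : i < ch.length) (hρ : ∀ r : Fin D.nroots, (φ.ρ r : ℕ) = root r)
    {g : GL D.Idx F} (hg : g ∈ φ.fixU (listSet (lev ch i))) :
    C.coord (listSet (lev ch i)) (rep ch i) g = 0 ↔ g ∈ C.Ucl (listSet (lev ch (i + 1))) := by
  have hch := ((chain_spec hc).2 i hi).1
  obtain ⟨-, h2, h3, h4, h5⟩ := Frob.of_levelCheck hch
  have hlev := level_at hc hi
  refine ⟨fun h0 => C.mem_Ucl_of_coord hlev (Subgroup.mem_inf.1 hg).1 fun k hk hk' => ?_, fun h =>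
    C.coord_of_mem hlev h2 h3 (C.Ucl_mono (T := listSet (lev ch i) \ {rep ch i})
      (fun k hk => ⟨lev_succ hc i k hk, fun e => h3 (e ▸ hk)⟩) h)⟩
  obtain ⟨m, -, hm⟩ := ((h5 k hk).resolve_left hk').2.1
  have := (φ.coord_iterate hlev (φ.stable_of_check hρ hch) (fun a ha ha' => by
      show (φ.ρ a : ℕ) ∉ lev ch (i + 1); rw [hρ]; exact ((h5 a ha).resolve_left ha').1)
    ⟨rep ch i, (h4 _ h2).1⟩ h2 h3 hg h0 m).2.2
  rwa [φ.pow_val hρ, hm] at this

theorem coord_conj {i : ℕ} (hi : i < ch.length) (c : Fin D.rank → Fˣ) {g : GL D.Idx F}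
    (hg : g ∈ C.Ucl (listSet (lev ch i))) :
    C.coord (listSet (lev ch i)) (rep ch i) (C.R.torus c * g * (C.R.torus c)⁻¹) =
      (C.R.torusChar c (C.R.α (rep ch i)) : F) * C.coord (listSet (lev ch i)) (rep ch i) g := by
  obtain ⟨-, h2, h3, h4, -⟩ := Frob.of_levelCheck ((chain_spec hc).2 i hi).1
  have hlev := level_at hc hi
  have hn : ∀ S : Set ℕ, ∀ x ∈ C.Ucl S, C.R.torus c * x * (C.R.torus c)⁻¹ ∈ C.Ucl S := fun S x hx =>
    (Subgroup.mem_normalizer_iff.1 (C.torus_normalizes S ⟨c, rfl⟩) x).1 hx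
  refine C.coord_eq hlev h2 h3 (hn _ _ hg) ?_
  have hy := hn _ _ (C.coord_spec hlev h2 h3 hg)
  rw [show C.xGL (rep ch i) ((C.R.torusChar c (C.R.α (rep ch i)) : F) *
      C.coord (listSet (lev ch i)) (rep ch i) g) = C.R.torus c *
      C.xGL (rep ch i) (C.coord (listSet (lev ch i)) (rep ch i) g) * (C.R.torus c)⁻¹ from
    (C.acts_torus c ⟨rep ch i, (h4 _ h2).1⟩ _).symm]
  simpa [mul_assoc] using hy

end check

/-- The data of the layers. -/
structure ChainData (φ : Frob C) (G1 : Subgroup (GL D.Idx F)) (root : ℕ → ℕ)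
    (ch : List (List ℕ × ℕ)) where
  check : chainCheck D C.R.α root ch = true
  hρ : ∀ r : Fin D.nroots, (φ.ρ r : ℕ) = root r
  le_fixed : G1 ≤ φ.fixedSub
  P : ℕ → AddSubgroup F
  mem_P : ∀ i, i < ch.length → ∀ g ∈ φ.fixU (listSet (lev ch i)),
    C.coord (listSet (lev ch i)) (rep ch i) g ∈ P i
  gen : ∀ i, i < ch.length → ∀ a ∈ P i, ∃ x ∈ C.Ucl (listSet (lev ch i)), x ∈ G1 ∧
    C.coord (listSet (lev ch i)) (rep ch i) x = a
  params : Set (Fin D.rank → Fˣ)
  torus_mem : ∀ c ∈ params, C.R.torus c ∈ G1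
  moves : ∀ i, i < ch.length → ∃ c ∈ params, (C.R.torusChar c (C.R.α (rep ch i)) : F) ≠ 1

/-- The terms of the series. -/
noncomputable def series (C : ChevCore D F) (ch : List (List ℕ × ℕ)) (G1 : Subgroup (GL D.Idx F))
    (i : ℕ) : Subgroup ↥G1 :=
  (C.Ucl (listSet (lev ch i))).subgroupOf G1

/-- The coordinate of a layer. -/
noncomputable def co (C : ChevCore D F) (ch : List (List ℕ × ℕ)) {G1 : Subgroup (GL D.Idx F)}
    (i : ℕ) (x : ↥G1) : F :=
  C.coord (listSet (lev ch i)) (rep ch i) (x : GL D.Idx F)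

/-- The weight of a layer. -/
noncomputable def wt (C : ChevCore D F) (ch : List (List ℕ × ℕ)) {G1 : Subgroup (GL D.Idx F)}
    (i : ℕ) (t : ↥G1) : F :=
  C.coord (listSet (lev ch i)) (rep ch i)
    ((t : GL D.Idx F) * C.xGL (rep ch i) 1 * (t : GL D.Idx F)⁻¹)

namespace ChainData

variable {G1 : Subgroup (GL D.Idx F)} (X : ChainData φ G1 root ch)

include X in
theorem mem_fixU {i : ℕ} {x : ↥G1} (hx : x ∈ series C ch G1 i) :
    (x : GL D.Idx F) ∈ φ.fixU (listSet (lev ch i)) :=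
  Subgroup.mem_inf.2 ⟨hx, X.le_fixed x.2⟩

include X in
theorem rep_mem {i : ℕ} (hi : i < ch.length) : rep ch i ∈ lev ch i ∧ rep ch i ∉ lev ch (i + 1) :=
  ⟨(Frob.of_levelCheck ((chain_spec X.check).2 i hi).1).2.1,
    (Frob.of_levelCheck ((chain_spec X.check).2 i hi).1).2.2.1⟩

include X in
theorem wt_torus {i : ℕ} (hi : i < ch.length) {c : Fin D.rank → Fˣ} {t : ↥G1}
    (ht : (t : GL D.Idx F) = C.R.torus c) :
    wt C ch i t = (C.R.torusChar c (C.R.α (rep ch i)) : F) := by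
  obtain ⟨h2, h3⟩ := X.rep_mem hi
  rw [wt, ht, coord_conj X.check hi c (C.xGL_mem_Ucl (S := listSet (lev ch i)) h2 1),
    C.coord_xGL_self (level_at X.check hi) h2 h3, mul_one]

/-- The layers. -/
noncomputable def layers : Layers ↥G1 F where
  len := ch.length
  S := series C ch G1
  S_len := by
    rw [series, lev_of_le le_rfl, listSet_nil,
      show C.Ucl ∅ = ⊥ from le_bot_iff.1 (C.Ucl_le fun r hr => absurd hr (Set.notMem_empty r)),
      Subgroup.bot_subgroupOf]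
  mono i _ := Subgroup.comap_mono (Ucl_anti X.check)
  le_top i _ := Subgroup.comap_mono (Ucl_le_top X.check i)
  c := co C ch
  c_mul i hi x hx y hy :=
    C.coord_mul (level_at X.check hi) (X.rep_mem hi).1 (X.rep_mem hi).2 hx hy
  c_ker i hi x hx := ker_coord X.check hi X.hρ (X.mem_fixU hx)
  P := X.P
  c_mem i hi x hx := X.mem_P i hi _ (X.mem_fixU hx)
  c_surj i hi a ha := by
    obtain ⟨x, hx, hx1, hxc⟩ := X.gen i hi a ha
    exact ⟨⟨x, hx1⟩, hx, hxc⟩
  comm i _ x hx q hq := by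
    show ((⁅x, q⁆ : ↥G1) : GL D.Idx F) ∈ C.Ucl (listSet (lev ch (i + 1)))
    rw [show ((⁅x, q⁆ : ↥G1) : GL D.Idx F) = ⁅(x : GL D.Idx F), (q : GL D.Idx F)⁆ from rfl]
    exact comm_mem_succ X.check hx hq
  T := {t | ∃ c ∈ X.params, (t : GL D.Idx F) = C.R.torus c}
  T_comm := by
    rintro s ⟨c, -, hc⟩ t ⟨d, -, hd⟩
    refine Subtype.ext ?_
    show (s : GL D.Idx F) * (t : GL D.Idx F) = (t : GL D.Idx F) * (s : GL D.Idx F)
    rw [hc, hd, ← map_mul, ← map_mul, mul_comm]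
  χ := wt C ch
  conj i _ t ht x hx := by
    obtain ⟨c, -, hc⟩ := ht
    show (t : GL D.Idx F) * (x : GL D.Idx F) * (t : GL D.Idx F)⁻¹ ∈ C.Ucl (listSet (lev ch i))
    rw [hc]
    exact (Subgroup.mem_normalizer_iff.1 (C.torus_normalizes _ ⟨c, rfl⟩) _).1 hx
  c_conj i hi t ht x hx := by
    obtain ⟨c, -, hc⟩ := ht
    rw [X.wt_torus hi hc]
    show C.coord (listSet (lev ch i)) (rep ch i)
      ((t : GL D.Idx F) * (x : GL D.Idx F) * (t : GL D.Idx F)⁻¹) = _
    rw [hc]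
    exact coord_conj X.check hi c hx
  moves i hi := by
    obtain ⟨c, hc, hne⟩ := X.moves i hi
    exact ⟨⟨_, X.torus_mem c hc⟩, ⟨c, hc, rfl⟩, by rwa [X.wt_torus hi rfl]⟩

theorem layers_S_zero : X.layers.S 0 = (D.posUnipotent F).subgroupOf G1 := by
  show series C ch G1 0 = _
  rw [series, listSet_zero X.check, C.posUnipotent_eq]

end ChainData

end CfsgLib.TwistMult
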