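import Cfsg.Agent.Lib.TwistMult.D4Two
import Cfsg.Agent.Lib.Schur.Criteria

/-!
# The multiplier of ³D₄(q) has no part in the defining characteristic
-/

set_option autoImplicit false
set_option linter.style.haveILetI false

namespace CfsgLib.TwistMult

open Cfsg.Lie CfsgLib.ChevStr CfsgLib.Twisted CfsgLib.TwistAut
open scoped MatrixGroups

variable {K : Type*} [Field K] [Fintype K] {p n : ℕ} [ExpChar K p] [Fact p.Prime] [CharP K p]
  (hn : Fintype.card K = (p ^ n) * (p ^ n) * (p ^ n)) (hq : 2 ≤ p ^ n)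

include hn hq

theorem pos_index : ¬ p ∣ ((pU (twistedD4 K (p ^ n))).subgroupOf (twistedD4 K (p ^ n))).index := by
  set G1 := twistedD4 K (p ^ n)
  have g := gensD4 K hn hq
  have hp : p.Prime := Fact.out
  have h1 := Subgroup.card_mul_index ((bor G1).subgroupOf G1)
  have h2 := Subgroup.card_mul_index ((pU G1).subgroupOf G1)
  rw [← h1, Nat.card_congr (Subgroup.subgroupOfEquivOfLe (inf_le_right : bor G1 ≤ G1)).toEquiv,
    Nat.card_congr (Subgroup.subgroupOfEquivOfLe (inf_le_right : pU G1 ≤ G1)).toEquiv, card_bor g,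
    card_H1D4 K hn hq, mul_assoc] at h2
  rw [Nat.eq_of_mul_eq_mul_left Nat.card_pos h2, Nat.Prime.dvd_mul hp, Nat.Prime.dvd_mul hp]
  have hn0 : n ≠ 0 := fun h => by rw [h, pow_zero] at hq; omega
  have hpq : p ∣ p ^ n := dvd_pow_self p hn0
  refine not_or.2 ⟨not_or.2 ⟨fun h => ?_, fun h => ?_⟩,
    not_dvd_index g p (n := n) (by rw [Nat.card_eq_fintype_card, hn]; ring)⟩
  all_goals
    have h3 := Nat.dvd_sub (dvd_pow hpq (show 3 ≠ 0 by norm_num)) h
    have h4 := Nat.dvd_sub hpq h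
    have h5 : 1 ≤ (p ^ n) ^ 3 := Nat.one_le_pow _ _ (by omega)
    first
      | (rw [show p ^ n - (p ^ n - 1) = 1 by omega] at h4
         exact hp.ne_one (Nat.dvd_one.1 h4))
      | (rw [show (p ^ n) ^ 3 - ((p ^ n) ^ 3 - 1) = 1 by omega] at h3
         exact hp.ne_one (Nat.dvd_one.1 h3))

theorem noMultiplierAt_char : CfsgLib.Schur.NoMultiplierAt p ↥(twistedD4 K (p ^ n)) := by
  set G1 := twistedD4 K (p ^ n)
  have hpg : IsPGroup p ↥((pU G1).subgroupOf G1) :=
    (isPGroup_pU (C := coreD4 K) (G1 := G1) p).comap_of_injective G1.subtype G1.subtype_injective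
  have key : (pU G1).subgroupOf G1 = (chevD4.posUnipotent K).subgroupOf G1 :=
    Subgroup.inf_subgroupOf_right _ _
  refine CfsgLib.Schur.noMultiplierAt_of_derived (hpg.toSylow (pos_index hn hq))
    fun Γ _ _ σ hσ Q hQ z hz hzQ _ => ?_
  have hQ' : Q.map σ ≤ (chevD4.posUnipotent K).subgroupOf G1 := hQ.le.trans key.le
  rcases Nat.lt_or_ge (p ^ n) 3 with h2 | h3
  · have hp : p.Prime := Fact.out
    have hn0 : n ≠ 0 := fun h => by rw [h, pow_zero] at hq; omega
    have hp2 : p = 2 := le_antisymm (by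
      have := Nat.le_self_pow hn0 p
      omega) hp.two_le
    subst hp2
    have hn1 : n = 1 := Nat.pow_right_injective le_rfl (by
      show 2 ^ n = 2 ^ 1
      rw [pow_one]; omega)
    subst hn1
    exact derived_inf_kerD4_two hn hσ.1 hσ.2.1 hQ' hz hzQ
  · exact derived_inf_kerD4 hn hq h3 hσ.1 hσ.2.1 hQ' hz hzQ

end CfsgLib.TwistMult
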