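import Cfsg.Agent.Lib.TwistMult.Chain
import Cfsg.Agent.Lib.TwistedStr.TorusD4
import Cfsg.Agent.Lib.Twisted.WeylQuot
import Cfsg.Agent.Lib.TwistAut.Base

/-!
# Root elements, torus elements and the chain of layers of ³D₄
-/

set_option autoImplicit false

namespace CfsgLib.TwistMult

open Cfsg.Lie CfsgLib.ChevStr CfsgLib.Twisted
open scoped MatrixGroups

/-- The chain of the positive roots by orbits. -/
def chD4 : List (List ℕ × ℕ) :=
  [([18, 13, 12, 14, 19, 16, 15, 21, 17, 20, 22, 23], 18),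
    ([14, 19, 16, 15, 21, 17, 20, 22, 23], 14), ([19, 16, 15, 21, 17, 20, 22, 23], 19),
    ([21, 17, 20, 22, 23], 21), ([22, 23], 22), ([23], 23)]

theorem chD4_check : chainCheck chevD4 rootDataD4.α d4aSym.root chD4 = true := by decide +kernel

/-- The signs making a product over an orbit of three roots fixed. -/
def e1D4 (r : ℕ) : ℤ := d4aSym.sign r

/-- The second sign. -/
def e2D4 (r : ℕ) : ℤ := d4aSym.sign r * d4aSym.sign (d4aSym.root r)

theorem shortOrbits : ∀ r ∈ [18, 19, 21],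
    r < chevD4.nroots ∧ chevD4.IsPosRoot r ∧ chevD4.IsPosRoot (d4aSym.root r) ∧
      chevD4.IsPosRoot (d4aSym.root (d4aSym.root r)) ∧
      d4aSym.root (d4aSym.root (d4aSym.root r)) = r ∧
      d4aSym.sign r * d4aSym.sign r = 1 ∧ d4aSym.sign (d4aSym.root r) * d4aSym.sign (d4aSym.root r) = 1 ∧
      d4aSym.sign (d4aSym.root (d4aSym.root r)) * e2D4 r = 1 ∧
      d4aSym.root r ≠ r ∧ d4aSym.root r ≠ chevD4.neg r ∧ chevD4.commTerms r (d4aSym.root r) = [] ∧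
      d4aSym.root (d4aSym.root r) ≠ r ∧ d4aSym.root (d4aSym.root r) ≠ chevD4.neg r ∧
      chevD4.commTerms r (d4aSym.root (d4aSym.root r)) = [] := by
  decide +kernel

theorem longRoots : ∀ r ∈ [14, 22, 23],
    r < chevD4.nroots ∧ chevD4.IsPosRoot r ∧ d4aSym.root r = r ∧ d4aSym.sign r = 1 := by
  decide +kernel

variable {K : Type*} [Field K]

/-- The torus parameters `(x, s, x ^ q, x ^ q ^ 2)`. -/
def parD4 (q : ℕ) (x s : Kˣ) (j : Fin chevD4.rank) : Kˣ :=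
  [x, s, x ^ q, (x ^ q) ^ q].getD j.val 1

/-- The element over an orbit of three roots. -/
noncomputable def tri (K : Type*) [Field K] (q r : ℕ) (t : K) : GL chevD4.Idx K :=
  (coreD4 K).xGL r t * ((coreD4 K).xGL (d4aSym.root r) ((e1D4 r : K) * t ^ q) *
    (coreD4 K).xGL (d4aSym.root (d4aSym.root r)) ((e2D4 r : K) * (t ^ q) ^ q))

theorem tri_mem_Ucl {L : List ℕ} {r : ℕ} (q : ℕ) (t : K) (h1 : r ∈ L) (h2 : d4aSym.root r ∈ L)
    (h3 : d4aSym.root (d4aSym.root r) ∈ L) : tri K q r t ∈ (coreD4 K).Ucl (listSet L) :=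
  mul_mem ((coreD4 K).xGL_mem_Ucl (S := listSet L) h1 _)
    (mul_mem ((coreD4 K).xGL_mem_Ucl (S := listSet L) h2 _)
      ((coreD4 K).xGL_mem_Ucl (S := listSet L) h3 _))

theorem rootPar_values (q : ℕ) (x s : Kˣ) :
    ((rootDataD4.torusChar (parD4 q x s) (rootDataD4.α 18) : Kˣ) = x ^ 2 * s⁻¹) ∧
    ((rootDataD4.torusChar (parD4 q x s) (rootDataD4.α 14) : Kˣ) =
      s ^ 2 * (x * x ^ q * (x ^ q) ^ q)⁻¹) ∧
    ((rootDataD4.torusChar (parD4 q x s) (rootDataD4.α 19) : Kˣ) =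
      x * s * (x ^ q * (x ^ q) ^ q)⁻¹) ∧
    ((rootDataD4.torusChar (parD4 q x s) (rootDataD4.α 21) : Kˣ) =
      x * x ^ q * ((x ^ q) ^ q)⁻¹) ∧
    ((rootDataD4.torusChar (parD4 q x s) (rootDataD4.α 22) : Kˣ) =
      x * x ^ q * (x ^ q) ^ q * s⁻¹) ∧
    ((rootDataD4.torusChar (parD4 q x s) (rootDataD4.α 23) : Kˣ) = s) := by
  have e : ∀ r : ℕ, r < chevD4.nroots → rootDataD4.torusChar (parD4 q x s) (rootDataD4.α r) =
      x ^ chevD4.cartan 0 r * s ^ chevD4.cartan 1 r * (x ^ q) ^ chevD4.cartan 2 r *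
        ((x ^ q) ^ q) ^ chevD4.cartan 3 r := fun r hr => by
    rw [rootDataD4.torusChar_root _ hr, prod_nodeD4]
    simp only [parD4, nodeD4, List.getD_cons_zero, List.getD_cons_succ]
  have hv : ([18, 14, 19, 21, 22, 23].map fun r => (List.range 4).map fun j => chevD4.cartan j r) =
      [[2, -1, 0, 0], [-1, 2, -1, -1], [1, 1, -1, -1], [1, 0, 1, -1], [1, -1, 1, 1], [0, 1, 0, 0]] := by
    decide +kernel
  simp only [List.range_succ, List.range_zero, List.nil_append, List.cons_append, List.map_cons,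
    List.map_nil, List.cons.injEq, and_true] at hv
  obtain ⟨⟨a0, a1, a2, a3⟩, ⟨b0, b1, b2, b3⟩, ⟨c0, c1, c2, c3⟩, ⟨d0, d1, d2, d3⟩, ⟨f0, f1, f2, f3⟩,
    g0, g1, g2, g3⟩ := hv
  refine ⟨?_, ?_, ?_, ?_, ?_, ?_⟩
  · rw [e 18 (by decide), a0, a1, a2, a3]; simp [zpow_two, sq]
  · rw [e 14 (by decide), b0, b1, b2, b3]; simp [zpow_two, sq, mul_assoc, mul_comm, mul_left_comm]
  · rw [e 19 (by decide), c0, c1, c2, c3]; simp [mul_comm, mul_left_comm, mul_assoc]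
  · rw [e 21 (by decide), d0, d1, d2, d3]; simp
  · rw [e 22 (by decide), f0, f1, f2, f3]; simp [mul_assoc, mul_comm, mul_left_comm]
  · rw [e 23 (by decide), g0, g1, g2, g3]; simp

variable [Fintype K] {p n : ℕ} [ExpChar K p] (hn : Fintype.card K = (p ^ n) * (p ^ n) * (p ^ n))
include hn

theorem parD4_mem {x s : Kˣ} (hs : s ^ p ^ n = s) :
    parD4 (p ^ n) x s ∈ fixTorus (F := K) piD4 (fun _ => p ^ n) := by
  rw [mem_fixTorus]
  intro j
  obtain ⟨e0, e1, e2, e3⟩ := piD4_vals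
  rcases nodeD4_cases j with rfl | rfl | rfl | rfl <;> simp only [e0, e1, e2, e3] <;>
    simp [parD4, nodeD4, hs, unit_pow_cube K hn]

theorem torus_memD4 {x s : Kˣ} (hs : s ^ p ^ n = s) :
    (coreD4 K).R.torus (parD4 (p ^ n) x s) ∈ twistedD4 K (p ^ n) :=
  fixTorus_leD4 K hn _ (parD4_mem hn hs)

theorem act_tri {r : ℕ} (hr : r ∈ [18, 19, 21]) (t : K) :
    (frobD4 K p n).act (tri K (p ^ n) r t) = tri K (p ^ n) r t := by
  obtain ⟨h0, hp0, hp1, hp2, h3, s1, s2, s3, n1, m1, k1, n2, m2, k2⟩ := shortOrbits r hr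
  have hq3 : ((t ^ p ^ n) ^ p ^ n) ^ p ^ n = t := by
    rw [← pow_mul, ← pow_mul, ← mul_assoc, ← hn, FiniteField.pow_card]
  have hcast : ∀ z : ℤ, (z : K) ^ p ^ n = (z : K) := fun z => by
    rw [← iterateFrobenius_def, map_intCast]
  set C := coreD4 K
  set r1 := d4aSym.root r
  set r2 := d4aSym.root r1
  have hG := fun (k : ℕ) (u : K) => C.xGL_mem_group k u
  rw [tri, (frobD4 K p n).act_mul (hG _ _) (mul_mem (hG _ _) (hG _ _)),
    (frobD4 K p n).act_mul (hG _ _) (hG _ _),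
    (frobD4 K p n).act_word (root := d4aSym.root) (fun _ => rfl) h0,
    (frobD4 K p n).act_word (root := d4aSym.root) (fun _ => rfl) hp1.1,
    (frobD4 K p n).act_word (root := d4aSym.root) (fun _ => rfl) hp2.1, h3]
  show C.xGL r1 ((d4aSym.sign r : K) * t ^ p ^ n) * (C.xGL r2 ((d4aSym.sign r1 : K) *
      ((e1D4 r : K) * t ^ p ^ n) ^ p ^ n) * C.xGL r ((d4aSym.sign r2 : K) *
        ((e2D4 r : K) * (t ^ p ^ n) ^ p ^ n) ^ p ^ n)) = _
  rw [mul_pow, mul_pow, hcast, hcast, hq3, ← mul_assoc ((d4aSym.sign r2 : ℤ) : K) _ t,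
    ← Int.cast_mul, s3, Int.cast_one, one_mul, ← mul_assoc ((d4aSym.sign r1 : ℤ) : K),
    show ((d4aSym.sign r1 : ℤ) : K) * (e1D4 r : K) = (e2D4 r : K) by
      rw [e1D4, e2D4, Int.cast_mul, mul_comm],
    C.xGL_commute h0 hp2.1 n2 m2 (by simp [k2]), ← mul_assoc,
    C.xGL_commute h0 hp1.1 n1 m1 (by simp [k1]), mul_assoc]
  rfl

theorem tri_mem (hq : 2 ≤ p ^ n) {r : ℕ} (hr : r ∈ [18, 19, 21]) (t : K) :
    tri K (p ^ n) r t ∈ twistedD4 K (p ^ n) := by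
  obtain ⟨h0, hp0, hp1, hp2, -⟩ := shortOrbits r hr
  have hU : tri K (p ^ n) r t ∈ (coreD4 K).Ucl {k | chevD4.IsPosRoot k} :=
    mul_mem ((coreD4 K).xGL_mem_Ucl (S := {k | chevD4.IsPosRoot k}) hp0 _)
      (mul_mem ((coreD4 K).xGL_mem_Ucl (S := {k | chevD4.IsPosRoot k}) hp1 _)
        ((coreD4 K).xGL_mem_Ucl (S := {k | chevD4.IsPosRoot k}) hp2 _))
  exact (gensD4 K hn hq).fixU_pos.1 (Subgroup.mem_inf.2 ⟨hU, (frobD4 K p n).mem_fixedSub.2
    ⟨mul_mem ((coreD4 K).xGL_mem_group _ _)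
      (mul_mem ((coreD4 K).xGL_mem_group _ _) ((coreD4 K).xGL_mem_group _ _)), act_tri hn hr t⟩⟩)

omit hn [Fintype K] in
theorem act_long {r : ℕ} (hr : r ∈ [14, 22, 23]) (t : K) :
    (frobD4 K p n).act ((coreD4 K).xGL r t) = (coreD4 K).xGL r (t ^ p ^ n) := by
  obtain ⟨h0, -, h1, h2⟩ := longRoots r hr
  rw [(frobD4 K p n).act_word (root := d4aSym.root) (fun _ => rfl) h0, h1]
  show (coreD4 K).xGL r ((d4aSym.sign r : K) * t ^ p ^ n) = _
  rw [h2, Int.cast_one, one_mul]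

theorem long_mem (hq : 2 ≤ p ^ n) {r : ℕ} (hr : r ∈ [14, 22, 23]) {t : K} (ht : t ^ p ^ n = t) :
    (coreD4 K).xGL r t ∈ twistedD4 K (p ^ n) :=
  (gensD4 K hn hq).fixU_pos.1 (Subgroup.mem_inf.2
    ⟨(coreD4 K).xGL_mem_Ucl (S := {k | chevD4.IsPosRoot k}) (longRoots r hr).2.1 t,
      (frobD4 K p n).mem_fixedSub.2
        ⟨(coreD4 K).xGL_mem_group _ _, by rw [act_long hr, ht]⟩⟩)

omit hn [Fintype K] [ExpChar K p]

/-- The coordinate groups of the layers. -/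
def layerP (K : Type*) [Field K] (p n : ℕ) [ExpChar K p] (i : ℕ) : AddSubgroup K :=
  if i ∈ [1, 4, 5] then (RingHom.eqLocusField (iterateFrobenius K p n) (RingHom.id K)).toSubring.toAddSubgroup
  else ⊤

theorem mem_layerP_long [ExpChar K p] {i : ℕ} (hi : i ∈ [1, 4, 5]) {t : K} :
    t ∈ layerP K p n i ↔ t ^ p ^ n = t := by
  rw [layerP, if_pos hi]
  show iterateFrobenius K p n t = RingHom.id K t ↔ _
  rw [iterateFrobenius_def, RingHom.id_apply]

theorem mem_layerP_short [ExpChar K p] {i : ℕ} (hi : i ∉ [1, 4, 5]) (t : K) :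
    t ∈ layerP K p n i := by
  rw [layerP, if_neg hi]; trivial

theorem layer_cases : ∀ i : ℕ, i < chD4.length → i = 0 ∨ i = 1 ∨ i = 2 ∨ i = 3 ∨ i = 4 ∨ i = 5 := by
  intro i hi
  have : i < 6 := hi
  omega

/-- The parameters of the torus. -/
def parsD4 (K : Type*) [Field K] (p n : ℕ) : Set (Fin chevD4.rank → Kˣ) :=
  {c | ∃ x s : Kˣ, s ^ p ^ n = s ∧ c = parD4 (p ^ n) x s}

theorem coord_tri [ExpChar K p] {i : ℕ} (hi : i < chD4.length) {r : ℕ} (hr : rep chD4 i = r)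
    (h2 : d4aSym.root r ∈ lev chD4 i) (h2' : d4aSym.root r ≠ r)
    (h3 : d4aSym.root (d4aSym.root r) ∈ lev chD4 i) (h3' : d4aSym.root (d4aSym.root r) ≠ r) (t : K) :
    (coreD4 K).coord (listSet (lev chD4 i)) (rep chD4 i) (tri K (p ^ n) r t) = t := by
  have hc : chainCheck chevD4 (coreD4 K).R.α d4aSym.root chD4 = true := chD4_check
  have hlev := level_at hc hi
  obtain ⟨-, hm, hm', -, -⟩ := Frob.of_levelCheck ((chain_spec hc).2 i hi).1
  subst hr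
  rw [tri, (coreD4 K).coord_mul hlev hm hm' ((coreD4 K).xGL_mem_Ucl (S := listSet (lev chD4 i)) hm _)
    (mul_mem ((coreD4 K).xGL_mem_Ucl (S := listSet (lev chD4 i)) h2 _)
      ((coreD4 K).xGL_mem_Ucl (S := listSet (lev chD4 i)) h3 _)),
    (coreD4 K).coord_xGL_self hlev hm hm',
    (coreD4 K).coord_of_mem hlev hm hm' (mul_mem
      ((coreD4 K).xGL_mem_Ucl (S := listSet (lev chD4 i) \ {rep chD4 i}) ⟨h2, h2'⟩ _)
      ((coreD4 K).xGL_mem_Ucl (S := listSet (lev chD4 i) \ {rep chD4 i}) ⟨h3, h3'⟩ _)), add_zero]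

theorem short_tables : ∀ i ∈ [0, 2, 3], rep chD4 i ∈ [18, 19, 21] ∧
    rep chD4 i ∈ lev chD4 i ∧ d4aSym.root (rep chD4 i) ∈ lev chD4 i ∧
    d4aSym.root (rep chD4 i) ≠ rep chD4 i ∧
    d4aSym.root (d4aSym.root (rep chD4 i)) ∈ lev chD4 i ∧
    d4aSym.root (d4aSym.root (rep chD4 i)) ≠ rep chD4 i := by decide +kernel

theorem long_tables : ∀ i ∈ [1, 4, 5], rep chD4 i ∈ [14, 22, 23] ∧ rep chD4 i ∈ lev chD4 i := by
  decide +kernel

end CfsgLib.TwistMult
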