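import Cfsg.Agent.Lib.TwistMult.D4Pairs
import Cfsg.Agent.Lib.TwistedStr.WeylD4

/-!
# The derived subgroup of the preimage of the unipotent group of ³D₄(q), q ≥ 3
-/

set_option autoImplicit false
set_option linter.style.haveILetI false

namespace CfsgLib.TwistMult

open Cfsg.Lie CfsgLib.ChevStr CfsgLib.Twisted
open scoped MatrixGroups commutatorElement

universe u

variable {K : Type*} [Field K] [Fintype K] {p n : ℕ} [ExpChar K p]
  (hn : Fintype.card K = (p ^ n) * (p ^ n) * (p ^ n)) (hq : 2 ≤ p ^ n)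

theorem goodTables :
    chevD4.commTerms 14 22 = [(23, 1, 1, 1)] ∧ chevD4.commTerms 14 23 = [] ∧
      chevD4.commTerms 22 23 = [] ∧ (22 : ℕ) ≠ 14 ∧ (22 : ℕ) ≠ chevD4.neg 14 ∧
      (23 : ℕ) ≠ chevD4.neg 14 ∧ (23 : ℕ) ≠ chevD4.neg 22 := by decide +kernel

theorem wordMaps : (∀ r : Fin chevD4.nroots, (r : ℕ) = 14 →
      (reflDataD4.wordPerm (d4TwistWord 0) r : ℕ) = 22) ∧
    (∀ r : Fin chevD4.nroots, (r : ℕ) = 22 →
      (reflDataD4.wordPerm (d4TwistWord 1) r : ℕ) = 23) := by decide +kernel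

section long

omit [Fintype K] [ExpChar K p] in
theorem xGL_inj {r : ℕ} (hr : r < chevD4.nroots) {a b : K}
    (h : (coreD4 K).xGL r a = (coreD4 K).xGL r b) : a = b := by
  have e : (coreD4 K).xGL r (a + -b) = 1 := by
    rw [(coreD4 K).xGL_add, ← (coreD4 K).xGL_inv, h, mul_inv_cancel]
  exact add_neg_eq_zero.1 (((coreD4 K).xGL_eq_one_iff hr).1 e)

/-- An element over a long root. -/
noncomputable def lng (r : ℕ) (hr : r ∈ [14, 22, 23]) {t : K} (ht : t ^ p ^ n = t) :
    ↥(twistedD4 K (p ^ n)) :=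
  ⟨(coreD4 K).xGL r t, long_mem hn hq hr ht⟩

include hn hq

variable {Γ : Type u} [Group Γ] (X : ChevMult.CExt Γ ↥(twistedD4 K (p ^ n)))

theorem good_top {a b : K} (ha : a ^ p ^ n = a) (hb : b ^ p ^ n = b) :
    X.cm (lng hn hq 23 (by simp) ha) (lng hn hq 23 (by simp) hb) = 1 := by
  obtain ⟨h1, h2, h3, n1, n2, n3, n4⟩ := goodTables
  set g := lng hn hq 22 (by simp) (t := (1 : K)) (one_pow _)
  have hb' : (-b) ^ p ^ n = -b := by
    rw [← zero_sub, sub_pow_expChar_pow, zero_pow (by omega), hb]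
  set g' := lng hn hq 14 (by simp) hb'
  have e14 := fun t u : K => ((coreD4 K).xGL_commute (r := 14) (s := 23) (by decide) (by decide)
    (by norm_num) n3 (by simp [h2]) t u)
  have e22 := fun t u : K => ((coreD4 K).xGL_commute (r := 22) (s := 23) (by decide) (by decide)
    (by norm_num) n4 (by simp [h3]) t u)
  have hgg : ⁅g, g'⁆ = lng hn hq 23 (by simp) hb := by
    refine Subtype.ext ?_
    show ⁅(coreD4 K).xGL 22 1, (coreD4 K).xGL 14 (-b)⁆ = (coreD4 K).xGL 23 b
    have e := (coreD4 K).xGL_comm (r := 14) (s := 22) (by decide) (by decide) n1 n2 (-b) (1 : K)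
    rw [ChevalleyDatum.commWord, h1] at e
    simp only [List.map_cons, List.map_nil, ChevCore.wordGL_cons, ChevCore.wordGL_nil, mul_one,
      Int.cast_one, one_mul, pow_one, neg_neg] at e
    rw [commutatorElement_def, e, mul_assoc ((coreD4 K).xGL 14 (-b)) ((coreD4 K).xGL 22 1),
      ← e22 1 b, ← mul_assoc, mul_assoc _ ((coreD4 K).xGL 22 1), mul_inv_cancel, mul_one,
      ← e14 (-b) b, mul_assoc, mul_inv_cancel, mul_one]
  rw [← hgg]
  refine X.cm_comm_right (Subtype.ext ?_) (Subtype.ext ?_)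
  · exact e22 1 a
  · exact e14 (-b) a

theorem good_conj {i : Fin 2} {r r' : ℕ} (hr : r ∈ [14, 22, 23]) (hr' : r' ∈ [14, 22, 23])
    (hw : ∀ k : Fin chevD4.nroots, (k : ℕ) = r → (reflDataD4.wordPerm (d4TwistWord i) k : ℕ) = r')
    (hgood : ∀ (a b : K) (ha : a ^ p ^ n = a) (hb : b ^ p ^ n = b),
      X.cm (lng hn hq r' hr' ha) (lng hn hq r' hr' hb) = 1)
    {a b : K} (ha : a ^ p ^ n = a) (hb : b ^ p ^ n = b) :
    X.cm (lng hn hq r hr ha) (lng hn hq r hr hb) = 1 := by
  have g := gensD4 K hn hq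
  obtain ⟨h0, -, -, -⟩ := longRoots r hr
  obtain ⟨h0', -, -, -⟩ := longRoots r' hr'
  have hwJ : g.wJ i = (coreD4 K).hR.wordPerm (d4TwistWord i) :=
    g.wJ_eq_word (d4TwistWord i) (d4_word_mem i) (d4_word_neg i)
  set m : ↥(twistedD4 K (p ^ n)) := ⟨g.s i, g.s_mem i⟩
  have key : ∀ {t : K} (ht : t ^ p ^ n = t), ∃ (u : K) (hu : u ^ p ^ n = u),
      m * lng hn hq r hr ht * m⁻¹ = lng hn hq r' hr' hu := by
    intro t ht
    obtain ⟨u, hu⟩ := (g.s_moves i).2 ⟨r, h0⟩ t
    have hwr : ((g.wJ i) ⟨r, h0⟩ : ℕ) = r' := by rw [hwJ]; exact hw ⟨r, h0⟩ rfl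
    rw [hwr] at hu
    have hu' : g.s i * (coreD4 K).xGL r t * (g.s i)⁻¹ = (coreD4 K).xGL r' u := hu
    have hfix : u ^ p ^ n = u := by
      refine xGL_inj h0' ?_
      rw [← act_long hr', ← hu']
      exact ((frobD4 K p n).mem_fixedSub.1 (le_fixedD4 K hn (m * lng hn hq r hr ht * m⁻¹).2)).2
    exact ⟨u, hfix, Subtype.ext hu'⟩
  obtain ⟨u, hu, eu⟩ := key ha
  obtain ⟨v, hv, ev⟩ := key hb
  have h := X.conj_cm (X.lift m) (lng hn hq r hr ha) (lng hn hq r hr hb)
  rw [X.p_lift, eu, ev, hgood u v hu hv] at h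
  exact conj_eq_one_iff.1 h

theorem good_long {i : ℕ} (hi : i ∈ [1, 4, 5]) {a b : K} (ha : a ^ p ^ n = a) (hb : b ^ p ^ n = b) :
    X.cm (lng hn hq (rep chD4 i) (long_tables i hi).1 ha)
      (lng hn hq (rep chD4 i) (long_tables i hi).1 hb) = 1 := by
  have h22 : ∀ (a b : K) (ha : a ^ p ^ n = a) (hb : b ^ p ^ n = b),
      X.cm (lng hn hq 22 (by simp) ha) (lng hn hq 22 (by simp) hb) = 1 := fun a b ha hb =>
    good_conj hn hq X (i := 1) (by simp) (by simp) wordMaps.2
      (fun a b ha hb => good_top hn hq X ha hb) ha hb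
  simp only [List.mem_cons, List.not_mem_nil, or_false] at hi
  rcases hi with rfl | rfl | rfl
  · exact good_conj hn hq X (i := 0) (by simp) (by simp) wordMaps.1 h22 ha hb
  · exact h22 a b ha hb
  · exact good_top hn hq X ha hb

end long

variable (h3 : 3 ≤ p ^ n)

include hn hq h3

/-- Every pairing of two layers vanishes. -/
theorem pairs_vanish {Γ : Type u} [Group Γ] {σ : Γ →* ↥(twistedD4 K (p ^ n))}
    (hsur : Function.Surjective σ) (hc : σ.ker ≤ Subgroup.center Γ) :
    ∀ i, i < (dataD4 hn hq h3).layers.len → ∀ j, j ≤ i →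
      (dataD4 hn hq h3).layers.NoPairing.{u} j i ∨ (dataD4 hn hq h3).layers.GoodPair σ j i := by
  classical
  set X := dataD4 hn hq h3
  set D := X.layers
  have hlen : ∀ {i : ℕ}, i < D.len → i < chD4.length := fun h => h
  have mkT : ∀ {x s : Kˣ}, s ^ p ^ n = s → ∃ t ∈ D.T, ∀ i, i < chD4.length →
      D.χ i t = (rootDataD4.torusChar (parD4 (p ^ n) x s) (rootDataD4.α (rep chD4 i)) : Kˣ) :=
    fun {x s} hs => ⟨⟨_, torus_memD4 hn hs⟩, ⟨_, ⟨x, s, hs, rfl⟩, rfl⟩,
      fun i hi => X.wt_torus hi rfl⟩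
  intro i hi j hji
  have hj : j < chD4.length := lt_of_le_of_lt hji hi
  have fix : ∀ {x s : Kˣ}, s ^ p ^ n = s →
      (rootDataD4.torusChar (parD4 (p ^ n) x s) (rootDataD4.α (rep chD4 j)) : Kˣ) = 1 →
      (rootDataD4.torusChar (parD4 (p ^ n) x s) (rootDataD4.α (rep chD4 i)) : Kˣ) ≠ 1 →
      D.NoPairing.{u} j i := fun {x s} hs e1 e2 => by
    obtain ⟨t, ht, htv⟩ := mkT (x := x) hs
    exact D.noPairing_of_fix hi ⟨t, ht, by rw [htv j hj, e1, Units.val_one],
      by rw [htv i hi]; exact fun h => e2 (Units.ext h)⟩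
  have fix' : ∀ {x s : Kˣ}, s ^ p ^ n = s →
      (rootDataD4.torusChar (parD4 (p ^ n) x s) (rootDataD4.α (rep chD4 i)) : Kˣ) = 1 →
      (rootDataD4.torusChar (parD4 (p ^ n) x s) (rootDataD4.α (rep chD4 j)) : Kˣ) ≠ 1 →
      D.NoPairing.{u} j i := fun {x s} hs e1 e2 => by
    obtain ⟨t, ht, htv⟩ := mkT (x := x) hs
    exact D.noPairing_of_fix' hj ⟨t, ht, by rw [htv i hi, e1, Units.val_one],
      by rw [htv j hj]; exact fun h => e2 (Units.ext h)⟩
  by_cases hil : i ∈ [1, 4, 5] <;> by_cases hjl : j ∈ [1, 4, 5]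
  · by_cases hji' : j = i
    · subst hji'
      refine Or.inr fun a ha b hb => ?_
      have ha' := (mem_layerP_long hil).1 ha
      have hb' := (mem_layerP_long hil).1 hb
      let P : ChevMult.CExt Γ ↥(twistedD4 K (p ^ n)) := ⟨σ, hsur, hc⟩
      obtain ⟨hr, hm⟩ := long_tables j hil
      obtain ⟨h2, h2'⟩ := X.rep_mem hj
      have hin : ∀ {t : K} (ht : t ^ p ^ n = t), σ (P.lift (lng hn hq _ hr ht)) ∈ D.S j ∧
          D.c j (σ (P.lift (lng hn hq _ hr ht))) = t := by
        intro t ht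
        rw [show σ (P.lift (lng hn hq _ hr ht)) = _ from P.p_lift _]
        exact ⟨(coreD4 K).xGL_mem_Ucl (S := listSet (lev chD4 j)) hm t,
          (coreD4 K).coord_xGL_self (level_at X.check hj) h2 h2' t⟩
      exact ⟨_, _, (hin ha').1, (hin hb').1, (hin ha').2, (hin hb').2, good_long hn hq P hil ha' hb'⟩
    · left
      obtain ⟨s, hs, hs1⟩ := exists_small_ne_one hn h3
      obtain ⟨y, hy⟩ := exists_norm hn hq hs
      obtain ⟨y2, hy2⟩ := exists_norm hn hq (show (s ^ 2) ^ p ^ n = s ^ 2 by rw [← pow_mul, mul_comm, pow_mul, hs])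
      obtain ⟨-, a14, -, -, a22, a23⟩ := rootPar_values (p ^ n) y2 s
      obtain ⟨-, b14, -, -, b22, b23⟩ := rootPar_values (p ^ n) y (1 : Kˣ)
      simp only [List.mem_cons, List.not_mem_nil, or_false] at hil hjl
      rcases hil with rfl | rfl | rfl <;> rcases hjl with rfl | rfl | rfl <;> try omega
      · refine fix hs (x := y2) ?_ ?_
        · show rootDataD4.torusChar _ (rootDataD4.α 14) = 1
          rw [a14, hy2, mul_inv_cancel]
        · show rootDataD4.torusChar _ (rootDataD4.α 22) ≠ 1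
          rw [a22, hy2, sq, mul_inv_cancel_right]
          exact hs1
      · refine fix' (one_pow _) (x := y) ?_ ?_
        · show rootDataD4.torusChar _ (rootDataD4.α 23) = 1
          exact b23
        · show rootDataD4.torusChar _ (rootDataD4.α 14) ≠ 1
          rw [b14, hy, one_pow, one_mul]
          simpa using hs1
      · refine fix' (one_pow _) (x := y) ?_ ?_
        · show rootDataD4.torusChar _ (rootDataD4.α 23) = 1
          exact b23
        · show rootDataD4.torusChar _ (rootDataD4.α 22) ≠ 1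
          rw [b22, hy, inv_one, mul_one]
          exact hs1
  · left
    have hjs : j ∈ [0, 2, 3] := by
      rcases layer_cases j hj with rfl | rfl | rfl | rfl | rfl | rfl <;> simp at hjl ⊢
    obtain ⟨x, hx, hx'⟩ := short_moves hn hq j hjs
    exact fix' (one_pow _) (hx' i hil) hx
  · left
    have his : i ∈ [0, 2, 3] := by
      rcases layer_cases i hi with rfl | rfl | rfl | rfl | rfl | rfl <;> simp at hil ⊢
    obtain ⟨x, hx, hx'⟩ := short_moves hn hq i his
    exact fix (one_pow _) (hx' j hjl) hx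
  · left
    by_cases hji' : j = i
    · subst hji'
      refine D.noPairing_of_scalars (mem_layerP_short hil _) (fun a _ b _ => mem_layerP_short hil _)
        (fun a _ => mem_layerP_short hil _) (fun l _ hl => ?_) ?_
      · have hcases : j = 0 ∨ j = 2 ∨ j = 3 := by
          rcases layer_cases j hj with rfl | rfl | rfl | rfl | rfl | rfl <;> simp at hil ⊢
        set u := Units.mk0 l hl
        suffices h : ∃ x s : Kˣ, s ^ p ^ n = s ∧
            rootDataD4.torusChar (parD4 (p ^ n) x s) (rootDataD4.α (rep chD4 j)) = u by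
          obtain ⟨x, s, hs, e⟩ := h
          obtain ⟨t, ht, htv⟩ := mkT (x := x) hs
          exact ⟨t, ht, by rw [htv j hj, e]; rfl⟩
        rcases hcases with rfl | rfl | rfl
        · obtain ⟨k, hk⟩ : 2 ∣ p ^ n + p ^ n * p ^ n := by
            rw [show p ^ n + p ^ n * p ^ n = p ^ n * (p ^ n + 1) by ring]
            exact (Nat.even_mul_succ_self _).two_dvd
          refine ⟨u * u ^ k, u * u ^ p ^ n * (u ^ p ^ n) ^ p ^ n, norm_fixed hn u, ?_⟩
          show rootDataD4.torusChar _ (rootDataD4.α 18) = u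
          rw [(rootPar_values (p ^ n) (u * u ^ k) _).1, mul_inv_eq_iff_eq_mul, mul_pow, ← pow_mul,
            mul_comm k, ← hk, pow_add, pow_mul, sq]
          simp only [mul_assoc, mul_comm, mul_left_comm]
        · obtain ⟨x, hx⟩ := exists_pow_exp hn hq u⁻¹
          refine ⟨x, 1, one_pow _, ?_⟩
          show rootDataD4.torusChar _ (rootDataD4.α 19) = u
          rw [(rootPar_values (p ^ n) x (1 : Kˣ)).2.2.1, mul_one, ← inv_inv u, ← hx]
          simp only [mul_inv_rev, inv_inv, mul_comm, mul_left_comm, mul_assoc]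
        · obtain ⟨x, hx⟩ := exists_pow_exp hn hq (u ^ p ^ n)
          refine ⟨x, 1, one_pow _, frob_injective hn ?_⟩
          show (rootDataD4.torusChar _ (rootDataD4.α 21)) ^ p ^ n = u ^ p ^ n
          rw [(rootPar_values (p ^ n) x (1 : Kˣ)).2.2.2.1, ← hx, mul_pow, mul_pow, inv_pow,
            unit_pow_cube K hn x]
      · obtain ⟨ν, -, h⟩ := Layers.exists_good_scalar (P := (Set.univ : Set K)) (by
          rw [Set.ncard_univ, Nat.card_eq_fintype_card, hn]
          calc 4 < 3 * 3 * 3 := by norm_num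
            _ ≤ _ := Nat.mul_le_mul (Nat.mul_le_mul h3 h3) h3)
        exact ⟨ν, mem_layerP_short hil _, h⟩
    · obtain ⟨s, hs, hs1⟩ := exists_small_ne_one hn h3
      obtain ⟨a18, -, a19, a21, -, -⟩ := rootPar_values (p ^ n) (1 : Kˣ) s
      obtain ⟨b18, -, b19, -, -, -⟩ := rootPar_values (p ^ n) s (s * s)
      have hss : (s * s) ^ p ^ n = s * s := by rw [mul_pow, hs]
      rcases layer_cases i hi with rfl | rfl | rfl | rfl | rfl | rfl <;>
        rcases layer_cases j hj with rfl | rfl | rfl | rfl | rfl | rfl <;> simp at hil hjl <;> try omega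
      · refine fix hss (x := s) ?_ ?_
        · show rootDataD4.torusChar _ (rootDataD4.α 18) = 1
          rw [b18, sq, mul_inv_cancel]
        · show rootDataD4.torusChar _ (rootDataD4.α 19) ≠ 1
          rw [b19, hs, hs, mul_inv_cancel_right]
          exact hs1
      · refine fix' hs (x := 1) ?_ ?_
        · show rootDataD4.torusChar _ (rootDataD4.α 21) = 1
          rw [a21]; simp
        · show rootDataD4.torusChar _ (rootDataD4.α 18) ≠ 1
          rw [a18]; simpa using hs1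
      · refine fix' hs (x := 1) ?_ ?_
        · show rootDataD4.torusChar _ (rootDataD4.α 21) = 1
          rw [a21]; simp
        · show rootDataD4.torusChar _ (rootDataD4.α 19) ≠ 1
          rw [a19]; simpa using hs1

theorem derived_inf_kerD4 {Γ : Type u} [Group Γ] {σ : Γ →* ↥(twistedD4 K (p ^ n))}
    (hsur : Function.Surjective σ) (hc : σ.ker ≤ Subgroup.center Γ) {Q : Subgroup Γ}
    (hQ : Q.map σ ≤ (chevD4.posUnipotent K).subgroupOf (twistedD4 K (p ^ n))) {z : Γ}
    (hz : z ∈ σ.ker) (hzQ : z ∈ ⁅Q, Q⁆) : z = 1 := by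
  refine (dataD4 hn hq h3).layers.derived_inf_ker hsur hc (pairs_vanish hn hq h3 hsur hc) ?_ hz hzQ
  rw [(dataD4 hn hq h3).layers_S_zero]
  exact hQ

end CfsgLib.TwistMult
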