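import Cfsg.Agent.Lib.TwistMult.D4Elements
import Cfsg.Agent.Lib.ChevMult.CentralExt

/-!
# The pairings between the layers of ³D₄(q) for q ≥ 3
-/

set_option autoImplicit false
set_option linter.style.haveILetI false

namespace CfsgLib.TwistMult

open Cfsg.Lie CfsgLib.ChevStr CfsgLib.Twisted
open scoped MatrixGroups commutatorElement

variable {K : Type*} [Field K] [Fintype K] {p n : ℕ} [ExpChar K p]
  (hn : Fintype.card K = (p ^ n) * (p ^ n) * (p ^ n))

section field

include hn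

/-- The norm of a unit lies in the small field. -/
theorem norm_fixed (x : Kˣ) : (x * x ^ p ^ n * (x ^ p ^ n) ^ p ^ n) ^ p ^ n =
    x * x ^ p ^ n * (x ^ p ^ n) ^ p ^ n := by
  rw [mul_pow, mul_pow, unit_pow_cube K hn x, mul_comm, ← mul_assoc]

theorem card_units_eq : Nat.card Kˣ = (p ^ n) ^ 3 - 1 := by
  rw [Nat.card_units, Nat.card_eq_fintype_card, hn]; ring_nf

/-- The norm is onto the units of the small field. -/
theorem exists_norm (hq : 2 ≤ p ^ n) {a : Kˣ} (ha : a ^ p ^ n = a) :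
    ∃ x : Kˣ, x * x ^ p ^ n * (x ^ p ^ n) ^ p ^ n = a := by
  obtain ⟨g, hg⟩ := IsCyclic.exists_generator (α := Kˣ)
  have hord : orderOf g = (p ^ n) ^ 3 - 1 := by
    rw [orderOf_eq_card_of_forall_mem_zpowers hg, card_units_eq hn]
  obtain ⟨k, rfl⟩ := mem_powers_iff_mem_zpowers.2 (hg a)
  set q := p ^ n with hqdef
  have hfac : q ^ 3 - 1 = (q - 1) * (1 + q + q * q) := by
    have h1 : 1 ≤ q ^ 3 := Nat.one_le_pow _ _ (by omega)
    zify [h1, (show 1 ≤ q by omega)]
    ring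
  have hk : (1 + q + q * q) ∣ k := by
    have h1 : g ^ (k * (q - 1)) = 1 := by
      refine mul_right_cancel (b := g ^ k) ?_
      rw [← pow_add, one_mul, show k * (q - 1) + k = k * q by
        rw [Nat.mul_sub_one, Nat.sub_add_cancel (Nat.le_mul_of_pos_right k (by omega))], pow_mul]
      exact ha
    have h2 := orderOf_dvd_of_pow_eq_one h1
    rw [hord, hfac, mul_comm k] at h2
    exact Nat.dvd_of_mul_dvd_mul_left (by omega) h2
  obtain ⟨j, rfl⟩ := hk
  refine ⟨g ^ j, ?_⟩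
  show _ = g ^ ((1 + q + q * q) * j)
  rw [← pow_mul, ← pow_mul, ← pow_add, ← pow_add]
  congr 1
  ring

/-- A unit of norm one whose square is not one. -/
theorem exists_norm_one (hq : 2 ≤ p ^ n) :
    ∃ x : Kˣ, x * x ^ p ^ n * (x ^ p ^ n) ^ p ^ n = 1 ∧ x ^ 2 ≠ 1 := by
  obtain ⟨g, hg⟩ := IsCyclic.exists_generator (α := Kˣ)
  have hord : orderOf g = (p ^ n) ^ 3 - 1 := by
    rw [orderOf_eq_card_of_forall_mem_zpowers hg, card_units_eq hn]
  set q := p ^ n with hqdef
  have hfac : q ^ 3 - 1 = (q - 1) * (1 + q + q * q) := by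
    have h1 : 1 ≤ q ^ 3 := Nat.one_le_pow _ _ (by omega)
    zify [h1, (show 1 ≤ q by omega)]
    ring
  refine ⟨g ^ (q - 1), ?_, fun h => ?_⟩
  · rw [← pow_mul, ← pow_mul, ← pow_add, ← pow_add, show q - 1 + (q - 1) * q + (q - 1) * q * q =
      (q - 1) * (1 + q + q * q) by ring, ← hfac, ← hord, pow_orderOf_eq_one]
  · rw [← pow_mul] at h
    have h1 := Nat.le_of_dvd (by omega) (orderOf_dvd_of_pow_eq_one h)
    rw [hord, hfac] at h1
    have : 7 ≤ 1 + q + q * q := by nlinarith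
    have := Nat.le_of_mul_le_mul_left h1 (by omega)
    omega

/-- A unit of the small field different from one. -/
theorem exists_small_ne_one (hq : 3 ≤ p ^ n) : ∃ s : Kˣ, s ^ p ^ n = s ∧ s ≠ 1 := by
  obtain ⟨g, hg⟩ := IsCyclic.exists_generator (α := Kˣ)
  refine ⟨g * g ^ p ^ n * (g ^ p ^ n) ^ p ^ n, norm_fixed hn g, fun h => ?_⟩
  have hord : orderOf g = (p ^ n) ^ 3 - 1 := by
    rw [orderOf_eq_card_of_forall_mem_zpowers hg, card_units_eq hn]
  set q := p ^ n with hqdef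
  rw [← pow_mul] at h
  nth_rewrite 1 [← pow_one g] at h
  rw [← pow_add, ← pow_add] at h
  have h1 := Nat.le_of_dvd (by positivity) (orderOf_dvd_of_pow_eq_one h)
  rw [hord] at h1
  have : q * q * 3 ≤ q ^ 3 := by rw [pow_three]; nlinarith
  have : q * 3 ≤ q * q := by nlinarith
  omega

theorem coprime_exp (hq : 2 ≤ p ^ n) :
    Nat.Coprime (Nat.card Kˣ) (p ^ n + p ^ n * p ^ n - 1) := by
  rw [card_units_eq hn]
  set q := p ^ n with hqdef
  refine Nat.coprime_of_dvd' fun d hd h1 h2 => ?_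
  obtain ⟨e, he⟩ : ∃ e, e + 1 = q + q * q := ⟨q + q * q - 1, by omega⟩
  rw [show q + q * q - 1 = e by omega] at h2
  have hodd : ¬ 2 ∣ e := by
    have : 2 ∣ e + 1 := by
      rw [he, show q + q * q = q * (q + 1) by ring]
      exact (Nat.even_mul_succ_self q).two_dvd
    omega
  have h1' : (d : ℤ) ∣ (q : ℤ) ^ 3 - 1 := by
    have h := Int.natCast_dvd_natCast.2 h1
    rwa [Nat.cast_sub (Nat.one_le_pow _ _ (by omega)), Nat.cast_pow, Nat.cast_one] at h
  have h2' : (d : ℤ) ∣ (q : ℤ) + q * q - 1 := by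
    have h := Int.natCast_dvd_natCast.2 h2
    rwa [show (e : ℤ) = (q : ℤ) + q * q - 1 by
      have : ((e + 1 : ℕ) : ℤ) = ((q + q * q : ℕ) : ℤ) := by rw [he]
      push_cast at this; linarith] at h
  have h3 : (d : ℤ) ∣ 2 * ((q : ℤ) - 1) := by
    have := dvd_sub h1' (h2'.mul_left ((q : ℤ) - 1))
    rwa [show (q : ℤ) ^ 3 - 1 - ((q : ℤ) - 1) * (q + q * q - 1) = 2 * ((q : ℤ) - 1) by ring] at this
  have hd2 : d ≠ 2 := fun h => hodd (h ▸ h2)
  have h4 : (d : ℤ) ∣ (q : ℤ) - 1 := by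
    refine (Int.dvd_of_dvd_mul_right_of_gcd_one h3 ?_)
    show Nat.gcd d 2 = 1
    exact (Nat.coprime_primes hd Nat.prime_two).2 hd2
  have h5 : (d : ℤ) ∣ (1 : ℤ) := by
    have := dvd_sub h2' (h4.mul_left ((q : ℤ) + 2))
    rwa [show (q : ℤ) + q * q - 1 - ((q : ℤ) + 2) * (q - 1) = 1 by ring] at this
  exact absurd (Int.natCast_dvd_natCast.1 (by exact_mod_cast h5 : (d : ℤ) ∣ ((1 : ℕ) : ℤ)))
    (fun h => hd.ne_one (Nat.dvd_one.1 h))

/-- The weight of a short layer takes every value. -/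
theorem exists_pow_exp (hq : 2 ≤ p ^ n) (y : Kˣ) :
    ∃ x : Kˣ, x ^ p ^ n * (x ^ p ^ n) ^ p ^ n * x⁻¹ = y := by
  obtain ⟨x, hx⟩ := (powCoprime (coprime_exp hn hq)).surjective y
  rw [powCoprime_apply] at hx
  refine ⟨x, ?_⟩
  rw [mul_inv_eq_iff_eq_mul, ← hx, ← pow_succ, Nat.sub_add_cancel (by nlinarith), pow_add, pow_mul]

theorem frob_injective {a b : Kˣ} (h : a ^ p ^ n = b ^ p ^ n) : a = b := by
  rw [← unit_pow_cube K hn a, ← unit_pow_cube K hn b, h]

end field

variable (hq : 2 ≤ p ^ n)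

include hn hq in
theorem short_moves : ∀ i ∈ [0, 2, 3], ∃ x : Kˣ,
    (rootDataD4.torusChar (parD4 (p ^ n) x 1) (rootDataD4.α (rep chD4 i)) : Kˣ) ≠ 1 ∧
      ∀ j ∈ [1, 4, 5], (rootDataD4.torusChar (parD4 (p ^ n) x 1) (rootDataD4.α (rep chD4 j)) : Kˣ) = 1 := by
  obtain ⟨x, hx, hx2⟩ := exists_norm_one hn hq
  intro i hi
  refine ⟨x, ?_, fun j hj => ?_⟩
  · obtain ⟨h18, -, h19, h21, -, -⟩ := rootPar_values (p ^ n) x (1 : Kˣ)
    simp only [List.mem_cons, List.not_mem_nil, or_false] at hi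
    rcases hi with rfl | rfl | rfl
    · show rootDataD4.torusChar _ (rootDataD4.α 18) ≠ 1
      rwa [h18, inv_one, mul_one]
    · show rootDataD4.torusChar _ (rootDataD4.α 19) ≠ 1
      rw [h19, mul_one]
      intro h
      apply hx2
      rw [mul_inv_eq_one] at h
      calc x ^ 2 = x * (x ^ p ^ n * (x ^ p ^ n) ^ p ^ n) := by rw [← h, sq]
        _ = 1 := by rw [← mul_assoc, hx]
    · show rootDataD4.torusChar _ (rootDataD4.α 21) ≠ 1
      rw [h21]
      intro h
      apply hx2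
      rw [mul_inv_eq_one] at h
      have h1 : ((x ^ p ^ n) ^ p ^ n) ^ 2 = 1 := by
        rw [sq]; nth_rewrite 1 [← h]; exact hx
      have h2 := congrArg (fun u : Kˣ => u ^ p ^ n) h1
      simp only [one_pow, ← pow_mul] at h2
      rw [show p ^ n * p ^ n * 2 * p ^ n = p ^ n * p ^ n * p ^ n * 2 by ring, pow_mul,
        pow_mul, pow_mul, unit_pow_cube K hn] at h2
      exact h2
  · obtain ⟨-, h14, -, -, h22, h23⟩ := rootPar_values (p ^ n) x (1 : Kˣ)
    simp only [List.mem_cons, List.not_mem_nil, or_false] at hj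
    rcases hj with rfl | rfl | rfl
    · show rootDataD4.torusChar _ (rootDataD4.α 14) = 1
      rw [h14, one_pow, hx, inv_one, mul_one]
    · show rootDataD4.torusChar _ (rootDataD4.α 22) = 1
      rw [h22, hx, inv_one, mul_one]
    · show rootDataD4.torusChar _ (rootDataD4.α 23) = 1
      exact h23

/-- The layers of ³D₄. -/
noncomputable def dataD4 (h3 : 3 ≤ p ^ n) :
    ChainData (frobD4 K p n) (twistedD4 K (p ^ n)) d4aSym.root chD4 where
  check := chD4_check
  hρ _ := rfl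
  le_fixed := le_fixedD4 K hn
  P := layerP K p n
  mem_P i hi g hg := by
    by_cases hl : i ∈ [1, 4, 5]
    · obtain ⟨hr, -⟩ := long_tables i hl
      obtain ⟨h0, -, hroot, hsign⟩ := longRoots _ hr
      have h := (frobD4 K p n).coord_fixed (root := d4aSym.root) (fun _ => rfl) (r := ⟨rep chD4 i, h0⟩)
        (((chain_spec (C := coreD4 K) chD4_check).2 i hi).1)
        (lev_closed (C := coreD4 K) chD4_check i) hroot hg
      have h' : (d4aSym.sign (rep chD4 i) : K) *
          (coreD4 K).coord (listSet (lev chD4 i)) (rep chD4 i) g ^ p ^ n =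
          (coreD4 K).coord (listSet (lev chD4 i)) (rep chD4 i) g := h
      rw [hsign, Int.cast_one, one_mul] at h'
      exact (mem_layerP_long hl).2 h'
    · exact mem_layerP_short hl _
  gen i hi a ha := by
    by_cases hl : i ∈ [1, 4, 5]
    · obtain ⟨hr, hm⟩ := long_tables i hl
      refine ⟨(coreD4 K).xGL (rep chD4 i) a,
        (coreD4 K).xGL_mem_Ucl (S := listSet (lev chD4 i)) hm a,
        long_mem hn hq hr ((mem_layerP_long hl).1 ha), ?_⟩
      obtain ⟨-, h2, h3', -, -⟩ := Frob.of_levelCheck ((chain_spec (C := coreD4 K) chD4_check).2 i hi).1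
      exact (coreD4 K).coord_xGL_self (level_at (C := coreD4 K) chD4_check hi) h2 h3' a
    · have hs : i ∈ [0, 2, 3] := by
        rcases layer_cases i hi with rfl | rfl | rfl | rfl | rfl | rfl <;> simp at hl ⊢
      obtain ⟨hr, h1, h2, h2', h3', h3''⟩ := short_tables i hs
      exact ⟨tri K (p ^ n) (rep chD4 i) a, tri_mem_Ucl _ a h1 h2 h3', tri_mem hn hq hr a,
        coord_tri hi rfl h2 h2' h3' h3'' a⟩
  params := parsD4 K p n
  torus_mem := by
    rintro _ ⟨x, s, hs, rfl⟩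
    exact torus_memD4 hn hs
  moves i hi := by
    have key : ∀ {x s : Kˣ}, s ^ p ^ n = s →
        (rootDataD4.torusChar (parD4 (p ^ n) x s) (rootDataD4.α (rep chD4 i)) : Kˣ) ≠ 1 →
        ∃ c ∈ parsD4 K p n, (((coreD4 K).R.torusChar c ((coreD4 K).R.α (rep chD4 i)) : Kˣ) : K) ≠ 1 :=
      fun {x s} hs h => ⟨_, ⟨x, s, hs, rfl⟩, fun e => h (Units.ext e)⟩
    by_cases hs : i ∈ [0, 2, 3]
    · obtain ⟨x, hx, -⟩ := short_moves hn hq i hs
      exact key (one_pow _) hx
    obtain ⟨s, hs1, hs2⟩ := exists_small_ne_one hn h3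
    obtain ⟨y, hy⟩ := exists_norm hn hq hs1
    rcases layer_cases i hi with rfl | rfl | rfl | rfl | rfl | rfl
    · simp at hs
    · refine key (one_pow _) (x := y) ?_
      show rootDataD4.torusChar _ (rootDataD4.α 14) ≠ 1
      rw [(rootPar_values (p ^ n) y (1 : Kˣ)).2.1, hy, one_pow, one_mul]
      simpa using hs2
    · simp at hs
    · simp at hs
    · refine key (one_pow _) (x := y) ?_
      show rootDataD4.torusChar _ (rootDataD4.α 22) ≠ 1
      rw [(rootPar_values (p ^ n) y (1 : Kˣ)).2.2.2.2.1, hy, inv_one, mul_one]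
      exact hs2
    · refine key hs1 (x := 1) ?_
      show rootDataD4.torusChar _ (rootDataD4.α 23) ≠ 1
      rw [(rootPar_values (p ^ n) (1 : Kˣ) s).2.2.2.2.2]
      exact hs2

end CfsgLib.TwistMult
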