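import Cfsg.Agent.Lib.TwistMult.Lifted
import Cfsg.Agent.Lib.TwistMult.OrbitHom
import Cfsg.Agent.Lib.TwistMult.D4Char
import Cfsg.Agent.Lib.TwistedStr.Structure
import Cfsg.Agent.Lib.RegTorus.TrialityTorus

/-!
# The rank-one data of ³D₄ and the triviality of its multiplier
-/

set_option autoImplicit false
set_option linter.unusedSectionVars false
set_option linter.style.haveILetI false

namespace CfsgLib.TwistMult

open Cfsg.Lie CfsgLib.ChevStr CfsgLib.Twisted
open scoped MatrixGroups

universe u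

/-- The first node of an orbit. -/
def leadD4 : Fin 2 → Fin chevD4.rank
  | 0 => nodeD4 0
  | 1 => nodeD4 1

/-- The other nodes of an orbit with their field automorphisms. -/
def restD4 (n : ℕ) : Fin 2 → List (Fin chevD4.rank × ℕ)
  | 0 => [(nodeD4 2, n), (nodeD4 3, n + n)]
  | 1 => []

theorem d4_lead_neg : ∀ i : Fin 2, ∀ j ∈ nodesD4 i, chevD4.IsNegRoot
    (reflDataD4.wordPerm (d4TwistWord i) ⟨chevD4.simple j.val, rootDataD4.simple_lt j⟩) :=
  d4_word_neg

theorem d4_lead_word : ∀ i : Fin 2, d4TwistWord i = ((leadD4 i, 0) :: restD4 0 i).map Prod.fst := by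
  decide +kernel

variable {K : Type u} [Field K] [Fintype K] {p n : ℕ} [ExpChar K p]
  (hn : Fintype.card K = (p ^ n) * (p ^ n) * (p ^ n)) (hq : 2 ≤ p ^ n)

/-- The fields of the orbits. -/
def fieldD4 (K : Type u) [Field K] (p n : ℕ) [ExpChar K p] : Fin 2 → Subfield K
  | 0 => ⊤
  | 1 => RingHom.eqLocusField (iterateFrobenius K p n) (RingHom.id K)

omit [Fintype K] in
theorem mem_fieldD4_one {t : K} : t ∈ fieldD4 K p n 1 ↔ t ^ p ^ n = t := by
  show iterateFrobenius K p n t = RingHom.id K t ↔ _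
  rw [iterateFrobenius_def, RingHom.id_apply]

include hn hq

theorem specD4 : OrbitSpec (coreD4 K) p (gensD4 K hn hq) (fieldD4 K p n) leadD4 (restD4 n) := by
  have g := gensD4 K hn hq
  obtain ⟨s0, s1, s2, s3, m0, m1, m2, m3⟩ := d4_simples
  have hchar : ∀ c, (coreD4 K).R.torus c ∈ twistedD4 K (p ^ n) → ∀ j : Fin chevD4.rank,
      (coreD4 K).R.torusChar c ((coreD4 K).R.α (chevD4.simple (piD4 j).val)) =
        (coreD4 K).R.torusChar c ((coreD4 K).R.α (chevD4.simple j.val)) ^ p ^ n := by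
    intro c hc j
    have h := g.char_fixed hc ⟨chevD4.simple j.val, rootDataD4.simple_lt j⟩
    rw [show (((frobD4 K p n).ρ ⟨chevD4.simple j.val, rootDataD4.simple_lt j⟩ : Fin chevD4.nroots) : ℕ) =
      chevD4.simple (piD4 j).val from piD4_root j] at h
    exact h
  obtain ⟨e0, e1, e2, -⟩ := piD4_vals
  refine ⟨fun i => ?_, fun i => ?_, fun i => ?_, fun i => ?_, fun i t ht => ?_, fun i => ?_,
    fun i c hc => ?_, fun i c hc => ?_, fun x hx hxG => ?_⟩
  · obtain ⟨h0, h1, h2⟩ := d4_commPairs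
    fin_cases i <;> simp [PairOK, leadD4, restD4, nodeD4, h0, h1, h2]
  · fin_cases i <;> simp [leadD4, restD4, nodeD4, orbD4, nodesD4]
  · intro je hje
    fin_cases i
    · simp [restD4] at hje
      rcases hje with rfl | rfl <;> simp [leadD4, nodeD4, Fin.ext_iff]
    · simp [restD4] at hje
  · intro j hj
    rw [show ((leadD4 i, 0) :: restD4 n i).map Prod.fst = d4TwistWord i by
      rw [d4_lead_word]; fin_cases i <;> rfl]
    exact d4_lead_neg i j hj
  · fin_cases i
    · constructor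
      · show (coreD4 K).wordGL _ ∈ chevD4.genSubgroup K (d4Words K (p ^ n))
        have h := (coreD4 K).wordGL_mem_gen (W := d4Words K (p ^ n))
          (Or.inr ⟨t, (d4p1, d4p3, d4p4), by simp, rfl⟩)
        simpa [oword, leadD4, restD4, nodeD4, s0, s2, s3, pow_add, sq, ← pow_mul] using h
      · show (coreD4 K).wordGL _ ∈ chevD4.genSubgroup K (d4Words K (p ^ n))
        have h := (coreD4 K).wordGL_mem_gen (W := d4Words K (p ^ n))
          (Or.inr ⟨t, (d4m1, d4m3, d4m4), by simp, rfl⟩)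
        simpa [owordNeg, leadD4, restD4, nodeD4, s0, s2, s3, m0, m2, m3, pow_add, sq, ← pow_mul] using h
    · have ht' := mem_fieldD4_one.1 ht
      constructor
      · show (coreD4 K).wordGL _ ∈ chevD4.genSubgroup K (d4Words K (p ^ n))
        have h := (coreD4 K).wordGL_mem_gen (W := d4Words K (p ^ n))
          (Or.inl ⟨t, ht', d4p2, by simp, rfl⟩)
        simpa [oword, leadD4, restD4, nodeD4, s1] using h
      · show (coreD4 K).wordGL _ ∈ chevD4.genSubgroup K (d4Words K (p ^ n))
        have h := (coreD4 K).wordGL_mem_gen (W := d4Words K (p ^ n))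
          (Or.inl ⟨t, ht', d4m2, by simp, rfl⟩)
        simpa [owordNeg, leadD4, restD4, nodeD4, s1, m1] using h
  · show Nat.card ↥((frobD4 K p n).fixU (inRoots (coreD4 K).R (nodesD4 i))) = _
    rw [inD4]
    fin_cases i
    · refine (tripleD4 K hn).2.trans ?_
      rw [← Nat.card_eq_fintype_card (α := K)]
      exact (Nat.card_congr (Equiv.subtypeUnivEquiv fun _ => Subfield.mem_top _)).symm
    · refine (singleD4 K hn hq).2.trans ?_
      refine (card_pow_eq_self (F := K) hq ?_).symm.trans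
        (Nat.card_congr (Equiv.subtypeEquivRight fun _ => mem_fieldD4_one.symm))
      rw [hn, show p ^ n * p ^ n * p ^ n = (p ^ n) ^ 3 by ring]
      simpa using Nat.sub_dvd_pow_sub_pow (p ^ n) 1 3
  · fin_cases i
    · exact Subfield.mem_top _
    · have h := hchar c hc (nodeD4 1)
      rw [e1] at h
      refine mem_fieldD4_one.2 ?_
      rw [← Units.val_pow_eq_pow_val]
      exact congrArg Units.val h.symm
  · fin_cases i
    · intro je hje
      simp [restD4] at hje
      rcases hje with rfl | rfl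
      · have h := hchar c hc (nodeD4 0)
        rw [e0] at h
        exact h
      · have h := hchar c hc (nodeD4 0)
        have h' := hchar c hc (nodeD4 2)
        rw [e0] at h
        rw [e2, h, ← pow_mul, ← pow_add] at h'
        exact h'
    · intro je hje
      simp [restD4] at hje
  · obtain ⟨c, hc, rfl⟩ : x ∈ (fixTorus piD4 (fun _ => p ^ n)).map (coreD4 K).R.torus :=
      diag_infD4 K hn hq ▸ Subgroup.mem_inf.2 ⟨hx, hxG⟩
    obtain ⟨h2, h3, h1⟩ := fixD4_eq K (mem_fixTorus.1 hc)
    have hc' : c = Pi.mulSingle (nodeD4 0) (c (nodeD4 0)) *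
        (Pi.mulSingle (nodeD4 2) (c (nodeD4 0) ^ p ^ n) *
          Pi.mulSingle (nodeD4 3) (c (nodeD4 0) ^ p ^ (n + n))) *
        Pi.mulSingle (nodeD4 1) (c (nodeD4 1)) := by
      funext j
      rcases nodeD4_cases j with rfl | rfl | rfl | rfl <;>
        simp [h2, h3, pow_add, pow_mul, Pi.mulSingle_apply] <;> simp [nodeD4, Fin.ext_iff]
    rw [hc', map_mul, map_mul, map_mul]
    refine mul_mem (Subgroup.subset_closure (Set.mem_iUnion.2 ⟨0,
      Units.mk0 ⟨(c (nodeD4 0) : K), Subfield.mem_top _⟩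
        (fun e => (c (nodeD4 0)).ne_zero (congrArg Subtype.val e)), ?_⟩))
      (Subgroup.subset_closure (Set.mem_iUnion.2 ⟨1,
      Units.mk0 ⟨(c (nodeD4 1) : K), mem_fieldD4_one.2 (by
          rw [← Units.val_pow_eq_pow_val, h1])⟩
        (fun e => (c (nodeD4 1)).ne_zero (congrArg Subtype.val e)), ?_⟩))
    · rw [show (c (nodeD4 0)) = Units.map (fieldD4 K p n 0).subtype.toMonoidHom
        (Units.mk0 ⟨(c (nodeD4 0) : K), Subfield.mem_top _⟩
          (fun e => (c (nodeD4 0)).ne_zero (congrArg Subtype.val e))) from Units.ext rfl]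
      simp [leadD4, restD4, RootData.torusSingle]
    · simp [leadD4, restD4, RootData.torusSingle]
      exact congrArg _ (congrArg _ (Units.ext rfl))

theorem diaHomD4_ker :
    ((specD4 hn hq).data (coreD4 K) (RegTorus.etaNegD4 K) p).diaHom.ker = ⊥ := by
  classical
  set R := (specD4 hn hq).data (coreD4 K) (RegTorus.etaNegD4 K) p
  set G1 := twistedD4 K (p ^ n)
  set H := (chevD4.diagonalSubgroup K).subgroupOf G1
  have hr : R.diaHom.range = H := by
    refine le_antisymm ?_ (R.tor_gen.trans ((Subgroup.closure_le _).2 fun y hy => ?_))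
    · rintro _ ⟨v, rfl⟩
      show MonoidHom.noncommPiCoprod (fun i => (R.hom i).comp dia) R.pairwise_dia v ∈ H
      rw [MonoidHom.noncommPiCoprod_apply]
      exact Subgroup.noncommProd_mem _ _ fun i _ => R.dia_tor i (v i)
    · obtain ⟨i, u, rfl⟩ := Set.mem_iUnion.1 hy
      refine ⟨Pi.mulSingle i u, ?_⟩
      show MonoidHom.noncommPiCoprod (fun i => (R.hom i).comp dia) R.pairwise_dia _ = _
      rw [MonoidHom.noncommPiCoprod_mulSingle]
      rfl
  have hcard : Nat.card ↥R.diaHom.range = Nat.card (∀ i, (↥(R.E i))ˣ) := by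
    have e : H = (chevD4.diagonalSubgroup K ⊓ G1).subgroupOf G1 :=
      (Subgroup.inf_subgroupOf_right _ _).symm
    rw [hr, e, Nat.card_congr (Subgroup.subgroupOfEquivOfLe
      (inf_le_right : chevD4.diagonalSubgroup K ⊓ G1 ≤ G1)).toEquiv, card_H1D4 K hn hq, Nat.card_pi,
      Fin.prod_univ_two, Nat.card_units, Nat.card_units]
    have h1 : Nat.card ↥(fieldD4 K p n 0) = (p ^ n) ^ 3 := by
      rw [show ((p ^ n) ^ 3) = Nat.card K by rw [Nat.card_eq_fintype_card, hn]; ring]
      exact Nat.card_congr (Equiv.subtypeUnivEquiv fun _ => Subfield.mem_top _)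
    have h2 : Nat.card ↥(fieldD4 K p n 1) = p ^ n := by
      refine (Nat.card_congr (Equiv.subtypeEquivRight fun _ => mem_fieldD4_one)).trans
        (card_pow_eq_self (F := K) hq ?_)
      rw [hn, show p ^ n * p ^ n * p ^ n = (p ^ n) ^ 3 by ring]
      simpa using Nat.sub_dvd_pow_sub_pow (p ^ n) 1 3
    show _ = (Nat.card ↥(fieldD4 K p n 0) - 1) * (Nat.card ↥(fieldD4 K p n 1) - 1)
    rw [h1, h2, mul_comm]
  have h := R.diaHom.ker.card_mul_index
  rw [Subgroup.index_ker, hcard] at h
  exact Subgroup.eq_bot_of_card_eq _ (Nat.eq_of_mul_eq_mul_right Nat.card_pos (h.trans (one_mul _).symm))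

theorem hasTrivialMultiplierD4 :
    Cfsg.HasCyclicSchurMultiplier ↥(twistedD4 K (p ^ n)) 1 := by
  have hn0 : n ≠ 0 := fun h => by rw [h, pow_zero] at hq; omega
  have hpp : p.Prime := by
    rcases (inferInstance : ExpChar K p) with _ | hp
    · simp at hq
    · assumption
  have : Fact p.Prime := ⟨hpp⟩
  have : CharP K p := charP_of_card_eq_prime_pow (f := n + n + n) (by rw [hn]; ring)
  have hp := noMultiplierAt_char hn hq
  refine CfsgLib.Schur.hasCyclicSchurMultiplier_one fun r hr => ?_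
  by_cases hrp : r = p
  · exact hrp ▸ hp
  intro Γ _ _ σ hσ z hz _
  have hco : ¬ p ∣ Nat.card ↥σ.ker := fun hd => by
    obtain ⟨x, hx⟩ := exists_prime_orderOf_dvd_card' p hd
    have hxp : x ^ p = 1 := orderOf_dvd_iff_pow_eq_one.1 hx.dvd
    have hx1 : (x : Γ) = 1 := hp Γ σ hσ x x.2 (by
      rw [← SubmonoidClass.coe_pow, hxp]; rfl)
    rw [show x = 1 from Subtype.ext hx1, orderOf_one] at hx
    exact hpp.one_lt.ne hx
  obtain ⟨L⟩ := exists_liftData ((specD4 hn hq).data (coreD4 K) (RegTorus.etaNegD4 K) p)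
    hσ.1 hσ.2.1 hco
  obtain ⟨f, hf⟩ := L.exists_onto_ker hσ.2.2
  obtain ⟨⟨v, hv⟩, hfv⟩ := hf ⟨z, hz⟩
  rw [diaHomD4_ker hn hq, Subgroup.mem_bot] at hv
  have h1 : (⟨z, hz⟩ : ↥σ.ker) = 1 := by
    rw [← hfv, ← map_one f]
    exact congrArg f (Subtype.ext hv)
  exact congrArg Subtype.val h1

end CfsgLib.TwistMult
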