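import Cfsg.Agent.Lib.Schur.Criteria
import Cfsg.Agent.Lib.SmallReeMult.Forms
import Mathlib.GroupTheory.QuotientGroup.Basic
import Mathlib.Data.ZMod.Basic
import Mathlib.Algebra.BigOperators.GroupWithZero.Action
import Mathlib.Algebra.Group.Subgroup.Pointwise

/-!
# A central extension criterion for an extension of an extraspecial group `2 ^ (1 + 8)` by `2 ^ 3`

An involution `v` and an elementary abelian group `U` of order eight permuted transitively by an
element of order seven fixing `v`, with the commutators of two different conjugates of `v` under `U`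
equal to a central element `τ` conjugate to `v`: in every central extension the derived subgroup of
the preimage of `⟨v ^ U⟩ U` meets the kernel trivially.
-/

set_option autoImplicit false
set_option linter.style.haveILetI false

namespace CfsgLib.TwistMult

open Subgroup
open scoped commutatorElement Pointwise

universe u v

/-- The data. -/
structure SpecialData (G : Type v) [Group G] where
  v : G
  τ : G
  t : G
  n : G
  u₀ : G
  U : Subgroup G
  v_sq : v * v = 1
  U_sq : ∀ u ∈ U, u * u = 1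
  U_card : Nat.card U = 8
  t_pow : t ^ 7 = 1
  t_v : t * v * t⁻¹ = v
  t_τ : t * τ * t⁻¹ = τ
  t_U : ∀ u ∈ U, t * u * t⁻¹ ∈ U
  trans : ∀ w ∈ U, w ≠ 1 → ∃ k : ℕ, t ^ k * u₀ * (t ^ k)⁻¹ = w
  u₀_mem : u₀ ∈ U
  u₀_ne : u₀ ≠ 1
  τ_ne : τ ≠ 1
  comm : ⁅v, u₀ * v * u₀⁻¹⁆ = τ
  τ_U : ∀ u ∈ U, Commute u τ
  τ_v : Commute v τ
  n_τ : n * τ * n⁻¹ = v

namespace SpecialData

variable {G : Type v} [Group G] (D : SpecialData G)

/-- The subgroup generated by the conjugates and `U`. -/
def S : Subgroup G := closure ((fun u => u * D.v * u⁻¹) '' (D.U : Set G)) ⊔ D.U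

theorem τ_sq : D.τ * D.τ = 1 := by
  have h : D.τ = D.n⁻¹ * D.v * D.n := by rw [← D.n_τ]; group
  rw [h, show D.n⁻¹ * D.v * D.n * (D.n⁻¹ * D.v * D.n) = D.n⁻¹ * (D.v * D.v) * D.n by group,
    D.v_sq, mul_one, inv_mul_cancel]

variable {Γ : Type u} [Group Γ] {σ : Γ →* G}

theorem ker_comm (hc : σ.ker ≤ center Γ) {z : Γ} (hz : σ z = 1) (g : Γ) : Commute z g :=
  CfsgLib.Schur.ker_commute hc hz g

/-- A lift of an involution fixed by `t` is fixed by every lift of `t`. -/
theorem fix_lift (hc : σ.ker ≤ center Γ) {T x : Γ} (hT : σ T = D.t) (hx : σ x * σ x = 1)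
    (hfix : D.t * σ x * D.t⁻¹ = σ x) : T * x * T⁻¹ = x := by
  set z := T * x * T⁻¹ * x⁻¹ with hz
  have hzk : σ z = 1 := by rw [hz, map_mul, map_mul, map_mul, map_inv, map_inv, hT, hfix, mul_inv_cancel]
  have hzc := fun g => ker_comm hc hzk g
  have hconj : T * x * T⁻¹ = z * x := by rw [hz]; group
  have hpow : ∀ k : ℕ, T ^ k * x * (T ^ k)⁻¹ = z ^ k * x := by
    intro k
    induction k with
    | zero => simp
    | succ k ih =>
      calc T ^ (k + 1) * x * (T ^ (k + 1))⁻¹ = T * (T ^ k * x * (T ^ k)⁻¹) * T⁻¹ := by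
            rw [pow_succ']; group
        _ = T * z ^ k * (x * T⁻¹) := by rw [ih]; group
        _ = z ^ k * (T * x * T⁻¹) := by rw [← ((hzc T).pow_left k).eq]; group
        _ = z ^ (k + 1) * x := by rw [hconj, ← mul_assoc, ← pow_succ]
  have h7 : z ^ 7 = 1 := by
    have hT7 : σ (T ^ 7) = 1 := by rw [map_pow, hT, D.t_pow]
    have := hpow 7
    rw [(ker_comm hc hT7 x).eq, mul_inv_cancel_right] at this
    exact mul_eq_right.1 this.symm
  have hsq : z * z = 1 := by
    have hx2 := ker_comm hc (show σ (x * x) = 1 by rw [map_mul, hx]) T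
    have h1 : T * x * T⁻¹ * (T * x * T⁻¹) = x * x := by
      rw [show T * x * T⁻¹ * (T * x * T⁻¹) = T * (x * x) * T⁻¹ by group, ← hx2.eq, mul_inv_cancel_right]
    rw [hconj, show z * x * (z * x) = z * (x * z) * x by group, ← (hzc x).eq,
      show z * (z * x) * x = z * z * (x * x) by group] at h1
    exact mul_eq_right.1 h1
  have hz1 : z = 1 := by
    have h6 : z ^ 6 = 1 := by
      rw [show (6 : ℕ) = 2 * 3 by rfl, pow_mul, pow_two, hsq, one_pow]
    rwa [show (7 : ℕ) = 6 + 1 by rfl, pow_succ, h6, one_mul] at h7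
  rw [hconj, hz1, one_mul]

variable (hsur : Function.Surjective σ) (hc : σ.ker ≤ center Γ)
include hsur hc

/-- The derived subgroup of the preimage of `S` meets the kernel trivially. -/
theorem derived_inf_ker {Q : Subgroup Γ} (hQ : Q.map σ ≤ D.S) {z : Γ} (hz : z ∈ σ.ker)
    (hzQ : z ∈ ⁅Q, Q⁆) : z = 1 := by
  classical
  obtain ⟨r, hr⟩ := hsur.hasRightInverse
  have hzc := fun {z : Γ} (hz : σ z = 1) (g : Γ) => ker_comm hc hz g
  have conjc : ∀ {a b : Γ} (x : Γ), σ a = σ b → a * x * a⁻¹ = b * x * b⁻¹ := by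
    intro a b x h
    have hk : σ (b⁻¹ * a) = 1 := by rw [map_mul, map_inv, h, inv_mul_cancel]
    calc a * x * a⁻¹ = b * (b⁻¹ * a * x) * a⁻¹ := by group
      _ = b * (x * (b⁻¹ * a)) * a⁻¹ := by rw [(hzc hk x).eq]
      _ = b * x * b⁻¹ := by group
  set T := r D.t
  have hT : σ T = D.t := hr _
  -- the lift `c` of `τ`
  set c := ⁅r D.v, r (D.u₀ * D.v * D.u₀⁻¹)⁆ with hcdef
  have hσc : σ c = D.τ := by rw [hcdef, map_commutatorElement, hr, hr, D.comm]
  have hcfix : T * c * T⁻¹ = c := D.fix_lift hc hT (by rw [hσc, D.τ_sq]) (by rw [hσc, D.t_τ])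
  have hlift : ∀ e : Γ, σ e = D.v → ∀ w ∈ D.U, w ≠ 1 → ⁅e, r w * e * (r w)⁻¹⁆ = c := by
    intro e he w hw hw1
    have hefix : T * e * T⁻¹ = e := D.fix_lift hc hT (by rw [he, D.v_sq]) (by rw [he, D.t_v])
    obtain ⟨k, hk⟩ := D.trans w hw hw1
    have hfixk : ∀ {x : Γ}, T * x * T⁻¹ = x → T ^ k * x * (T ^ k)⁻¹ = x := fun {x} hx =>
      (Commute.pow_left (show Commute T x from mul_inv_eq_iff_eq_mul.1 hx) k).mul_inv_cancel
    have h0 : ⁅e, r D.u₀ * e * (r D.u₀)⁻¹⁆ = c :=
      CfsgLib.Schur.commutator_congr hc (by rw [he, hr]) (by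
        rw [map_mul, map_mul, map_inv, he, hr, hr])
    conv_rhs => rw [← hfixk hcfix, ← h0]
    rw [conjc (a := r w) (b := T ^ k * r D.u₀ * (T ^ k)⁻¹) e (by
      rw [hr, map_mul, map_mul, map_inv, map_pow, hT, hr, hk])]
    have hek : T ^ k * e * (T ^ k)⁻¹ = e := hfixk hefix
    conv_lhs => arg 1; rw [← hek]
    conv_lhs => arg 2; arg 1; arg 2; rw [← hek]
    simp only [commutatorElement_def]; group
  -- `c` commutes with the lifts of `U`
  have hcU : ∀ w ∈ D.U, r w * c * (r w)⁻¹ = c := by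
    have hker : ∀ w ∈ D.U, σ (r w * c * (r w)⁻¹ * c⁻¹) = 1 := fun w hw => by
      rw [map_mul, map_mul, map_mul, map_inv, map_inv, hσc, hr, (D.τ_U w hw).eq,
        mul_inv_cancel_right, mul_inv_cancel]
    have hmul : ∀ a ∈ D.U, ∀ b ∈ D.U, r (a * b) * c * (r (a * b))⁻¹ * c⁻¹ =
        r a * c * (r a)⁻¹ * c⁻¹ * (r b * c * (r b)⁻¹ * c⁻¹) := by
      intro a ha b hb
      rw [conjc (a := r (a * b)) (b := r a * r b) c (by rw [hr, map_mul, hr, hr])]
      set f := r b * c * (r b)⁻¹ * c⁻¹ with hf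
      have e1 : r a * r b * c * (r a * r b)⁻¹ = r a * f * (c * (r a)⁻¹) := by rw [hf]; group
      rw [e1, ← (hzc (hker b hb) (r a)).eq, show f * r a * (c * (r a)⁻¹) * c⁻¹ =
        f * (r a * c * (r a)⁻¹ * c⁻¹) by group]
      exact (hzc (hker b hb) _).eq
    have hconst : ∀ w ∈ D.U, w ≠ 1 → r w * c * (r w)⁻¹ * c⁻¹ = r D.u₀ * c * (r D.u₀)⁻¹ * c⁻¹ := by
      intro w hw hw1
      obtain ⟨k, hk⟩ := D.trans w hw hw1
      rw [conjc (a := r w) (b := T ^ k * r D.u₀ * (T ^ k)⁻¹) c (by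
        rw [hr, map_mul, map_mul, map_inv, map_pow, hT, hr, hk])]
      have hck : Commute (T ^ k) c :=
        (show Commute T c from mul_inv_eq_iff_eq_mul.1 hcfix).pow_left k
      set f := r D.u₀ * c * (r D.u₀)⁻¹ * c⁻¹ with hf
      calc T ^ k * r D.u₀ * (T ^ k)⁻¹ * c * (T ^ k * r D.u₀ * (T ^ k)⁻¹)⁻¹ * c⁻¹
          = T ^ k * r D.u₀ * ((T ^ k)⁻¹ * c) * T ^ k * (r D.u₀)⁻¹ * (T ^ k)⁻¹ * c⁻¹ := by group
        _ = T ^ k * (r D.u₀ * c * (r D.u₀)⁻¹) * ((T ^ k)⁻¹ * c⁻¹) := by
            rw [hck.inv_left.eq]; group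
        _ = T ^ k * f * ((c * (T ^ k)⁻¹) * c⁻¹) := by rw [hf]; group
        _ = f := by
            rw [← hck.inv_left.eq, ← (hzc (hker D.u₀ D.u₀_mem) (T ^ k)).eq]
            simp only [hf, mul_assoc, mul_inv_cancel, mul_one, mul_inv_cancel_left]
    intro w hw
    by_cases hw1 : w = 1
    · exact mul_inv_eq_iff_eq_mul.2 ((hzc (show σ (r w) = 1 by rw [hr, hw1]) c).eq)
    · have hne : ∃ b ∈ D.U, b ≠ 1 ∧ b ≠ D.u₀ := by
        by_contra h
        push Not at h
        have hsub : (D.U : Set G) ⊆ {1, D.u₀} := fun b hb => by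
          by_cases h1 : b = 1
          exacts [Or.inl h1, Or.inr (h b hb h1)]
        have := Set.ncard_le_ncard hsub
        rw [← Nat.card_coe_set_eq, SetLike.coe_sort_coe, D.U_card] at this
        have := this.trans (Set.ncard_insert_le _ _)
        rw [Set.ncard_singleton] at this
        omega
      obtain ⟨b, hb, hb1, hbu⟩ := hne
      have hbu' : D.u₀ * b ≠ 1 := fun h =>
        hbu (mul_left_cancel (h.trans (D.U_sq D.u₀ D.u₀_mem).symm))
      have h := hmul D.u₀ D.u₀_mem b hb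
      rw [hconst _ (mul_mem D.u₀_mem hb) hbu', hconst b hb hb1] at h
      rw [← mul_inv_eq_one, hconst w hw hw1]
      exact mul_eq_left.1 h.symm
  have hc2 : c * c = 1 := by
    have hu0 : σ (r D.u₀ * r D.u₀) = 1 := by rw [map_mul, hr, D.U_sq D.u₀ D.u₀_mem]
    have h := hlift (r D.v) (hr _) D.u₀ D.u₀_mem D.u₀_ne
    have h1 := hcU D.u₀ D.u₀_mem
    set a := r D.u₀
    set e := r D.v
    have h2 : a * ⁅e, a * e * a⁻¹⁆ * a⁻¹ = ⁅a * e * a⁻¹, e⁆ := by
      have : a * (a * e * a⁻¹) * a⁻¹ = e := by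
        rw [show a * (a * e * a⁻¹) * a⁻¹ = a * a * e * (a * a)⁻¹ by group, (hzc hu0 e).eq,
          mul_inv_cancel_right]
      conv_rhs => arg 2; rw [← this]
      simp only [commutatorElement_def]; group
    rw [h, h1, ← commutatorElement_inv, h] at h2
    conv_lhs => arg 1; rw [h2]
    rw [inv_mul_cancel]
  -- the lift `e` of `v` of order two
  set e := r D.n * c * (r D.n)⁻¹ with hedef
  have he : σ e = D.v := by rw [hedef, map_mul, map_mul, map_inv, hr, hσc, D.n_τ]
  have he2 : e * e = 1 := by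
    rw [hedef, show r D.n * c * (r D.n)⁻¹ * (r D.n * c * (r D.n)⁻¹) =
      r D.n * (c * c) * (r D.n)⁻¹ by group, hc2, mul_one, mul_inv_cancel]
  have hefix : T * e * T⁻¹ = e := D.fix_lift hc hT (by rw [he, D.v_sq]) (by rw [he, D.t_v])
  let E : ↥D.U → Γ := fun u => r u * e * (r u)⁻¹
  have hEconj : ∀ a : ↥D.U, ∀ u : ↥D.U, r a * E u * (r a)⁻¹ = E (a * u) := by
    intro a u
    show r a * (r u * e * (r u)⁻¹) * (r a)⁻¹ = r ((a : G) * u) * e * (r ((a : G) * u))⁻¹
    rw [conjc (a := r ((a : G) * u)) (b := r a * r u) e (by rw [hr, map_mul, hr, hr])]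
    group
  have hE2 : ∀ u, E u * E u = 1 := fun u => by
    show r u * e * (r u)⁻¹ * (r u * e * (r u)⁻¹) = 1
    rw [show r (u : G) * e * (r u)⁻¹ * (r u * e * (r u)⁻¹) = r u * (e * e) * (r u)⁻¹ by group, he2,
      mul_one, mul_inv_cancel]
  have hce : Commute e c := by
    have h := hlift e he D.u₀ D.u₀_mem D.u₀_ne
    set w := r D.u₀ * e * (r D.u₀)⁻¹
    have hw2 : w * w = 1 := hE2 ⟨D.u₀, D.u₀_mem⟩
    have he' : e⁻¹ = e := inv_eq_of_mul_eq_one_right he2
    have hw' : w⁻¹ = w := inv_eq_of_mul_eq_one_right hw2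
    have h3 : e * c * e⁻¹ = c⁻¹ := by
      rw [← h, commutatorElement_inv, commutatorElement_def, commutatorElement_def, he', hw']
      calc e * (e * w * e * w) * e = e * e * w * e * w * e := by group
        _ = _ := by rw [he2]; group
    rw [inv_eq_of_mul_eq_one_right hc2] at h3
    exact mul_inv_eq_iff_eq_mul.1 h3
  have hcE : ∀ u, Commute (E u) c := fun u => by
    have := hce.map (MulAut.conj (r (u : G))).toMonoidHom
    rwa [MulEquiv.coe_toMonoidHom, MulAut.conj_apply, MulAut.conj_apply, hcU u u.2] at this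
  have hEcomm : ∀ u w : ↥D.U, ⁅E u, E w⁆ = if u = w then 1 else c := by
    intro u w
    split_ifs with h
    · rw [h, commutatorElement_self]
    have hne : ((u⁻¹ * w : ↥D.U) : G) ≠ 1 := fun h1 => h (inv_mul_eq_one.1 (Subtype.ext h1))
    have h1 := hlift e he _ (u⁻¹ * w : ↥D.U).2 hne
    have h2 := congrArg (MulAut.conj (r (u : G))).toMonoidHom h1
    rw [map_commutatorElement] at h2
    simp only [MulEquiv.coe_toMonoidHom, MulAut.conj_apply] at h2
    rw [hcU u u.2] at h2
    have h3 := hEconj u (u⁻¹ * w)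
    rw [mul_inv_cancel_left] at h3
    rw [← h2, ← h3]
  set W : Subgroup Γ := closure (insert c (Set.range E)) with hW
  have hcW : c ∈ W := subset_closure (Set.mem_insert _ _)
  have hEW : ∀ u, E u ∈ W := fun u => subset_closure (Set.mem_insert_of_mem _ ⟨u, rfl⟩)
  have hccent : ∀ g ∈ W, Commute g c := by
    refine fun g hg => closure_induction (p := fun g _ => Commute g c) ?_ (Commute.one_left c)
      (fun _ _ _ _ h h' => h.mul_left h') (fun _ _ h => h.inv_left) hg
    rintro g (rfl | ⟨u, rfl⟩)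
    exacts [Commute.refl _, hcE u]
  -- the quotient by the central subgroup of `c`
  let N : Subgroup ↥W := zpowers ⟨c, hcW⟩
  haveI : N.Normal := ⟨fun x hx g => by
    obtain ⟨k, rfl⟩ := mem_zpowers_iff.1 hx
    have : Commute g ((⟨c, hcW⟩ : ↥W) ^ k) :=
      Commute.zpow_right (Subtype.ext (hccent g g.2).eq) k
    rw [this.eq, mul_inv_cancel_right]; exact zpow_mem (mem_zpowers _) k⟩
  let q := QuotientGroup.mk' N
  have hqc : q ⟨c, hcW⟩ = 1 := (QuotientGroup.eq_one_iff _).2 (mem_zpowers _)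
  have hqcomm : ∀ u w, Commute (q ⟨E u, hEW u⟩) (q ⟨E w, hEW w⟩) := fun u w => by
    rw [← commutatorElement_eq_one_iff_commute, ← map_commutatorElement]
    have : (⁅(⟨E u, hEW u⟩ : ↥W), ⟨E w, hEW w⟩⁆ : ↥W) ∈ N := by
      have hh := hEcomm u w
      split_ifs at hh
      · rw [show (⁅(⟨E u, hEW u⟩ : ↥W), ⟨E w, hEW w⟩⁆ : ↥W) = 1 from Subtype.ext hh]; exact one_mem _
      · rw [show (⁅(⟨E u, hEW u⟩ : ↥W), ⟨E w, hEW w⟩⁆ : ↥W) = ⟨c, hcW⟩ from Subtype.ext hh]
        exact mem_zpowers _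
    exact (QuotientGroup.eq_one_iff _).2 this
  haveI : Fintype ↥D.U := by
    haveI : Finite ↥D.U := Nat.finite_of_card_ne_zero (by rw [D.U_card]; norm_num)
    exact Fintype.ofFinite _
  let gen : ↥D.U → Multiplicative (ZMod 2) →* ↥W ⧸ N := fun u =>
    AddMonoidHom.toMultiplicativeLeft (ZMod.lift 2 ⟨zmultiplesHom _ (Additive.ofMul (q ⟨E u, hEW u⟩)), by
      show ((2 : ℕ) : ℤ) • Additive.ofMul (q ⟨E u, hEW u⟩) = 0
      rw [natCast_zsmul, two_nsmul, ← ofMul_mul, ← map_mul,
        show (⟨E u, hEW u⟩ : ↥W) * ⟨E u, hEW u⟩ = 1 from Subtype.ext (hE2 u), map_one, ofMul_one]⟩)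
  have hgen1 : ∀ u, gen u (Multiplicative.ofAdd 1) = q ⟨E u, hEW u⟩ := fun u => by
    show Additive.toMul (ZMod.lift 2 _ ((1 : ℤ) : ZMod 2)) = _
    rw [ZMod.lift_coe]
    simp
  have htwo : ∀ x : Multiplicative (ZMod 2), x = 1 ∨ x = Multiplicative.ofAdd 1 := by decide
  have hdec : ∀ x : Multiplicative (ZMod 2), x = x ^ 8 → x ^ 8 = 1 := by decide
  have hgcomm : Pairwise fun u w => ∀ x y, Commute (gen u x) (gen w y) := fun u w _ x y => by
    rcases htwo x with rfl | rfl
    · rw [(gen u).map_one]; exact Commute.one_left _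
    rcases htwo y with rfl | rfl
    · rw [(gen w).map_one]; exact Commute.one_right _
    rw [hgen1, hgen1]; exact hqcomm u w
  let Φ := MonoidHom.noncommPiCoprod gen hgcomm
  have hΦsingle : ∀ u, Φ (Pi.mulSingle u (Multiplicative.ofAdd 1)) = q ⟨E u, hEW u⟩ := fun u => by
    rw [MonoidHom.noncommPiCoprod_mulSingle, hgen1]
  have hΦsurj : Function.Surjective Φ := by
    rw [← MonoidHom.range_eq_top, eq_top_iff]
    intro x _
    obtain ⟨⟨g, hg⟩, rfl⟩ := QuotientGroup.mk'_surjective N x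
    refine closure_induction (p := fun g hg => q ⟨g, hg⟩ ∈ Φ.range) ?_ ?_ ?_ ?_ hg
    · rintro g (rfl | ⟨u, rfl⟩)
      · rw [hqc]; exact one_mem _
      · exact ⟨_, hΦsingle u⟩
    · rw [show (⟨1, one_mem _⟩ : ↥W) = 1 from rfl, map_one]; exact one_mem _
    · intro a b ha hb h1 h2
      rw [show (⟨a * b, mul_mem ha hb⟩ : ↥W) = ⟨a, ha⟩ * ⟨b, hb⟩ from rfl, map_mul]
      exact mul_mem h1 h2
    · intro a ha h1
      rw [show (⟨a⁻¹, inv_mem ha⟩ : ↥W) = ⟨a, ha⟩⁻¹ from rfl, map_inv]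
      exact inv_mem h1
  -- the commutator with a lift of a conjugate
  have hcommW : ∀ w, ∀ g ∈ W, ⁅g, E w⁆ ∈ zpowers c := by
    intro w g hg
    refine closure_induction (p := fun g _ => ⁅g, E w⁆ ∈ zpowers c) ?_ ?_ ?_ ?_ hg
    · rintro g (rfl | ⟨u, rfl⟩)
      · rw [commutatorElement_eq_one_iff_commute.2 (hcE w).symm]; exact one_mem _
      · rw [hEcomm]; split_ifs
        exacts [one_mem _, mem_zpowers _]
    · rw [commutatorElement_one_left]; exact one_mem _
    · intro a b ha hb h1 h2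
      obtain ⟨k, hk⟩ := mem_zpowers_iff.1 h2
      rw [show ⁅a * b, E w⁆ = a * ⁅b, E w⁆ * a⁻¹ * ⁅a, E w⁆ by
        simp only [commutatorElement_def]; group, ← hk, ((hccent a ha).zpow_right k).eq,
        mul_inv_cancel_right]
      exact mul_mem (zpow_mem (mem_zpowers _) k) h1
    · intro a ha h1
      obtain ⟨k, hk⟩ := mem_zpowers_iff.1 h1
      rw [show ⁅a⁻¹, E w⁆ = a⁻¹ * ⁅a, E w⁆⁻¹ * a by simp only [commutatorElement_def]; group, ← hk,
        ← zpow_neg, ((hccent a ha).inv_left.zpow_right (-k)).eq, inv_mul_cancel_right]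
      exact zpow_mem (mem_zpowers _) _
  let C0 : Subgroup Γ := zpowers c
  letI : CommGroup ↥C0 :=
    { (inferInstance : Group ↥C0) with
      mul_comm := fun a b => by
        obtain ⟨i, hi⟩ := mem_zpowers_iff.1 a.2
        obtain ⟨j, hj⟩ := mem_zpowers_iff.1 b.2
        exact Subtype.ext (by
          show (a : Γ) * b = b * a
          rw [← hi, ← hj, ← zpow_add, ← zpow_add, add_comm]) }
  let ψ : ↥D.U → ↥W →* ↥C0 := fun w =>
    { toFun := fun g => ⟨⁅(g : Γ), E w⁆, hcommW w g g.2⟩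
      map_one' := Subtype.ext (commutatorElement_one_left _)
      map_mul' := fun a b => Subtype.ext (by
        obtain ⟨k, hk⟩ := mem_zpowers_iff.1 (hcommW w b b.2)
        show ⁅(a : Γ) * b, E w⁆ = ⁅(a : Γ), E w⁆ * ⁅(b : Γ), E w⁆
        rw [show ⁅(a : Γ) * b, E w⁆ = a * ⁅(b : Γ), E w⁆ * (a : Γ)⁻¹ * ⁅(a : Γ), E w⁆ by
          simp only [commutatorElement_def]; group, ← hk, ((hccent a a.2).zpow_right k).eq,
          mul_inv_cancel_right]
        exact ((hccent _ (commutatorElement_def (a : Γ) (E w) ▸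
          mul_mem (mul_mem (mul_mem a.2 (hEW w)) (inv_mem a.2)) (inv_mem (hEW w)))).zpow_right k).symm.eq) }
  have hψN : ∀ w, N ≤ (ψ w).ker := fun w => zpowers_le.2
    (Subtype.ext (commutatorElement_eq_one_iff_commute.2 (hcE w).symm))
  let C1 : ↥C0 := ⟨c, mem_zpowers c⟩
  have hC2 : C1 * C1 = 1 := Subtype.ext hc2
  let m : Multiplicative (ZMod 2) →* ↥C0 := AddMonoidHom.toMultiplicativeLeft (ZMod.lift 2
    ⟨zmultiplesHom _ (Additive.ofMul C1), by
      show ((2 : ℕ) : ℤ) • Additive.ofMul C1 = 0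
      rw [natCast_zsmul, two_nsmul, ← ofMul_mul, hC2, ofMul_one]⟩)
  have hm1 : m (Multiplicative.ofAdd 1) = C1 := by
    show Additive.toMul (ZMod.lift 2 _ ((1 : ℤ) : ZMod 2)) = _
    rw [ZMod.lift_coe]
    simp
  have hcne : c ≠ 1 := fun h => D.τ_ne (by rw [← hσc, h, map_one])
  have hminj : Function.Injective m := by
    refine (injective_iff_map_eq_one m).2 fun x hx => ?_
    rcases htwo x with rfl | rfl
    · rfl
    · exact absurd (congrArg Subtype.val (hm1.symm.trans hx)) hcne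
  have hψΦ : ∀ w (k : ↥D.U → Multiplicative (ZMod 2)),
      QuotientGroup.lift N (ψ w) (hψN w) (Φ k) = m (∏ u ∈ Finset.univ.erase w, k u) := by
    intro w
    suffices h : (QuotientGroup.lift N (ψ w) (hψN w)).comp Φ =
        m.comp (∏ u ∈ Finset.univ.erase w, Pi.evalMonoidHom (fun _ => Multiplicative (ZMod 2)) u) by
      intro k
      have := DFunLike.congr_fun h k
      rw [MonoidHom.comp_apply, MonoidHom.comp_apply, MonoidHom.finsetProd_apply] at this
      exact this
    refine MonoidHom.pi_ext fun u x => ?_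
    rcases htwo x with rfl | rfl
    · rw [Pi.mulSingle_one, map_one, map_one]
    rw [MonoidHom.comp_apply, MonoidHom.comp_apply, hΦsingle, MonoidHom.finsetProd_apply]
    simp only [Pi.evalMonoidHom_apply]
    rw [Finset.prod_pi_mulSingle']
    show (⟨⁅E u, E w⁆, _⟩ : ↥C0) = _
    by_cases huw : u = w
    · rw [if_neg (by simp [huw]), map_one]
      exact Subtype.ext ((hEcomm u w).trans (if_pos huw))
    · rw [if_pos (by simp [huw]), hm1]
      exact Subtype.ext ((hEcomm u w).trans (if_neg huw))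
  -- `W` meets the kernel trivially
  have hWker : ∀ g ∈ W, σ g = 1 → g = 1 := by
    intro g hg h1
    obtain ⟨k, hk⟩ := hΦsurj (q ⟨g, hg⟩)
    have hzero : ∀ w, ∏ u ∈ Finset.univ.erase w, k u = 1 := fun w => by
      apply hminj
      rw [← hψΦ, hk, map_one]
      exact Subtype.ext (commutatorElement_eq_one_iff_commute.2 (hzc h1 _))
    have hall : ∀ w, k w = ∏ u, k u := fun w => by
      rw [← Finset.mul_prod_erase _ _ (Finset.mem_univ w), hzero, mul_one]
    have hk1 : k = 1 := funext fun w => by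
      have h8 : ∏ u, k u = (∏ u, k u) ^ (Finset.univ : Finset ↥D.U).card := by
        rw [← Finset.prod_const]
        exact Finset.prod_congr rfl fun u _ => hall u
      rw [Finset.card_univ, ← Nat.card_eq_fintype_card, D.U_card] at h8
      rw [hall w, h8]
      exact hdec _ h8
    rw [hk1, map_one] at hk
    obtain ⟨j, hj⟩ := mem_zpowers_iff.1 ((QuotientGroup.eq_one_iff _).1 hk.symm)
    have hj' : c ^ j = g := congrArg Subtype.val hj
    rcases Int.even_or_odd j with ⟨i, rfl⟩ | ⟨i, rfl⟩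
    · rw [← hj', zpow_add, ← (Commute.refl c).mul_zpow, hc2, one_zpow]
    · rw [zpow_add_one, two_mul, zpow_add, ← (Commute.refl c).mul_zpow, hc2, one_zpow, one_mul] at hj'
      rw [← hj', hσc] at h1
      exact absurd h1 D.τ_ne
  -- `W` is normalised by the lifts of `U`
  have hWnorm : ∀ a : ↥D.U, W.map (MulAut.conj (r (a : G))).toMonoidHom ≤ W := fun a => by
    rw [hW, MonoidHom.map_closure, closure_le]
    rintro _ ⟨g, rfl | ⟨u, rfl⟩, rfl⟩
    · rw [MulEquiv.coe_toMonoidHom, MulAut.conj_apply, hcU a a.2]; exact hcW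
    · rw [MulEquiv.coe_toMonoidHom, MulAut.conj_apply, hEconj]; exact hEW _
  set Y : Subgroup Γ := closure (r '' (D.U : Set G)) ⊔ σ.ker with hY
  have hYW : Y ≤ normalizer (W : Set Γ) := by
    refine sup_le ((closure_le _).2 ?_) fun z hz => ?_
    · rintro _ ⟨a, ha, rfl⟩
      rw [SetLike.mem_coe, mem_normalizer_iff]
      have hin : ∀ b ∈ D.U, ∀ g ∈ W, r b * g * (r b)⁻¹ ∈ W := fun b hb g hg =>
        hWnorm ⟨b, hb⟩ (mem_map_of_mem _ hg)
      refine fun g => ⟨hin a ha g, fun h => ?_⟩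
      have := hin a ha _ h
      have hk : σ (r a * r a) = 1 := by rw [map_mul, hr, D.U_sq a ha]
      rwa [show r a * (r a * g * (r a)⁻¹) * (r a)⁻¹ = r a * r a * g * (r a * r a)⁻¹ by group,
        (hzc hk g).eq, mul_inv_cancel_right] at this
    · rw [mem_normalizer_iff]
      intro g
      rw [(hzc hz g).eq, mul_inv_cancel_right]
  -- `Y` is abelian
  have hYab : ∀ a ∈ Y, ∀ b ∈ Y, Commute a b := by
    have hsqU : ∀ x : ↥D.U, x * x = 1 := fun x => Subtype.ext (D.U_sq x x.2)
    have hcommU : ∀ x y : ↥D.U, x * y = y * x := fun x y => by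
      have hi : ∀ a : ↥D.U, a⁻¹ = a := fun a => inv_eq_of_mul_eq_one_right (hsqU a)
      rw [← hi (x * y), mul_inv_rev, hi, hi]
    letI : CommGroup ↥D.U := { (inferInstance : Group ↥D.U) with mul_comm := hcommU }
    let A := σ.ker
    letI : CommGroup ↥A :=
      { (inferInstance : Group ↥A) with mul_comm := fun a b => Subtype.ext (hzc a.2 b).eq }
    let α : MulAut ↥D.U :=
      { toFun := fun x => ⟨D.t * x * D.t⁻¹, D.t_U x x.2⟩
        invFun := fun x => ⟨D.t⁻¹ * x * D.t, by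
          have h : ∀ k : ℕ, ∀ y ∈ D.U, D.t ^ k * y * (D.t ^ k)⁻¹ ∈ D.U := by
            intro k
            induction k with
            | zero => intro y hy; simpa using hy
            | succ k ih =>
              intro y hy
              rw [show D.t ^ (k + 1) * y * (D.t ^ (k + 1))⁻¹ =
                D.t * (D.t ^ k * y * (D.t ^ k)⁻¹) * D.t⁻¹ by rw [pow_succ']; group]
              exact D.t_U _ (ih y hy)
          have h6 := h 6 x x.2
          rwa [show D.t ^ 6 = D.t⁻¹ from
            eq_inv_of_mul_eq_one_left (by rw [← pow_succ]; exact D.t_pow), inv_inv] at h6⟩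
        left_inv := fun x => Subtype.ext (by group)
        right_inv := fun x => Subtype.ext (by group)
        map_mul' := fun x y => Subtype.ext (by
          show D.t * (x * y : G) * D.t⁻¹ = D.t * x * D.t⁻¹ * (D.t * y * D.t⁻¹)
          group) }
    have hαpow : ∀ (k : ℕ) (x : ↥D.U), (((α ^ k) x : ↥D.U) : G) = D.t ^ k * x * (D.t ^ k)⁻¹ := by
      intro k
      induction k with
      | zero => intro x; simp
      | succ k ih =>
        intro x
        rw [pow_succ, MulAut.mul_apply, ih]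
        show D.t ^ k * (D.t * x * D.t⁻¹) * (D.t ^ k)⁻¹ = _
        group
    have hα7 : α ^ 7 = 1 := MulEquiv.ext fun x => Subtype.ext (by
      rw [hαpow, D.t_pow]; simp)
    have hα1 : α ≠ 1 := fun h => by
      have hfix : ∀ w ∈ D.U, w ≠ 1 → w = D.u₀ := fun w hw hw1 => by
        obtain ⟨k, hk⟩ := D.trans w hw hw1
        have := hαpow k ⟨D.u₀, D.u₀_mem⟩
        rw [h, one_pow] at this
        rw [← hk]; exact this.symm
      have hsub : (D.U : Set G) ⊆ {1, D.u₀} := fun b hb => by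
        by_cases h1 : b = 1
        exacts [Or.inl h1, Or.inr (hfix b hb h1)]
      have := Set.ncard_le_ncard hsub
      rw [← Nat.card_coe_set_eq, SetLike.coe_sort_coe, D.U_card] at this
      have := this.trans (Set.ncard_insert_le _ _)
      rw [Set.ncard_singleton] at this
      omega
    have hker : ∀ x y : ↥D.U, ⁅r (x : G), r (y : G)⁆ ∈ σ.ker := fun x y => by
      rw [MonoidHom.mem_ker, map_commutatorElement, hr, hr, commutatorElement_eq_one_iff_commute]
      exact congrArg Subtype.val (hcommU x y)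
    let B : ↥D.U → ↥D.U → ↥A := fun x y => ⟨⁅r (x : G), r (y : G)⁆, hker x y⟩
    have hB := fun x y => CfsgLib.SmallReeMult.eq_one_of_seven D.U_card hsqU α hα7 hα1 B
      (fun a b z => Subtype.ext (by
        show ⁅r ((a : G) * b), r z⁆ = ⁅r (a : G), r z⁆ * ⁅r (b : G), r z⁆
        rw [CfsgLib.Schur.commutator_congr hc (x' := r a * r b) (by rw [hr, map_mul, hr, hr])
          (rfl : σ (r (z : G)) = σ (r z)), show ⁅r (a : G) * r b, r z⁆ =
          r a * ⁅r (b : G), r z⁆ * (r a)⁻¹ * ⁅r (a : G), r z⁆ by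
            simp only [commutatorElement_def]; group, ← (hzc (hker b z) _).eq, mul_inv_cancel_right]
        exact (hzc (hker b z) _).eq))
      (fun a b z => Subtype.ext (by
        show ⁅r z, r ((a : G) * b)⁆ = ⁅r z, r (a : G)⁆ * ⁅r z, r (b : G)⁆
        rw [CfsgLib.Schur.commutator_congr hc (y' := r a * r b) (rfl : σ (r (z : G)) = σ (r z))
          (by rw [hr, map_mul, hr, hr]), show ⁅r z, r (a : G) * r b⁆ =
          ⁅r z, r (a : G)⁆ * (r a * ⁅r z, r (b : G)⁆ * (r a)⁻¹) by
            simp only [commutatorElement_def]; group, ← (hzc (hker z b) _).eq, mul_inv_cancel_right]))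
      (fun a => Subtype.ext (commutatorElement_self _))
      (fun a b => Subtype.ext (by
        show ⁅r (D.t * a * D.t⁻¹), r (D.t * b * D.t⁻¹)⁆ = ⁅r (a : G), r (b : G)⁆
        rw [CfsgLib.Schur.commutator_congr hc (x' := T * r a * T⁻¹) (y' := T * r b * T⁻¹)
          (by rw [hr, map_mul, map_mul, map_inv, hT, hr]) (by rw [hr, map_mul, map_mul, map_inv, hT, hr]),
          show ⁅T * r a * T⁻¹, T * r b * T⁻¹⁆ = T * ⁅r (a : G), r (b : G)⁆ * T⁻¹ by
            simp only [commutatorElement_def]; group, ← (hzc (hker a b) T).eq, mul_inv_cancel_right])) x y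
    have hgens : ∀ a ∈ r '' (D.U : Set G) ∪ (σ.ker : Set Γ), ∀ b ∈ r '' (D.U : Set G) ∪ (σ.ker : Set Γ),
        Commute a b := by
      rintro a (⟨x, hx, rfl⟩ | ha) b (⟨y, hy, rfl⟩ | hb)
      · exact commutatorElement_eq_one_iff_commute.1
          (congrArg Subtype.val (hB ⟨x, hx⟩ ⟨y, hy⟩))
      · exact (hzc hb _).symm
      · exact hzc ha _
      · exact hzc ha _
    have hYeq : Y = closure (r '' (D.U : Set G) ∪ (σ.ker : Set Γ)) := by
      rw [hY, closure_union, closure_eq]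
    intro a ha b hb
    rw [hYeq] at ha hb
    refine closure_induction (p := fun a _ => Commute a b) (fun a ha' => ?_) (Commute.one_left _)
      (fun _ _ _ _ h h' => h.mul_left h') (fun _ _ h => h.inv_left) ha
    exact closure_induction (p := fun b _ => Commute a b) (fun b hb' => hgens a ha' b hb')
      (Commute.one_right _) (fun _ _ _ _ h h' => h.mul_right h') (fun _ _ h => h.inv_right) hb
  -- the preimage of `S` is `W Y`
  have hpre : ∀ g, σ g ∈ D.S → ∃ a ∈ W, ∃ b ∈ Y, g = a * b := by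
    intro g hg
    have h1 : D.S ≤ (W ⊔ Y).map σ := by
      refine sup_le ((closure_le _).2 ?_) fun u hu => ⟨r u, mem_sup_right (mem_sup_left
        (subset_closure ⟨u, hu, rfl⟩)), hr u⟩
      rintro _ ⟨u, hu, rfl⟩
      exact ⟨E ⟨u, hu⟩, mem_sup_left (hEW _), by
        show σ (r u * e * (r u)⁻¹) = _
        rw [map_mul, map_mul, map_inv, hr, he]⟩
    obtain ⟨g', hg', hgg⟩ := h1 hg
    have hgmem : g ∈ W ⊔ Y := by
      rw [show g = g' * (g'⁻¹ * g) by group]
      refine mul_mem hg' (mem_sup_right (mem_sup_right ?_))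
      rw [MonoidHom.mem_ker, map_mul, map_inv, hgg, inv_mul_cancel]
    rw [← SetLike.mem_coe, coe_mul_of_right_le_normalizer_left _ _ hYW] at hgmem
    obtain ⟨a, ha, b, hb, rfl⟩ := hgmem
    exact ⟨a, ha, b, hb, rfl⟩
  refine hWker z ?_ hz
  refine (Subgroup.commutator_le.2 fun x hx y hy => ?_) hzQ
  obtain ⟨a, ha, b, hb, rfl⟩ := hpre x (hQ (mem_map_of_mem σ hx))
  obtain ⟨a', ha', b', hb', rfl⟩ := hpre y (hQ (mem_map_of_mem σ hy))
  have hn : ∀ s ∈ Y, ∀ g ∈ W, s * g * s⁻¹ ∈ W := fun s hs g hg =>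
    (mem_normalizer_iff.1 (hYW hs) g).1 hg
  have hW2 : ∀ g ∈ W, ∀ s ∈ Y, ⁅g, s⁆ ∈ W := fun g hg s hs => by
    rw [commutatorElement_def, mul_assoc g, mul_assoc g]
    exact mul_mem hg (hn s hs _ (inv_mem hg))
  have e1 : ⁅a * b, a' * b'⁆ =
      a * ((b * a' * b⁻¹) * (⁅b, b'⁆ * (b' * a⁻¹ * b'⁻¹))) * a'⁻¹ := by
    simp only [commutatorElement_def]; group
  rw [e1, commutatorElement_eq_one_iff_commute.2 (hYab b hb b' hb'), one_mul]
  exact mul_mem (mul_mem ha (mul_mem (hn b hb a' ha') (hn b' hb' _ (inv_mem ha)))) (inv_mem ha')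

omit hsur hc

section card

theorem comm_all {w : G} (hw : w ∈ D.U) (hw1 : w ≠ 1) : ⁅D.v, w * D.v * w⁻¹⁆ = D.τ := by
  obtain ⟨k, rfl⟩ := D.trans w hw hw1
  have hv : Commute (D.t ^ k) D.v :=
    (show Commute D.t D.v from mul_inv_eq_iff_eq_mul.1 D.t_v).pow_left k
  have hτ : Commute (D.t ^ k) D.τ :=
    (show Commute D.t D.τ from mul_inv_eq_iff_eq_mul.1 D.t_τ).pow_left k
  have e : D.t ^ k * D.u₀ * (D.t ^ k)⁻¹ * D.v * (D.t ^ k * D.u₀ * (D.t ^ k)⁻¹)⁻¹ =
      D.t ^ k * (D.u₀ * D.v * D.u₀⁻¹) * (D.t ^ k)⁻¹ := by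
    rw [show D.t ^ k * D.u₀ * (D.t ^ k)⁻¹ * D.v = D.t ^ k * D.u₀ * ((D.t ^ k)⁻¹ * D.v) by group,
      hv.inv_left.eq]
    group
  have h := congrArg (MulAut.conj (D.t ^ k)).toMonoidHom D.comm
  rw [map_commutatorElement] at h
  simp only [MulEquiv.coe_toMonoidHom, MulAut.conj_apply] at h
  rw [hv.mul_inv_cancel, hτ.mul_inv_cancel] at h
  rw [e]; exact h

theorem card_conj_closure [Finite G] :
    512 ≤ Nat.card ↥(closure ((fun u => u * D.v * u⁻¹) '' (D.U : Set G))) := by
  classical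
  set Q := closure ((fun u => u * D.v * u⁻¹) '' (D.U : Set G))
  let V : ↥D.U → G := fun u => (u : G) * D.v * (u : G)⁻¹
  have hVQ : ∀ u, V u ∈ Q := fun u => subset_closure ⟨u, u.2, rfl⟩
  have hτQ : D.τ ∈ Q := by
    have h1 : D.v ∈ Q := subset_closure ⟨1, one_mem _, by simp⟩
    have h2 := hVQ ⟨D.u₀, D.u₀_mem⟩
    rw [← D.comm, commutatorElement_def]
    exact mul_mem (mul_mem (mul_mem h1 h2) (inv_mem h1)) (inv_mem h2)
  have hVτ : ∀ u, Commute (V u) D.τ := fun u =>
    ((D.τ_U u u.2).mul_left D.τ_v).mul_left (D.τ_U u u.2).inv_left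
  have hcent : ∀ g ∈ Q, Commute g D.τ := fun g hg => by
    refine closure_induction (p := fun g _ => Commute g D.τ) ?_ (Commute.one_left _)
      (fun _ _ _ _ h h' => h.mul_left h') (fun _ _ h => h.inv_left) hg
    rintro _ ⟨u, hu, rfl⟩
    exact hVτ ⟨u, hu⟩
  have hVcomm : ∀ u w : ↥D.U, ⁅V u, V w⁆ = if u = w then 1 else D.τ := by
    intro u w
    split_ifs with h
    · rw [h, commutatorElement_self]
    have hne : ((u⁻¹ * w : ↥D.U) : G) ≠ 1 := fun h1 => h (inv_mul_eq_one.1 (Subtype.ext h1))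
    have h1 := congrArg (MulAut.conj (u : G)).toMonoidHom (D.comm_all (u⁻¹ * w : ↥D.U).2 hne)
    rw [map_commutatorElement] at h1
    simp only [MulEquiv.coe_toMonoidHom, MulAut.conj_apply] at h1
    rw [(D.τ_U u u.2).mul_inv_cancel] at h1
    rw [← h1]
    congr 1
    show (w : G) * D.v * (w : G)⁻¹ = _
    rw [Subgroup.coe_mul, Subgroup.coe_inv]
    group
  haveI : Fintype ↥D.U := Fintype.ofFinite _
  let P : Finset ↥D.U → G := fun A => (A.toList.map V).prod
  have hPQ : ∀ A, P A ∈ Q := fun A => list_prod_mem fun x hx => by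
    obtain ⟨u, -, rfl⟩ := List.mem_map.1 hx; exact hVQ u
  have hlist : ∀ (w : ↥D.U) (L : List ↥D.U),
      ⁅(L.map V).prod, V w⁆ = D.τ ^ (L.filter fun u => decide (u ≠ w)).length := by
    intro w L
    induction L with
    | nil => simp
    | cons a L ih =>
      rw [List.map_cons, List.prod_cons, show ⁅V a * (L.map V).prod, V w⁆ =
        V a * ⁅(L.map V).prod, V w⁆ * (V a)⁻¹ * ⁅V a, V w⁆ by
          simp only [commutatorElement_def]; group, ih, ((hVτ a).pow_right _).mul_inv_cancel, hVcomm]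
      by_cases h : a = w
      · rw [if_pos h, mul_one, List.filter_cons_of_neg (by simp [h])]
      · rw [if_neg h, List.filter_cons_of_pos (by simp [h]), List.length_cons, pow_succ]
  have hP : ∀ (A : Finset ↥D.U) (j : ℕ) (w : ↥D.U),
      ⁅P A * D.τ ^ j, V w⁆ = D.τ ^ (A.erase w).card := by
    intro A j w
    rw [show ⁅P A * D.τ ^ j, V w⁆ = P A * ⁅D.τ ^ j, V w⁆ * (P A)⁻¹ * ⁅P A, V w⁆ by
      simp only [commutatorElement_def]; group,
      commutatorElement_eq_one_iff_commute.2 ((hVτ w).pow_right j).symm, mul_one, mul_inv_cancel,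
      one_mul, hlist]
    congr 1
    rw [← List.toFinset_card_of_nodup ((A.nodup_toList).filter _)]
    congr 1
    ext x
    simp [Finset.mem_erase, and_comm]
  have hτpow : ∀ a b : ℕ, D.τ ^ a = D.τ ^ b → a % 2 = b % 2 := by
    intro a b h
    have hh : ∀ a : ℕ, D.τ ^ a = D.τ ^ (a % 2) := fun a => by
      conv_lhs => rw [← Nat.div_add_mod a 2, pow_add, pow_mul, pow_two, D.τ_sq, one_pow, one_mul]
    rw [hh a, hh b] at h
    rcases Nat.mod_two_eq_zero_or_one a with ha | ha <;> rcases Nat.mod_two_eq_zero_or_one b with hb | hb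
    all_goals rw [ha, hb] at h ⊢
    · rw [pow_zero, pow_one] at h; exact absurd h.symm D.τ_ne
    · rw [pow_zero, pow_one] at h; exact absurd h D.τ_ne
  let f : Finset ↥D.U × Fin 2 → ↥Q := fun x =>
    ⟨P x.1 * D.τ ^ (x.2 : ℕ), mul_mem (hPQ x.1) (pow_mem hτQ _)⟩
  have hf : Function.Injective f := by
    rintro ⟨A, j⟩ ⟨B, k⟩ h
    have h' : P A * D.τ ^ (j : ℕ) = P B * D.τ ^ (k : ℕ) := congrArg Subtype.val h
    have hpar : ∀ w, (A.erase w).card % 2 = (B.erase w).card % 2 := fun w =>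
      hτpow _ _ (by rw [← hP A j w, ← hP B k w, h'])
    set a : ↥D.U → ℕ := fun w => if w ∈ A then 1 else 0 with ha
    set b : ↥D.U → ℕ := fun w => if w ∈ B then 1 else 0 with hb
    have e : ∀ (A : Finset ↥D.U) (w : ↥D.U),
        A.card = (A.erase w).card + if w ∈ A then 1 else 0 := fun A w => by
      split_ifs with hw
      · exact (Finset.card_erase_add_one hw).symm
      · rw [Finset.erase_eq_of_notMem hw, add_zero]
    have hAB : A = B := by
      by_cases hpc : A.card % 2 = B.card % 2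
      · ext w
        have h1 := e A w
        have h2 := e B w
        have h3 := hpar w
        split_ifs at h1 h2 with hwA hwB hwB
        · exact iff_of_true hwA hwB
        · omega
        · omega
        · exact iff_of_false hwA hwB
      · exfalso
        have hcompl : A = Bᶜ := by
          ext w
          have h1 := e A w
          have h2 := e B w
          have h3 := hpar w
          rw [Finset.mem_compl]
          split_ifs at h1 h2 with hwA hwB hwB
          · omega
          · exact iff_of_true hwA hwB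
          · exact iff_of_false hwA fun h => h hwB
          · omega
        have hcard : A.card = Fintype.card ↥D.U - B.card := by rw [hcompl, Finset.card_compl]
        have := Finset.card_le_univ B
        rw [← Nat.card_eq_fintype_card, D.U_card] at hcard
        rw [← Nat.card_eq_fintype_card, D.U_card] at this
        omega
    subst hAB
    rw [mul_right_inj] at h'
    have hjk : j = k := Fin.ext (by
      have hjk : (j : ℕ) % 2 = (k : ℕ) % 2 := hτpow _ _ h'
      have hj := j.isLt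
      have hk := k.isLt
      omega)
    rw [hjk]
  refine le_trans ?_ (Nat.card_le_card_of_injective f hf)
  rw [Nat.card_prod, Nat.card_fin, Nat.card_eq_fintype_card, Fintype.card_finset,
    ← Nat.card_eq_fintype_card, D.U_card]
  norm_num

end card

end SpecialData

end CfsgLib.TwistMult
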