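import Cfsg.Agent.Lib.TwistMult.D4Odd
import Cfsg.Agent.Lib.TwistMult.SpecialTwo
import Cfsg.Agent.Lib.Classif.RankThree.RootWords
import Cfsg.Agent.Lib.TwistAut.Base

/-!
# The unipotent group of ³D₄(2) as an extension of `2 ^ (1 + 8)` by `2 ^ 3`
-/

set_option autoImplicit false
set_option linter.style.haveILetI false

namespace CfsgLib.TwistMult

open Cfsg.Lie CfsgLib.ChevStr CfsgLib.Twisted CfsgLib.TwistAut
open CfsgLib.RankThree (W W_cons W_nil W_append W_collect collect)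
open scoped MatrixGroups commutatorElement

universe u

theorem twoTables :
    d4aSym.root 18 < chevD4.nroots ∧ d4aSym.root (d4aSym.root 18) < chevD4.nroots ∧
    d4aSym.root 18 ∈ lev chD4 0 ∧ d4aSym.root (d4aSym.root 18) ∈ lev chD4 0 ∧
    (List.range 4).map (fun j => chevD4.cartan j 18) = [2, -1, 0, 0] ∧
    (List.range 4).map (fun j => chevD4.cartan j (d4aSym.root 18)) = [0, -1, 2, 0] ∧
    (List.range 4).map (fun j => chevD4.cartan j (d4aSym.root (d4aSym.root 18))) = [0, -1, 0, 2] ∧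
    (e1D4 18 % 2 = 1 ∧ e2D4 18 % 2 = 1) ∧
    collect chevD4 400
      ([14] ++ [18, d4aSym.root 18, d4aSym.root (d4aSym.root 18), 14,
          d4aSym.root (d4aSym.root 18), d4aSym.root 18, 18] ++ [14] ++
        [18, d4aSym.root 18, d4aSym.root (d4aSym.root 18), 14,
          d4aSym.root (d4aSym.root 18), d4aSym.root 18, 18]) = [23] ∧
    (∀ r : Fin chevD4.nroots, (r : ℕ) = 23 →
      (reflDataD4.wordPerm (d4TwistWord 1) r : ℕ) = 22) ∧
    (∀ r : Fin chevD4.nroots, (r : ℕ) = 22 →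
      (reflDataD4.wordPerm (d4TwistWord 0) r : ℕ) = 14) ∧
    (∀ r ∈ [18, d4aSym.root 18, d4aSym.root (d4aSym.root 18), 14],
      r ≠ 23 ∧ (23 : ℕ) ≠ chevD4.neg r ∧ chevD4.commTerms r 23 = []) ∧
    (d4aSym.root 18 ≠ 18 ∧ d4aSym.root (d4aSym.root 18) ≠ 18) := by
  decide +kernel

theorem triComm :
    (∀ a ∈ [18, d4aSym.root 18, d4aSym.root (d4aSym.root 18)],
      ∀ b ∈ [18, d4aSym.root 18, d4aSym.root (d4aSym.root 18)],
        b = a ∨ (b ≠ chevD4.neg a ∧ chevD4.commTerms a b = [])) := by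
  decide +kernel

variable {K : Type*} [Field K]

theorem tri_add [CharP K 2] [ExpChar K 2] (t u : K) :
    tri K (2 ^ 1) 18 (t + u) = tri K (2 ^ 1) 18 t * tri K (2 ^ 1) 18 u := by
  obtain ⟨h1, h2, -⟩ := twoTables
  set C := coreD4 K
  set r1 := d4aSym.root 18
  set r2 := d4aSym.root r1
  have cm : ∀ a ∈ [18, r1, r2], ∀ b ∈ [18, r1, r2], ∀ x y : K,
      Commute (C.xGL a x) (C.xGL b y) := by
    intro a ha b hb x y
    have hlt : ∀ c ∈ [18, r1, r2], c < chevD4.nroots := by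
      simp only [List.mem_cons, List.not_mem_nil, or_false]
      rintro c (rfl | rfl | rfl)
      exacts [by decide, h1, h2]
    rcases triComm a ha b hb with rfl | ⟨hn, hc⟩
    · show C.xGL b x * C.xGL b y = C.xGL b y * C.xGL b x
      rw [← C.xGL_add, ← C.xGL_add, add_comm]
    · by_cases hab : b = a
      · subst hab
        show C.xGL b x * C.xGL b y = C.xGL b y * C.xGL b x
        rw [← C.xGL_add, ← C.xGL_add, add_comm]
      exact (C.xGL_commute (hlt a ha) (hlt b hb) hab hn (by simp [hc]) x y).symm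
  rw [tri, tri, tri, add_pow_expChar_pow, add_pow_expChar_pow, mul_add, mul_add, C.xGL_add,
    C.xGL_add, C.xGL_add]
  have a01 := fun x y : K => cm 18 (by simp) r1 (by simp) x y
  have a02 := fun x y : K => cm 18 (by simp) r2 (by simp) x y
  have a12 := fun x y : K => cm r1 (by simp) r2 (by simp) x y
  rw [(a12 _ _).mul_mul_mul_comm, ((a01 _ _).mul_right (a02 _ _)).mul_mul_mul_comm]

theorem tri_zero (q : ℕ) (hq : q ≠ 0) (r : ℕ) : tri K q r (0 : K) = 1 := by
  rw [tri, zero_pow hq, zero_pow hq, mul_zero, mul_zero, (coreD4 K).xGL_zero, (coreD4 K).xGL_zero,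
    (coreD4 K).xGL_zero, one_mul, one_mul]

variable [Fintype K] [CharP K 2] [ExpChar K 2]
  (hn : Fintype.card K = (2 ^ 1) * (2 ^ 1) * (2 ^ 1))

include hn

/-- The elements over the orbit of the first simple root. -/
noncomputable def triHom : Multiplicative K →* ↥(twistedD4 K (2 ^ 1)) where
  toFun t := ⟨tri K (2 ^ 1) 18 (Multiplicative.toAdd t), tri_mem hn (by norm_num) (by simp) _⟩
  map_one' := Subtype.ext (tri_zero _ (by norm_num) _)
  map_mul' a b := Subtype.ext (tri_add (Multiplicative.toAdd a) (Multiplicative.toAdd b))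

theorem coord_tri18 (t : K) :
    (coreD4 K).coord (listSet (lev chD4 0)) (rep chD4 0) (tri K (2 ^ 1) 18 t) = t := by
  obtain ⟨-, -, m1, m2, -, -, -, -, -, -, -, -, n1, n2⟩ := twoTables
  exact coord_tri (p := 2) (n := 1) (by decide) rfl m1 n1 m2 n2 t

/-- The elementary abelian group of order eight. -/
noncomputable def Utwo : Subgroup ↥(twistedD4 K (2 ^ 1)) := (triHom hn).range

theorem card_Utwo : Nat.card ↥(Utwo hn) = 8 := by
  rw [Utwo, ← Nat.card_congr (MonoidHom.ofInjective (f := triHom hn) fun a b e => ?_).toEquiv]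
  · rw [show Nat.card (Multiplicative K) = Nat.card K from rfl, Nat.card_eq_fintype_card, hn]
    rfl
  · have h := congrArg (fun g : ↥(twistedD4 K (2 ^ 1)) =>
      (coreD4 K).coord (listSet (lev chD4 0)) (rep chD4 0) (g : GL chevD4.Idx K)) e
    change (coreD4 K).coord _ _ (tri K (2 ^ 1) 18 _) = (coreD4 K).coord _ _ (tri K (2 ^ 1) 18 _) at h
    rw [coord_tri18 hn, coord_tri18 hn] at h
    exact h

theorem small_eq_one {u : K} (hu : u ^ 2 ^ 1 = u) (h0 : u ≠ 0) : u = 1 := by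
  rw [pow_one, sq] at hu
  exact mul_right_cancel₀ h0 (hu.trans (one_mul u).symm)

theorem long_one_move {i : Fin 2} {r r' : ℕ} (hr : r ∈ [14, 22, 23]) (hr' : r' ∈ [14, 22, 23])
    (hw : ∀ k : Fin chevD4.nroots, (k : ℕ) = r →
      (reflDataD4.wordPerm (d4TwistWord i) k : ℕ) = r') :
    ∃ m : ↥(twistedD4 K (2 ^ 1)),
      m * lng hn (by norm_num) r hr (t := (1 : K)) (one_pow _) * m⁻¹ =
        lng hn (by norm_num) r' hr' (t := (1 : K)) (one_pow _) := by
  have hq : 2 ≤ (2 : ℕ) ^ 1 := by norm_num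
  have g := gensD4 K hn hq
  obtain ⟨h0, -, -, -⟩ := longRoots r hr
  obtain ⟨h0', -, -, -⟩ := longRoots r' hr'
  have hwJ : g.wJ i = (coreD4 K).hR.wordPerm (d4TwistWord i) :=
    g.wJ_eq_word (d4TwistWord i) (d4_word_mem i) (d4_word_neg i)
  refine ⟨⟨g.s i, g.s_mem i⟩, ?_⟩
  obtain ⟨u, hu⟩ := (g.s_moves i).2 ⟨r, h0⟩ (1 : K)
  have hwr : ((g.wJ i) ⟨r, h0⟩ : ℕ) = r' := by rw [hwJ]; exact hw ⟨r, h0⟩ rfl
  rw [hwr] at hu
  have hu' : g.s i * (coreD4 K).xGL r 1 * (g.s i)⁻¹ = (coreD4 K).xGL r' u := hu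
  have hfix : u ^ 2 ^ 1 = u := by
    refine xGL_inj h0' ?_
    rw [← act_long hr', ← hu']
    exact ((frobD4 K 2 1).mem_fixedSub.1 (le_fixedD4 K hn
      ((⟨g.s i, g.s_mem i⟩ : ↥(twistedD4 K (2 ^ 1))) * lng hn hq r hr (one_pow _) *
        (⟨g.s i, g.s_mem i⟩ : ↥(twistedD4 K (2 ^ 1)))⁻¹).2)).2
  have hne : u ≠ 0 := by
    rintro rfl
    rw [(coreD4 K).xGL_zero, conj_eq_one_iff, (coreD4 K).xGL_eq_one_iff h0] at hu'
    exact one_ne_zero hu'
  rw [small_eq_one hn hfix hne] at hu'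
  exact Subtype.ext hu'

theorem le_special_S {D : SpecialData ↥(twistedD4 K (2 ^ 1))} (hv : (D.v : GL chevD4.Idx K) =
      (coreD4 K).xGL 14 1) (hU : D.U = Utwo hn) :
    (chevD4.posUnipotent K).subgroupOf (twistedD4 K (2 ^ 1)) ≤ D.S := by
  classical
  have hq : 2 ≤ (2 : ℕ) ^ 1 := by norm_num
  obtain ⟨-, -, hm1, hm2, -⟩ := twoTables
  set C := coreD4 K with hC
  set P := (chevD4.posUnipotent K).subgroupOf (twistedD4 K (2 ^ 1))
  set Q := Subgroup.closure ((fun u => u * D.v * u⁻¹) '' (D.U : Set ↥(twistedD4 K (2 ^ 1))))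
  have hP : P = (C.Ucl (listSet (lev chD4 0))).subgroupOf (twistedD4 K (2 ^ 1)) := by
    rw [listSet_zero (C := C) chD4_check, ← C.posUnipotent_eq]
  have hUP : Utwo hn ≤ P := by
    rintro _ ⟨s, rfl⟩
    rw [hP]
    exact tri_mem_Ucl _ _ (by decide +kernel) hm1 hm2
  have hQ1 : Q ≤ (C.Ucl (listSet (lev chD4 1))).subgroupOf (twistedD4 K (2 ^ 1)) := by
    refine (Subgroup.closure_le _).2 ?_
    rintro _ ⟨u, hu, rfl⟩
    rw [SetLike.mem_coe, hU] at hu
    have h1 := hUP hu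
    rw [hP] at h1
    show ((u * D.v * u⁻¹ : ↥(twistedD4 K (2 ^ 1))) : GL chevD4.Idx K) ∈ C.Ucl (listSet (lev chD4 1))
    rw [Subgroup.coe_mul, Subgroup.coe_mul, Subgroup.coe_inv, hv]
    have h14 : (14 : ℕ) ∈ lev chD4 1 := by decide +kernel
    have hm : C.xGL 14 (1 : K) ∈ C.Ucl (listSet (lev chD4 1)) := C.xGL_mem_Ucl h14 1
    exact conj_mem (C := C) chD4_check (Subgroup.mem_subgroupOf.1 h1) hm
  have hQP : Q ≤ P := hQ1.trans (by rw [hP]; exact Subgroup.comap_mono (Ucl_anti (C := C) chD4_check))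
  have hdis : ∀ g ∈ Q, g ∈ Utwo hn → g = 1 := by
    rintro _ hg ⟨s, rfl⟩
    obtain ⟨h2, h3⟩ : rep chD4 0 ∈ lev chD4 0 ∧ rep chD4 0 ∉ lev chD4 1 := by decide +kernel
    have h0 : C.coord (listSet (lev chD4 0)) (rep chD4 0) (tri K (2 ^ 1) 18 (Multiplicative.toAdd s)) = 0 :=
      C.coord_of_mem (level_at (C := C) chD4_check (by decide)) h2 h3
        (C.Ucl_mono (T := listSet (lev chD4 0) \ {rep chD4 0})
          (fun k hk => ⟨lev_succ (C := C) chD4_check 0 k hk, fun e => h3 (e ▸ hk)⟩) (hQ1 hg))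
    rw [coord_tri18 hn] at h0
    rw [show s = 1 from Multiplicative.toAdd.injective h0, map_one]
  have hcardP : Nat.card ↥P = 4096 := by
    rw [Nat.card_congr ((MulEquiv.subgroupCongr (Subgroup.inf_subgroupOf_right _ _).symm).trans
      (Subgroup.subgroupOfEquivOfLe (inf_le_right :
        chevD4.posUnipotent K ⊓ twistedD4 K (2 ^ 1) ≤ twistedD4 K (2 ^ 1)))).toEquiv]
    refine Nat.pow_left_injective (show 3 ≠ 0 by norm_num) ?_
    show _ ^ 3 = _ ^ 3
    rw [(gensD4 K hn hq).card_U1, ncard_isPosRoot (D := chevD4) (N := 12) (by decide +kernel),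
      Nat.card_eq_fintype_card, hn]
    norm_num
  have hle : D.S ≤ P := sup_le hQP (hU.le.trans hUP)
  refine (Subgroup.eq_of_le_of_card_ge hle ?_).ge
  rw [hcardP]
  let f : ↥Q × ↥(Utwo hn) → ↥D.S := fun z =>
    ⟨z.1 * z.2, mul_mem (Subgroup.mem_sup_left z.1.2) (Subgroup.mem_sup_right (hU.ge z.2.2))⟩
  have hf : Function.Injective f := fun a b e => by
    have e' : (a.1 : ↥(twistedD4 K (2 ^ 1))) * a.2 = b.1 * b.2 := congrArg Subtype.val e
    have h1 : (b.1 : ↥(twistedD4 K (2 ^ 1)))⁻¹ * a.1 = b.2 * (a.2 : ↥(twistedD4 K (2 ^ 1)))⁻¹ := by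
      rw [eq_mul_inv_iff_mul_eq, mul_assoc, e', inv_mul_cancel_left]
    have h2 := hdis _ (mul_mem (inv_mem b.1.2) a.1.2) (h1 ▸ mul_mem b.2.2 (inv_mem a.2.2))
    have h3 : (a.1 : ↥(twistedD4 K (2 ^ 1))) = b.1 := (inv_mul_eq_one.1 h2).symm
    rw [h3] at e'
    exact Prod.ext (Subtype.ext h3) (Subtype.ext (mul_left_cancel e'))
  refine le_trans ?_ (Nat.card_le_card_of_injective f hf)
  rw [Nat.card_prod, card_Utwo hn]
  calc 4096 = 512 * 8 := by norm_num
    _ ≤ _ := Nat.mul_le_mul_right 8 D.card_conj_closure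

theorem exists_special : ∃ D : SpecialData ↥(twistedD4 K (2 ^ 1)),
    (chevD4.posUnipotent K).subgroupOf (twistedD4 K (2 ^ 1)) ≤ D.S := by
  classical
  have hq : 2 ≤ (2 : ℕ) ^ 1 := by norm_num
  obtain ⟨hl1, hl2, hm1, hm2, c0, c1, c2, ⟨he1, he2⟩, hword, hw1, hw0, h23, hne1, hne2⟩ := twoTables
  set C := coreD4 K with hC
  set r1 := d4aSym.root 18 with hr1
  set r2 := d4aSym.root r1 with hr2
  obtain ⟨x, hx⟩ := IsCyclic.exists_generator (α := Kˣ)
  have h7 : ∀ y : Kˣ, y ^ 7 = 1 := fun y => by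
    have := pow_card_eq_one' (G := Kˣ) (x := y)
    rwa [card_units_eq hn] at this
  set c := parD4 (2 ^ 1) x 1
  let T : ↥(twistedD4 K (2 ^ 1)) := ⟨C.R.torus c, torus_memD4 hn (one_pow _)⟩
  let v : ↥(twistedD4 K (2 ^ 1)) := lng hn hq 14 (by simp) (t := (1 : K)) (one_pow _)
  let τ : ↥(twistedD4 K (2 ^ 1)) := lng hn hq 23 (by simp) (t := (1 : K)) (one_pow _)
  let u₀ : ↥(twistedD4 K (2 ^ 1)) := triHom hn (Multiplicative.ofAdd 1)
  -- the characters of the element of order seven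
  have chiT : ∀ r, r < chevD4.nroots → ∀ a b d e : ℤ,
      (List.range 4).map (fun j => chevD4.cartan j r) = [a, b, d, e] →
      rootDataD4.torusChar c (rootDataD4.α r) =
        x ^ a * (1 : Kˣ) ^ b * (x ^ 2 ^ 1) ^ d * ((x ^ 2 ^ 1) ^ 2 ^ 1) ^ e := by
    intro r hr a b d e h
    simp only [List.range_succ, List.range_zero, List.nil_append, List.cons_append, List.map_cons,
      List.map_nil, List.cons.injEq, and_true] at h
    obtain ⟨rfl, rfl, rfl, rfl⟩ := h
    rw [rootDataD4.torusChar_root _ hr, prod_nodeD4]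
    simp [c, parD4, nodeD4]
  have ch0 : rootDataD4.torusChar c (rootDataD4.α 18) = x ^ 2 := by
    rw [chiT 18 (by decide) _ _ _ _ c0]; simp [zpow_two, sq]
  have ch1 : rootDataD4.torusChar c (rootDataD4.α r1) = (x ^ 2) ^ 2 ^ 1 := by
    rw [chiT r1 hl1 _ _ _ _ c1]; simp [zpow_two, sq]
  have ch2 : rootDataD4.torusChar c (rootDataD4.α r2) = ((x ^ 2) ^ 2 ^ 1) ^ 2 ^ 1 := by
    rw [chiT r2 hl2 _ _ _ _ c2]; simp [zpow_two, sq, mul_pow]
  have conjlong : ∀ r, r ∈ [14, 23] →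
      rootDataD4.torusChar c (rootDataD4.α r) = 1 := by
    intro r hr
    obtain ⟨-, v14, -, -, -, v23⟩ := rootPar_values (2 ^ 1) x (1 : Kˣ)
    simp only [List.mem_cons, List.not_mem_nil, or_false] at hr
    rcases hr with rfl | rfl
    · rw [show c = parD4 (2 ^ 1) x 1 from rfl, v14, one_pow, one_mul, inv_eq_one]
      rw [← pow_mul, ← pow_succ', ← pow_add]
      exact h7 x
    · exact v23
  have actT : ∀ r, r < chevD4.nroots → ∀ s : K, C.R.torus c * C.xGL r s * (C.R.torus c)⁻¹ =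
      C.xGL r ((rootDataD4.torusChar c (rootDataD4.α r) : K) * s) := fun r hr s =>
    C.acts_torus c ⟨r, hr⟩ s
  have Tfix : ∀ r (hr : r ∈ [14, 22, 23]), r ∈ [14, 23] →
      T * lng hn hq r hr (t := (1 : K)) (one_pow _) * T⁻¹ = lng hn hq r hr (one_pow _) := by
    intro r hr hr'
    refine Subtype.ext ?_
    show C.R.torus c * C.xGL r 1 * (C.R.torus c)⁻¹ = C.xGL r 1
    rw [actT r (longRoots r hr).1, conjlong r hr', Units.val_one, mul_one]
  have conjtri : ∀ s : K, T * triHom hn (Multiplicative.ofAdd s) * T⁻¹ =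
      triHom hn (Multiplicative.ofAdd (((x ^ 2 : Kˣ) : K) * s)) := by
    intro s
    refine Subtype.ext ?_
    show C.R.torus c * tri K (2 ^ 1) 18 s * (C.R.torus c)⁻¹ = tri K (2 ^ 1) 18 (((x ^ 2 : Kˣ) : K) * s)
    have e : ∀ g a b : GL chevD4.Idx K, g * (a * b) * g⁻¹ = g * a * g⁻¹ * (g * b * g⁻¹) :=
      fun g a b => by group
    rw [tri, tri, e, e, actT 18 (by decide), actT r1 hl1, actT r2 hl2, ch0, ch1, ch2]
    simp only [Units.val_pow_eq_pow_val, mul_pow]
    ring_nf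
    rfl
  have ecast : ∀ z : ℤ, z % 2 = 1 → (z : K) = 1 := fun z hz => by
    rw [show z = 2 * (z / 2) + 1 by omega]
    push_cast
    rw [CharTwo.two_eq_zero, zero_mul, zero_add]
  have hu0 : (u₀ : GL chevD4.Idx K) = W C [18, r1, r2] := by
    show tri K (2 ^ 1) 18 1 = _
    rw [tri, ecast _ he1, ecast _ he2]
    simp [W_cons, W_nil, mul_assoc, hC, hr1, hr2]
  have hinv1 : ∀ r, (C.xGL r (1 : K))⁻¹ = C.xGL r 1 := fun r => by
    rw [C.xGL_inv, CharTwo.neg_eq]
  have hu0' : ((u₀⁻¹ : ↥(twistedD4 K (2 ^ 1))) : GL chevD4.Idx K) = W C [r2, r1, 18] := by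
    rw [Subgroup.coe_inv, hu0]
    simp [W_cons, W_nil, mul_inv_rev, hinv1, mul_assoc]
  have hvv : (v : GL chevD4.Idx K) = C.xGL 14 1 := rfl
  have comm0 : ⁅v, u₀ * v * u₀⁻¹⁆ = τ := by
    refine Subtype.ext ?_
    have hw' : ((u₀ * v * u₀⁻¹ : ↥(twistedD4 K (2 ^ 1))) : GL chevD4.Idx K) =
        W C [18, r1, r2, 14, r2, r1, 18] := by
      rw [Subgroup.coe_mul, Subgroup.coe_mul, hu0, hu0', hvv]
      simp [W_cons, W_nil, mul_assoc]
    have hw'' : (W C [18, r1, r2, 14, r2, r1, 18])⁻¹ = W C [18, r1, r2, 14, r2, r1, 18] := by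
      simp [W_cons, W_nil, mul_inv_rev, hinv1, mul_assoc]
    show ⁅(v : GL chevD4.Idx K), ((u₀ * v * u₀⁻¹ : ↥(twistedD4 K (2 ^ 1))) : GL chevD4.Idx K)⁆ =
      C.xGL 23 1
    rw [commutatorElement_def, hw', hw'', hvv, hinv1,
      show C.xGL 23 (1 : K) = W C [23] by simp [W_cons, W_nil], ← hword, W_collect]
    simp [W_cons, W_nil, W_append, mul_assoc]
  have hcomm23 : ∀ r ∈ [18, r1, r2, 14], ∀ s : K, Commute (C.xGL r s) (C.xGL 23 1) := by
    intro r hr s
    obtain ⟨a, b, d⟩ := h23 r hr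
    have hlt : r < chevD4.nroots := by
      simp only [List.mem_cons, List.not_mem_nil, or_false] at hr
      rcases hr with rfl | rfl | rfl | rfl
      exacts [by decide, hl1, hl2, by decide]
    exact (C.xGL_commute hlt (by decide) (Ne.symm a) b (by simp [d]) s 1).symm
  obtain ⟨m1', hm1'⟩ := long_one_move hn (i := 1) (r := 23) (r' := 22) (by simp) (by simp) hw1
  obtain ⟨m0', hm0'⟩ := long_one_move hn (i := 0) (r := 22) (r' := 14) (by simp) (by simp) hw0
  have hT7 : T ^ 7 = 1 := by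
    refine Subtype.ext ?_
    show C.R.torus c ^ 7 = 1
    rw [← map_pow, show c ^ 7 = 1 from funext fun j => h7 (c j), map_one]
  let D : SpecialData ↥(twistedD4 K (2 ^ 1)) :=
    { v := v, τ := τ, t := T, n := m0' * m1', u₀ := u₀, U := Utwo hn
      v_sq := Subtype.ext (by
        show C.xGL 14 1 * C.xGL 14 1 = 1
        rw [← C.xGL_add, CharTwo.add_self_eq_zero, C.xGL_zero])
      U_sq := by
        rintro _ ⟨s, rfl⟩
        rw [← map_mul]
        refine (congrArg _ ?_).trans (map_one _)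
        exact Multiplicative.toAdd.injective (CharTwo.add_self_eq_zero (Multiplicative.toAdd s))
      U_card := card_Utwo hn
      t_pow := hT7
      t_v := Tfix 14 (by simp) (by simp)
      t_τ := Tfix 23 (by simp) (by simp)
      t_U := by
        rintro _ ⟨s, rfl⟩
        exact ⟨_, (conjtri (Multiplicative.toAdd s)).symm⟩
      trans := by
        rintro _ ⟨s, rfl⟩ hs
        have hs0 : Multiplicative.toAdd s ≠ 0 := fun h => hs (by
          rw [show s = 1 from Multiplicative.toAdd.injective h, map_one])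
        obtain ⟨k, hk⟩ := mem_powers_iff_mem_zpowers.2 (hx (Units.mk0 _ hs0))
        refine ⟨4 * k, ?_⟩
        have hpow : ∀ l : ℕ, T ^ l * u₀ * (T ^ l)⁻¹ =
            triHom hn (Multiplicative.ofAdd ((((x ^ 2) ^ l : Kˣ) : K))) := by
          intro l
          induction l with
          | zero => simp [u₀]
          | succ l ih =>
            rw [pow_succ' T, show T * T ^ l * u₀ * (T * T ^ l)⁻¹ = T * (T ^ l * u₀ * (T ^ l)⁻¹) * T⁻¹ by
              group, ih, conjtri, pow_succ' (x ^ 2), Units.val_mul]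
        rw [hpow]
        have : (x ^ 2) ^ (4 * k) = Units.mk0 _ hs0 := by
          rw [← pow_mul, show 2 * (4 * k) = k + 7 * k by ring, pow_add, pow_mul x 7, h7, one_pow,
            mul_one]
          exact hk
        rw [this]
        rfl
      u₀_mem := ⟨_, rfl⟩
      u₀_ne := fun h => by
        have h' := congrArg (fun g : ↥(twistedD4 K (2 ^ 1)) =>
          C.coord (listSet (lev chD4 0)) (rep chD4 0) (g : GL chevD4.Idx K)) h
        change C.coord _ _ (tri K (2 ^ 1) 18 1) = C.coord _ _ 1 at h'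
        rw [← tri_zero (K := K) (2 ^ 1) (by norm_num) 18, coord_tri18 hn, coord_tri18 hn] at h'
        exact one_ne_zero h'
      τ_ne := fun h => one_ne_zero
        ((C.xGL_eq_one_iff (by decide)).1 (congrArg Subtype.val h) : (1 : K) = 0)
      comm := comm0
      τ_U := by
        rintro _ ⟨s, rfl⟩
        refine Subtype.ext ?_
        exact ((hcomm23 18 (by simp) _).mul_left
          ((hcomm23 r1 (by simp) _).mul_left (hcomm23 r2 (by simp) _))).eq
      τ_v := Subtype.ext (hcomm23 14 (by simp) 1).eq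
      n_τ := by
        show m0' * m1' * τ * (m0' * m1')⁻¹ = v
        rw [show m0' * m1' * τ * (m0' * m1')⁻¹ = m0' * (m1' * τ * m1'⁻¹) * m0'⁻¹ by group]
        exact (congrArg (fun g => m0' * g * m0'⁻¹) hm1').trans hm0' }
  exact ⟨D, le_special_S hn rfl rfl⟩

theorem derived_inf_kerD4_two {Γ : Type u} [Group Γ] {σ : Γ →* ↥(twistedD4 K (2 ^ 1))}
    (hsur : Function.Surjective σ) (hc : σ.ker ≤ Subgroup.center Γ) {Q : Subgroup Γ}
    (hQ : Q.map σ ≤ (chevD4.posUnipotent K).subgroupOf (twistedD4 K (2 ^ 1))) {z : Γ}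
    (hz : z ∈ σ.ker) (hzQ : z ∈ ⁅Q, Q⁆) : z = 1 := by
  obtain ⟨D, hD⟩ := exists_special hn
  exact D.derived_inf_ker hsur hc (hQ.trans hD) hz hzQ

end CfsgLib.TwistMult
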