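import Cfsg.Agent.Lib.TwistMult.E6Elements
import Cfsg.Agent.Lib.Twisted.WeylQuot
import Cfsg.Agent.Lib.ChevMult.CentralExt

/-!
# The derived subgroup of the preimage of the unipotent group of ²E₆(q), q ≥ 3
-/

set_option autoImplicit false
set_option linter.style.haveILetI false

namespace CfsgLib.TwistMult

open Cfsg.Lie CfsgLib.ChevStr CfsgLib.Twisted
open scoped MatrixGroups commutatorElement

universe u

variable {K : Type*} [Field K] [Fintype K] {p n : ℕ} [ExpChar K p]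
  (hn : Fintype.card K = (p ^ n) * (p ^ n)) (hq : 2 ≤ p ^ n)

omit [Fintype K] [ExpChar K p] in
theorem xGL_injE6 {r : ℕ} (hr : r < chevE6.nroots) {a b : K}
    (h : (coreE6 K).xGL r a = (coreE6 K).xGL r b) : a = b := by
  have e : (coreE6 K).xGL r (a + -b) = 1 := by
    rw [(coreE6 K).xGL_add, ← (coreE6 K).xGL_inv, h, mul_inv_cancel]
  exact add_neg_eq_zero.1 (((coreE6 K).xGL_eq_one_iff hr).1 e)

/-- An element over a fixed root. -/
noncomputable def fix6 (r : ℕ) (hr : r ∈ fixedE6) {t : K} (ht : t ^ p ^ n = t) :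
    ↥(twistedE6 K (p ^ n)) :=
  ⟨(coreE6 K).xGL r t, fixed_mem hn hq hr ht⟩

section good

variable {Γ : Type u} [Group Γ] (X : ChevMult.CExt Γ ↥(twistedE6 K (p ^ n)))

/-- The lifts of the elements over a fixed root commute. -/
def GoodRoot (r : ℕ) : Prop :=
  ∀ (hr : r ∈ fixedE6) (a b : K) (ha : a ^ p ^ n = a) (hb : b ^ p ^ n = b),
    X.cm (fix6 hn hq r hr ha) (fix6 hn hq r hr hb) = 1

theorem goodRoot_top : GoodRoot hn hq X 71 := by
  intro hr a b ha hb
  obtain ⟨h1, h2, h3, n1, n2, n3, n4⟩ := topTables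
  set g := fix6 hn hq 70 (by decide) (t := (1 : K)) (one_pow _)
  have hb' : (-b) ^ p ^ n = -b := by
    rw [← zero_sub, sub_pow_expChar_pow, zero_pow (by omega), hb]
  set g' := fix6 hn hq 46 (by decide) hb'
  have e46 := fun t u : K => ((coreE6 K).xGL_commute (r := 46) (s := 71) (by decide) (by decide)
    (by norm_num) n3 (by simp [h2]) t u)
  have e70 := fun t u : K => ((coreE6 K).xGL_commute (r := 70) (s := 71) (by decide) (by decide)
    (by norm_num) n4 (by simp [h3]) t u)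
  have hgg : ⁅g, g'⁆ = fix6 hn hq 71 hr hb := by
    refine Subtype.ext ?_
    show ⁅(coreE6 K).xGL 70 1, (coreE6 K).xGL 46 (-b)⁆ = (coreE6 K).xGL 71 b
    have e := (coreE6 K).xGL_comm (r := 46) (s := 70) (by decide) (by decide) n1 n2 (-b) (1 : K)
    rw [ChevalleyDatum.commWord, h1] at e
    simp only [List.map_cons, List.map_nil, ChevCore.wordGL_cons, ChevCore.wordGL_nil, mul_one,
      Int.cast_one, one_mul, pow_one, neg_neg] at e
    rw [commutatorElement_def, e, mul_assoc ((coreE6 K).xGL 46 (-b)) ((coreE6 K).xGL 70 1),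
      ← e70 1 b, ← mul_assoc, mul_assoc _ ((coreE6 K).xGL 70 1), mul_inv_cancel, mul_one,
      ← e46 (-b) b, mul_assoc, mul_inv_cancel, mul_one]
  rw [← hgg]
  refine X.cm_comm_right (Subtype.ext ?_) (Subtype.ext ?_)
  · exact e70 1 a
  · exact e46 (-b) a

theorem goodRoot_step {s : ℕ × Fin 4 × ℕ} (hs : s ∈ pathE6) (h : GoodRoot hn hq X s.2.2) :
    GoodRoot hn hq X s.1 := by
  obtain ⟨hr, hr', hw⟩ := pathE6_spec s hs
  intro _ a b ha hb
  obtain ⟨r, i, r'⟩ := s
  have g := gensE6 K hn hq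
  have h0 := (fixedRoots r hr).1
  have h0' := (fixedRoots r' hr').1
  have hwJ : g.wJ i = (coreE6 K).hR.wordPerm (e6TwistWord i) :=
    g.wJ_eq_word (e6TwistWord i) (e6_word_mem i) (e6_word_neg i)
  set m : ↥(twistedE6 K (p ^ n)) := ⟨g.s i, g.s_mem i⟩
  have key : ∀ {t : K} (ht : t ^ p ^ n = t), ∃ (u : K) (hu : u ^ p ^ n = u),
      m * fix6 hn hq r hr ht * m⁻¹ = fix6 hn hq r' hr' hu := by
    intro t ht
    obtain ⟨u, hu⟩ := (g.s_moves i).2 ⟨r, h0⟩ t
    have hwr : ((g.wJ i) ⟨r, h0⟩ : ℕ) = r' := by rw [hwJ]; exact hw ⟨r, h0⟩ rfl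
    rw [hwr] at hu
    have hu' : g.s i * (coreE6 K).xGL r t * (g.s i)⁻¹ = (coreE6 K).xGL r' u := hu
    have hfix : u ^ p ^ n = u := by
      refine xGL_injE6 h0' ?_
      rw [← act_fixed hr', ← hu']
      exact ((frobE6 K p n).mem_fixedSub.1 (le_fixedE6 K hn (m * fix6 hn hq r hr ht * m⁻¹).2)).2
    exact ⟨u, hfix, Subtype.ext hu'⟩
  obtain ⟨u, hu, eu⟩ := key ha
  obtain ⟨v, hv, ev⟩ := key hb
  have h1 := X.conj_cm (X.lift m) (fix6 hn hq r hr ha) (fix6 hn hq r hr hb)
  rw [X.p_lift, eu, ev, h hr' u v hu hv] at h1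
  exact conj_eq_one_iff.1 h1

theorem goodRoot_all : ∀ r ∈ fixedE6, GoodRoot hn hq X r := by
  have g71 := goodRoot_top hn hq X
  have st : ∀ r i r', (r, i, r') ∈ pathE6 → GoodRoot hn hq X r' → GoodRoot hn hq X r :=
    fun r i r' hs h => goodRoot_step hn hq X (s := (r, i, r')) hs h
  have g70 := st 70 3 71 (by decide) g71
  have g69 := st 69 2 70 (by decide) g70
  have g65 := st 65 1 69 (by decide) g69
  have g63 := st 63 2 65 (by decide) g65
  have g60 := st 60 3 63 (by decide) g63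
  have g53 := st 53 0 65 (by decide) g65
  have g51 := st 51 2 53 (by decide) g53
  have g44 := st 44 3 51 (by decide) g51
  have g47 := st 47 1 51 (by decide) g51
  have g39 := st 39 3 47 (by decide) g47
  have g46 := st 46 2 47 (by decide) g47
  intro r hr
  simp only [fixedE6, List.mem_cons, List.not_mem_nil, or_false] at hr
  rcases hr with rfl | rfl | rfl | rfl | rfl | rfl | rfl | rfl | rfl | rfl | rfl | rfl <;> assumption

end good

variable (h3 : 3 ≤ p ^ n)

include hn hq h3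

/-- Every pairing of two layers vanishes. -/
theorem pairs_vanishE6 {Γ : Type u} [Group Γ] {σ : Γ →* ↥(twistedE6 K (p ^ n))}
    (hsur : Function.Surjective σ) (hc : σ.ker ≤ Subgroup.center Γ) :
    ∀ i, i < (dataE6 hn hq h3).layers.len → ∀ j, j ≤ i →
      (dataE6 hn hq h3).layers.NoPairing.{u} j i ∨ (dataE6 hn hq h3).layers.GoodPair σ j i := by
  classical
  set X := dataE6 hn hq h3
  set D := X.layers
  have hlt : ∀ {i : ℕ}, i < 24 → rep chE6 i < chevE6.nroots := fun {i} hi => by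
    by_cases hl : i ∈ longE6
    · exact (fixedRoots _ (fixed_layers i hl).2.1).1
    · exact (pairedRoots _ (paired_layers i hi hl).1).1
  have mkT : ∀ (g : Kˣ) (w : List ℤ), ∃ t ∈ D.T, ∀ i, i < 24 →
      D.χ i t = ((g ^ (wtExp (rep chE6 i) w).1 * (g ^ p ^ n) ^ (wtExp (rep chE6 i) w).2 : Kˣ) : K) :=
    fun g w => ⟨⟨_, torus_memE6 hn g w⟩, ⟨_, ⟨g, w, rfl⟩, rfl⟩, fun i hi =>
      (X.wt_torus hi rfl).trans (congrArg Units.val (weight_parE6 hn g w (hlt hi)))⟩
  intro i hi j hji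
  replace hi : i < 24 := hi
  rcases Nat.lt_or_eq_of_le hji with hlt' | rfl
  · have hj : j < 24 := hlt'.trans hi
    left
    obtain ⟨g, hg⟩ := exists_regular hn h3
    obtain ⟨t, ht, htv⟩ := mkT g (pairW i j)
    rcases pair_weights i hi j hlt' with ⟨e0, e1⟩ | ⟨e0, e1⟩
    · exact D.noPairing_of_fix hi ⟨t, ht, by rw [htv j hj, e0]; simp,
        by rw [htv i hi]; exact fun h => hg _ e1 (Units.ext h)⟩
    · exact D.noPairing_of_fix' hj ⟨t, ht, by rw [htv i hi, e0]; simp,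
        by rw [htv j hj]; exact fun h => hg _ e1 (Units.ext h)⟩
  by_cases hl : j ∈ longE6
  · refine Or.inr fun a ha b hb => ?_
    have ha' := (mem_layerE6P_long hl).1 ha
    have hb' := (mem_layerE6P_long hl).1 hb
    let P : ChevMult.CExt Γ ↥(twistedE6 K (p ^ n)) := ⟨σ, hsur, hc⟩
    obtain ⟨-, hr, hm, -⟩ := fixed_layers j hl
    obtain ⟨h2, h2'⟩ := X.rep_mem (i := j) hi
    have hin : ∀ {t : K} (ht : t ^ p ^ n = t), σ (P.lift (fix6 hn hq _ hr ht)) ∈ D.S j ∧
        D.c j (σ (P.lift (fix6 hn hq _ hr ht))) = t := by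
      intro t ht
      rw [show σ (P.lift (fix6 hn hq _ hr ht)) = _ from P.p_lift _]
      exact ⟨(coreE6 K).xGL_mem_Ucl (S := listSet (lev chE6 j)) hm t,
        (coreE6 K).coord_xGL_self (level_at X.check (i := j) hi) h2 h2' t⟩
    exact ⟨_, _, (hin ha').1, (hin hb').1, (hin ha').2, (hin hb').2,
      goodRoot_all hn hq P _ hr hr a b ha' hb'⟩
  · left
    refine D.noPairing_of_scalars (mem_layerE6P_short hl _) (fun a _ b _ => mem_layerE6P_short hl _)
      (fun a _ => mem_layerE6P_short hl _) (fun l _ hl0 => ?_) ?_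
    · obtain ⟨t, ht, htv⟩ := mkT (Units.mk0 l hl0) (scalW j)
      refine ⟨t, ht, ?_⟩
      rw [htv j hi, (paired_layers j hi hl).2.2.2]
      simp
    · obtain ⟨ν, -, h⟩ := Layers.exists_good_scalar (P := (Set.univ : Set K)) (by
        rw [Set.ncard_univ, Nat.card_eq_fintype_card, hn]
        calc 4 < 3 * 3 := by norm_num
          _ ≤ _ := Nat.mul_le_mul h3 h3)
      exact ⟨ν, mem_layerE6P_short hl _, h⟩

theorem derived_inf_kerE6 {Γ : Type u} [Group Γ] {σ : Γ →* ↥(twistedE6 K (p ^ n))}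
    (hsur : Function.Surjective σ) (hc : σ.ker ≤ Subgroup.center Γ) {Q : Subgroup Γ}
    (hQ : Q.map σ ≤ (chevE6.posUnipotent K).subgroupOf (twistedE6 K (p ^ n))) {z : Γ}
    (hz : z ∈ σ.ker) (hzQ : z ∈ ⁅Q, Q⁆) : z = 1 := by
  refine (dataE6 hn hq h3).layers.derived_inf_ker hsur hc (pairs_vanishE6 hn hq h3 hsur hc) ?_ hz hzQ
  rw [(dataE6 hn hq h3).layers_S_zero]
  exact hQ

end CfsgLib.TwistMult
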