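import Cfsg.Agent.Lib.Schur.Criteria
import Mathlib.Tactic.LinearCombination

/-!
# Complements in central extensions of a group filtered by weight spaces over subgroups of a field

A group `S 0` has a central series `S i` with coordinates in additive subgroups `P i` of a field,
scaled by a commuting set `T`.
In a central extension in which every pairing of two layers is trivial, the preimage of `S 0` has a
complement to the kernel that is invariant under the preimage of `T`.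
-/

set_option autoImplicit false
set_option linter.style.haveILetI false

namespace CfsgLib.TwistMult

open Subgroup
open scoped commutatorElement

universe u v w

variable {G : Type v} [Group G] {K : Type w} [Field K]

/-- A series with coordinates and weights. -/
structure Layers (G : Type v) [Group G] (K : Type w) [Field K] where
  len : ℕ
  S : ℕ → Subgroup G
  S_len : S len = ⊥
  mono : ∀ i, i < len → S (i + 1) ≤ S i
  le_top : ∀ i, i ≤ len → S i ≤ S 0
  c : ℕ → G → K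
  c_mul : ∀ i, i < len → ∀ x ∈ S i, ∀ y ∈ S i, c i (x * y) = c i x + c i y
  c_ker : ∀ i, i < len → ∀ x ∈ S i, (c i x = 0 ↔ x ∈ S (i + 1))
  P : ℕ → AddSubgroup K
  c_mem : ∀ i, i < len → ∀ x ∈ S i, c i x ∈ P i
  c_surj : ∀ i, i < len → ∀ a ∈ P i, ∃ x ∈ S i, c i x = a
  comm : ∀ i, i < len → ∀ x ∈ S 0, ∀ q ∈ S i, ⁅x, q⁆ ∈ S (i + 1)
  T : Set G
  T_comm : ∀ s ∈ T, ∀ t ∈ T, Commute s t
  χ : ℕ → G → K
  conj : ∀ i, i ≤ len → ∀ t ∈ T, ∀ x ∈ S i, t * x * t⁻¹ ∈ S i
  c_conj : ∀ i, i < len → ∀ t ∈ T, ∀ x ∈ S i, c i (t * x * t⁻¹) = χ i t * c i x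
  moves : ∀ i, i < len → ∃ t ∈ T, χ i t ≠ 1

namespace Layers

variable (D : Layers G K)

/-- Two weights admit no non-trivial invariant pairing. -/
def NoPairing (j i : ℕ) : Prop :=
  ∀ (M : Type u) [CommGroup M] (B : K → K → M),
    (∀ a ∈ D.P j, ∀ a' ∈ D.P j, ∀ b ∈ D.P i, B (a + a') b = B a b * B a' b) →
    (∀ a ∈ D.P j, ∀ b ∈ D.P i, ∀ b' ∈ D.P i, B a (b + b') = B a b * B a b') →
    (∀ t ∈ D.T, ∀ a ∈ D.P j, ∀ b ∈ D.P i, B (D.χ j t * a) (D.χ i t * b) = B a b) →
    (j = i → ∀ a ∈ D.P j, B a a = 1) →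
    ∀ a ∈ D.P j, ∀ b ∈ D.P i, B a b = 1

/-- The lifts of suitable representatives of two layers commute. -/
def GoodPair {Γ : Type u} [Group Γ] (σ : Γ →* G) (j i : ℕ) : Prop :=
  ∀ a ∈ D.P j, ∀ b ∈ D.P i, ∃ x q : Γ, σ x ∈ D.S j ∧ σ q ∈ D.S i ∧ D.c j (σ x) = a ∧ D.c i (σ q) = b ∧ ⁅x, q⁆ = 1

variable {Γ : Type u} [Group Γ] {σ : Γ →* G}

/-- A complement to the kernel in the preimage of a layer. -/
structure Compl (σ : Γ →* G) (i : ℕ) where
  L : Subgroup Γ
  le : L ≤ (D.S i).comap σ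
  inj : ∀ l ∈ L, σ l = 1 → l = 1
  cover : ∀ g, σ g ∈ D.S i → ∃ l ∈ L, σ l = σ g
  normal : ∀ x, σ x ∈ D.S 0 → ∀ l ∈ L, x * l * x⁻¹ ∈ L
  tinv : ∀ t, σ t ∈ D.T → ∀ l ∈ L, t * l * t⁻¹ ∈ L

variable (hsur : Function.Surjective σ) (hc : σ.ker ≤ center Γ)

include hc in
theorem central_of_one {z : Γ} (hz : σ z = 1) (g : Γ) : Commute z g :=
  CfsgLib.Schur.ker_commute hc hz g

/-- The last layer has the trivial complement. -/
def complLast : D.Compl σ D.len where
  L := ⊥
  le := bot_le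
  inj := fun l hl _ => hl
  cover := fun g hg => ⟨1, one_mem _, by rw [map_one]; exact (by simpa [D.S_len] using hg : σ g = 1).symm⟩
  normal := fun x _ l hl => by rw [Subgroup.mem_bot] at hl ⊢; rw [hl]; group
  tinv := fun x _ l hl => by rw [Subgroup.mem_bot] at hl ⊢; rw [hl]; group

include hsur hc

theorem comm_mem {i : ℕ} (hi : i < D.len) (C' : D.Compl σ (i + 1))
    (hpair : ∀ j, j ≤ i → D.NoPairing.{u} j i ∨ D.GoodPair σ j i) :
    ∀ x, σ x ∈ D.S 0 → ∀ q, σ q ∈ D.S i → ⁅x, q⁆ ∈ C'.L := by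
  classical
  obtain ⟨r, hr⟩ := hsur.hasRightInverse
  have hzc := fun {z : Γ} (hz : σ z = 1) (g : Γ) => central_of_one hc hz g
  let ln : Γ → Γ := fun g => if h : σ g ∈ D.S (i + 1) then (C'.cover g h).choose else 1
  have ln_mem : ∀ g, ln g ∈ C'.L := fun g => by
    simp only [ln]; split_ifs with h
    exacts [(C'.cover g h).choose_spec.1, one_mem _]
  have ln_σ : ∀ g, σ g ∈ D.S (i + 1) → σ (ln g) = σ g := fun g h => by
    simp only [ln, dif_pos h]; exact (C'.cover g h).choose_spec.2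
  let A := σ.ker
  letI : CommGroup ↥A :=
    { (inferInstance : Group ↥A) with mul_comm := fun a b => Subtype.ext (hzc a.2 b).eq }
  let cp : Γ → ↥A := fun g => if h : σ g ∈ D.S (i + 1) then
    ⟨g * (ln g)⁻¹, by rw [MonoidHom.mem_ker, map_mul, map_inv, ln_σ g h, mul_inv_cancel]⟩ else 1
  have cp_eq : ∀ g (z : ↥A) l, l ∈ C'.L → g = (z : Γ) * l → cp g = z := by
    rintro g z l hl rfl
    have hσ : σ ((z : Γ) * l) = σ l := by rw [map_mul, show σ (z : Γ) = 1 from z.2, one_mul]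
    have h : σ ((z : Γ) * l) ∈ D.S (i + 1) := by rw [hσ]; exact C'.le hl
    have e : ln ((z : Γ) * l) = l := by
      refine (inv_mul_eq_one.1 (C'.inj _ (mul_mem (inv_mem (ln_mem _)) hl) ?_))
      rw [map_mul, map_inv, ln_σ _ h, hσ, inv_mul_cancel]
    refine Subtype.ext ?_
    simp only [cp, dif_pos h, e]
    group
  have cp_dec : ∀ g, σ g ∈ D.S (i + 1) → g = (cp g : Γ) * ln g := fun g h => by
    simp only [cp, dif_pos h]; group
  have cp_one : ∀ l ∈ C'.L, cp l = 1 := fun l hl => cp_eq l 1 l hl (by simp)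
  have cp_L : ∀ g, σ g ∈ D.S (i + 1) → cp g = 1 → g ∈ C'.L := fun g h e => by
    rw [cp_dec g h, e, OneMemClass.coe_one, one_mul]; exact ln_mem g
  have cp_mul : ∀ g g', σ g ∈ D.S (i + 1) → σ g' ∈ D.S (i + 1) → cp (g * g') = cp g * cp g' := by
    intro g g' h h'
    refine cp_eq _ _ (ln g * ln g') (mul_mem (ln_mem g) (ln_mem g')) ?_
    have e := (hzc (cp g').2 (ln g)).eq
    calc g * g' = (cp g : Γ) * ln g * ((cp g' : Γ) * ln g') := by rw [← cp_dec g h, ← cp_dec g' h']
      _ = (cp g : Γ) * ((cp g' : Γ) * ln g) * ln g' := by rw [e]; group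
      _ = _ := by rw [Subgroup.coe_mul]; group
  have cp_conj : ∀ x, σ x ∈ D.S 0 ∨ σ x ∈ D.T → ∀ g, σ g ∈ D.S (i + 1) →
      cp (x * g * x⁻¹) = cp g := by
    intro x hx g h
    refine cp_eq _ _ (x * ln g * x⁻¹) ?_ ?_
    · rcases hx with hx | hx
      exacts [C'.normal x hx _ (ln_mem g), C'.tinv x hx _ (ln_mem g)]
    · conv_lhs => rw [cp_dec g h]
      rw [show x * ((cp g : Γ) * ln g) * x⁻¹ = x * (cp g : Γ) * (ln g * x⁻¹) by group,
        ← (hzc (cp g).2 x).eq]
      group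
  set f : Γ → Γ → ↥A := fun x q => cp ⁅x, q⁆ with hfdef
  have hs : ∀ x q, σ x ∈ D.S 0 → σ q ∈ D.S i → σ ⁅x, q⁆ ∈ D.S (i + 1) := fun x q hx hq => by
    rw [map_commutatorElement]; exact D.comm i hi _ hx _ hq
  have f_mul_left : ∀ x y q, σ x ∈ D.S 0 → σ y ∈ D.S 0 → σ q ∈ D.S i →
      f (x * y) q = f x q * f y q := by
    intro x y q hx hy hq
    show cp ⁅x * y, q⁆ = _
    rw [show ⁅x * y, q⁆ = x * ⁅y, q⁆ * x⁻¹ * ⁅x, q⁆ by simp only [commutatorElement_def]; group]
    have h2 := hs y q hy hq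
    have h1 : σ (x * ⁅y, q⁆ * x⁻¹) ∈ D.S (i + 1) := by
      have h3 := D.comm i hi _ hx _ ((D.mono i hi) h2)
      have h4 : σ (x * ⁅y, q⁆ * x⁻¹) = ⁅σ x, σ ⁅y, q⁆⁆ * σ ⁅y, q⁆ := by
        simp only [map_mul, map_inv, commutatorElement_def]; group
      rw [h4]; exact mul_mem h3 h2
    rw [cp_mul _ _ h1 (hs x q hx hq), cp_conj x (Or.inl hx) _ h2, mul_comm]
  have f_mul_right : ∀ x q q', σ x ∈ D.S 0 → σ q ∈ D.S i → σ q' ∈ D.S i →
      f x (q * q') = f x q * f x q' := by
    intro x q q' hx hq hq'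
    show cp ⁅x, q * q'⁆ = _
    rw [show ⁅x, q * q'⁆ = ⁅x, q⁆ * (q * ⁅x, q'⁆ * q⁻¹) by simp only [commutatorElement_def]; group]
    have h2 := hs x q' hx hq'
    have hq0 := D.le_top i hi.le hq
    have h1 : σ (q * ⁅x, q'⁆ * q⁻¹) ∈ D.S (i + 1) := by
      have h3 := D.comm i hi _ hq0 _ ((D.mono i hi) h2)
      have h4 : σ (q * ⁅x, q'⁆ * q⁻¹) = ⁅σ q, σ ⁅x, q'⁆⁆ * σ ⁅x, q'⁆ := by
        simp only [map_mul, map_inv, commutatorElement_def]; group
      rw [h4]; exact mul_mem h3 h2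
    rw [cp_mul _ _ (hs x q hx hq) h1, cp_conj q (Or.inl hq0) _ h2]
  have h10 : i + 1 ≤ D.len := hi
  have f_q : ∀ x q, σ x ∈ D.S 0 → σ q ∈ D.S (i + 1) → f x q = 1 := by
    intro x q hx hq
    obtain ⟨l, hl, hle⟩ := C'.cover q hq
    show cp ⁅x, q⁆ = 1
    rw [CfsgLib.Schur.commutator_congr hc (rfl : σ x = σ x) hle.symm]
    refine cp_one _ ?_
    rw [commutatorElement_def]
    exact mul_mem (C'.normal x hx l hl) (inv_mem hl)
  have f_x : ∀ x q, σ x ∈ D.S (i + 1) → σ q ∈ D.S i → f x q = 1 := by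
    intro x q hx hq
    obtain ⟨l, hl, hle⟩ := C'.cover x hx
    show cp ⁅x, q⁆ = 1
    rw [CfsgLib.Schur.commutator_congr hc hle.symm (rfl : σ q = σ q)]
    refine cp_one _ ?_
    rw [commutatorElement_def, mul_assoc l, mul_assoc l]
    refine mul_mem hl ?_
    exact C'.normal q (D.le_top i hi.le hq) _ (inv_mem hl)
  -- every pairing vanishes
  have key : ∀ k j, j + k = D.len → ∀ x q, σ x ∈ D.S j → σ q ∈ D.S i → f x q = 1 := by
    intro k
    induction k with
    | zero =>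
      intro j hj x q hx hq
      obtain rfl : j = D.len := by omega
      rw [D.S_len, Subgroup.mem_bot] at hx
      exact f_x x q (by rw [hx]; exact one_mem _) hq
    | succ k ih =>
      intro j hj x q hx hq
      have hjl : j < D.len := by omega
      have hj0 : ∀ {y : G}, y ∈ D.S j → y ∈ D.S 0 := fun hy => D.le_top j hjl.le hy
      by_cases hji : i < j
      · have hle : ∀ a, i + 1 + a ≤ D.len → D.S (i + 1 + a) ≤ D.S (i + 1) := by
          intro a
          induction a with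
          | zero => intro _; exact le_rfl
          | succ a iha => intro ha; exact (D.mono (i + 1 + a) (by omega)).trans (iha (by omega))
        refine f_x x q ?_ hq
        have := hle (j - (i + 1)) (by omega)
        rw [show i + 1 + (j - (i + 1)) = j by omega] at this
        exact this hx
      push Not at hji
      choose xs₀ hxs₀ hxs₀' using D.c_surj j hjl
      choose qs₀ hqs₀ hqs₀' using D.c_surj i hi
      let xs : K → G := fun a => if ha : a ∈ D.P j then xs₀ a ha else 1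
      let qs : K → G := fun b => if hb : b ∈ D.P i then qs₀ b hb else 1
      have hxs : ∀ a, xs a ∈ D.S j := fun a => by
        simp only [xs]; split_ifs with ha
        exacts [hxs₀ a ha, one_mem _]
      have hqs : ∀ b, qs b ∈ D.S i := fun b => by
        simp only [qs]; split_ifs with hb
        exacts [hqs₀ b hb, one_mem _]
      have hxs' : ∀ a ∈ D.P j, D.c j (xs a) = a := fun a ha => by
        simp only [xs, dif_pos ha]; exact hxs₀' a ha
      have hqs' : ∀ b ∈ D.P i, D.c i (qs b) = b := fun b hb => by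
        simp only [qs, dif_pos hb]; exact hqs₀' b hb
      let B : K → K → ↥A := fun a b => f (r (xs a)) (r (qs b))
      -- `f` depends only on the coordinates
      have fB : ∀ x q, σ x ∈ D.S j → σ q ∈ D.S i → f x q = B (D.c j (σ x)) (D.c i (σ q)) := by
        intro x q hx hq
        set a := D.c j (σ x)
        set b := D.c i (σ q)
        set x0 := r (xs a)
        set q0 := r (qs b)
        have hx0 : σ x0 ∈ D.S j := by rw [hr]; exact hxs a
        have hq0 : σ q0 ∈ D.S i := by rw [hr]; exact hqs b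
        have hd : σ (x0⁻¹ * x) ∈ D.S (j + 1) := by
          rw [map_mul, map_inv, ← D.c_ker j hjl _ (mul_mem (inv_mem hx0) hx)]
          have h := D.c_mul j hjl _ hx0 _ (mul_mem (inv_mem hx0) hx)
          rw [mul_inv_cancel_left] at h
          rw [show D.c j (σ x0) = a by rw [hr]; exact hxs' a (D.c_mem j hjl _ hx)] at h
          exact add_eq_left.1 h.symm
        have he : σ (q0⁻¹ * q) ∈ D.S (i + 1) := by
          rw [map_mul, map_inv, ← D.c_ker i hi _ (mul_mem (inv_mem hq0) hq)]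
          have h := D.c_mul i hi _ hq0 _ (mul_mem (inv_mem hq0) hq)
          rw [mul_inv_cancel_left] at h
          rw [show D.c i (σ q0) = b by rw [hr]; exact hqs' b (D.c_mem i hi _ hq)] at h
          exact add_eq_left.1 h.symm
        have hd0 : σ (x0⁻¹ * x) ∈ D.S 0 := D.le_top (j + 1) hjl hd
        have h1 : f x q = f x0 q := by
          conv_lhs => rw [show x = x0 * (x0⁻¹ * x) by group]
          rw [f_mul_left _ _ _ (hj0 hx0) hd0 hq, ih (j + 1) (by omega) _ _ hd hq, mul_one]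
        have h2 : f x0 q = f x0 q0 := by
          conv_lhs => rw [show q = q0 * (q0⁻¹ * q) by group]
          rw [f_mul_right _ _ _ (hj0 hx0) hq0 (D.mono i hi he), f_q _ _ (hj0 hx0) he, mul_one]
        rw [h1, h2]
      have hxr : ∀ a, σ (r (xs a)) ∈ D.S j := fun a => by rw [hr]; exact hxs a
      have hqr : ∀ b, σ (r (qs b)) ∈ D.S i := fun b => by rw [hr]; exact hqs b
      have hB : ∀ a ∈ D.P j, ∀ b ∈ D.P i, B a b = 1 := by
        rcases hpair j hji with hno | hgood
        · refine hno ↥A B (fun a ha a' ha' b hb => ?_) (fun a ha b hb b' hb' => ?_)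
            (fun t ht a ha b hb => ?_) (fun e a ha => ?_)
          · have h := fB (r (xs a) * r (xs a')) (r (qs b))
              (by rw [map_mul]; exact mul_mem (hxr a) (hxr a')) (hqr b)
            rw [f_mul_left _ _ _ (hj0 (hxr a)) (hj0 (hxr a')) (hqr b), map_mul, hr, hr, hr,
              D.c_mul j hjl _ (hxs a) _ (hxs a'), hxs' a ha, hxs' a' ha', hqs' b hb] at h
            exact h.symm
          · have h := fB (r (xs a)) (r (qs b) * r (qs b')) (hxr a)
              (by rw [map_mul]; exact mul_mem (hqr b) (hqr b'))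
            rw [f_mul_right _ _ _ (hj0 (hxr a)) (hqr b) (hqr b'), map_mul, hr, hr, hr,
              D.c_mul i hi _ (hqs b) _ (hqs b'), hxs' a ha, hqs' b hb, hqs' b' hb'] at h
            exact h.symm
          · set τ := r t
            have hτ : σ τ = t := hr t
            have e1 : σ (τ * r (xs a) * τ⁻¹) = t * xs a * t⁻¹ := by rw [map_mul, map_mul, map_inv, hτ, hr]
            have e2 : σ (τ * r (qs b) * τ⁻¹) = t * qs b * t⁻¹ := by rw [map_mul, map_mul, map_inv, hτ, hr]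
            have h := fB (τ * r (xs a) * τ⁻¹) (τ * r (qs b) * τ⁻¹)
              (by rw [e1]; exact D.conj j hjl.le t ht _ (hxs a))
              (by rw [e2]; exact D.conj i hi.le t ht _ (hqs b))
            rw [e1, e2, D.c_conj j hjl t ht _ (hxs a), D.c_conj i hi t ht _ (hqs b), hxs' a ha, hqs' b hb] at h
            rw [← h]
            show cp ⁅τ * r (xs a) * τ⁻¹, τ * r (qs b) * τ⁻¹⁆ = _
            rw [show ⁅τ * r (xs a) * τ⁻¹, τ * r (qs b) * τ⁻¹⁆ = τ * ⁅r (xs a), r (qs b)⁆ * τ⁻¹ by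
              simp only [commutatorElement_def]; group]
            exact cp_conj τ (Or.inr (by rw [hτ]; exact ht)) _ (hs _ _ (hj0 (hxr a)) (hqr b))
          · subst e
            have h := fB (r (xs a)) (r (xs a)) (hxr a) (hxr a)
            rw [hr, hxs' a ha] at h
            rw [← h]
            show cp ⁅r (xs a), r (xs a)⁆ = 1
            rw [commutatorElement_self]
            exact cp_one 1 (one_mem _)
        · intro a ha b hb
          obtain ⟨x', q', hx', hq', ea, eb, h1⟩ := hgood a ha b hb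
          have h := fB x' q' hx' hq'
          rw [ea, eb] at h
          rw [← h]
          show cp ⁅x', q'⁆ = 1
          rw [h1]
          exact cp_one 1 (one_mem _)
      rw [fB x q hx hq]
      exact hB _ (D.c_mem j hjl _ hx) _ (D.c_mem i hi _ hq)
  intro x hx q hq
  exact cp_L _ (hs x q hx hq) (key D.len 0 (by omega) x q hx hq)

theorem nonempty_step [Finite K] {i : ℕ} (hi : i < D.len) (C' : D.Compl σ (i + 1))
    (hpair : ∀ j, j ≤ i → D.NoPairing.{u} j i ∨ D.GoodPair σ j i) :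
    Nonempty (D.Compl σ i) := by
  classical
  have hcm := comm_mem D hsur hc hi C' hpair
  obtain ⟨t₀, ht₀, hne⟩ := D.moves i hi
  obtain ⟨h, rfl⟩ := hsur t₀
  have hmem : ∀ q, σ q ∈ D.S i → σ ⁅h, q⁆ ∈ D.S i := fun q hq => by
    rw [map_commutatorElement, commutatorElement_def]
    exact mul_mem (D.conj i hi.le _ ht₀ _ hq) (inv_mem hq)
  have hcd : ∀ q, σ q ∈ D.S i → D.c i (σ ⁅h, q⁆) = (D.χ i (σ h) - 1) * D.c i (σ q) := fun q hq => by
    have h1 := D.c_mul i hi _ (hmem q hq) _ hq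
    rw [map_commutatorElement, commutatorElement_def, inv_mul_cancel_right,
      D.c_conj i hi _ ht₀ _ hq] at h1
    rw [map_commutatorElement, commutatorElement_def]
    linear_combination -h1
  have top : ∀ {g : G}, g ∈ D.S i → g ∈ D.S 0 := fun hg => D.le_top i hi.le hg
  have hmul : ∀ q q', σ q ∈ D.S i → σ q' ∈ D.S i →
      ⁅h, q⁆⁻¹ * ⁅h, q * q'⁆ * ⁅h, q'⁆⁻¹ ∈ C'.L := by
    intro q q' hq hq'
    rw [show ⁅h, q⁆⁻¹ * ⁅h, q * q'⁆ * ⁅h, q'⁆⁻¹ = ⁅q, ⁅h, q'⁆⁆ by
      simp only [commutatorElement_def]; group]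
    exact hcm q (top hq) _ (hmem q' hq')
  let L : Subgroup Γ :=
    { carrier := {g | ∃ q, σ q ∈ D.S i ∧ (⁅h, q⁆)⁻¹ * g ∈ C'.L}
      one_mem' := ⟨1, by rw [map_one]; exact one_mem _, by simp⟩
      mul_mem' := by
        rintro g g' ⟨q, hq, hg⟩ ⟨q', hq', hg'⟩
        refine ⟨q * q', by rw [map_mul]; exact mul_mem hq hq', ?_⟩
        set a := ⁅h, q⁆
        set b := ⁅h, q'⁆
        set d := a⁻¹ * ⁅h, q * q'⁆ * b⁻¹
        have e : ⁅h, q * q'⁆⁻¹ * (g * g') =
            b⁻¹ * (d⁻¹ * (a⁻¹ * g)) * b * (b⁻¹ * g') := by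
          simp only [d]; group
        rw [e]
        refine mul_mem ?_ hg'
        have hb : σ b⁻¹ ∈ D.S 0 := by rw [map_inv]; exact inv_mem (top (hmem q' hq'))
        have := C'.normal b⁻¹ hb _ (mul_mem (inv_mem (hmul q q' hq hq')) hg)
        rwa [inv_inv] at this
      inv_mem' := by
        rintro g ⟨q, hq, hg⟩
        refine ⟨q⁻¹, by rw [map_inv]; exact inv_mem hq, ?_⟩
        set a := ⁅h, q⁆
        set b := ⁅h, q⁻¹⁆
        have hd : a⁻¹ * b⁻¹ ∈ C'.L := by
          have := hmul q q⁻¹ hq (by rw [map_inv]; exact inv_mem hq)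
          rwa [mul_inv_cancel, commutatorElement_one_right, mul_one] at this
        have ha : σ a⁻¹ ∈ D.S 0 := by rw [map_inv]; exact inv_mem (top (hmem q hq))
        have e : b⁻¹ * g⁻¹ = a * ((a⁻¹ * b⁻¹) * (a⁻¹ * g)⁻¹) * a⁻¹ := by group
        rw [e]
        exact C'.normal a (by simpa using inv_mem ha) _ (mul_mem hd (inv_mem hg)) }
  have hL' : ∀ l ∈ C'.L, l ∈ L := fun l hl => ⟨1, by rw [map_one]; exact one_mem _, by simpa using hl⟩
  refine ⟨⟨L, ?_, ?_, ?_, ?_, ?_⟩⟩
  · rintro g ⟨q, hq, hg⟩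
    show σ g ∈ D.S i
    have := mul_mem (hmem q hq) (D.mono i hi (C'.le hg))
    rwa [← map_mul, mul_inv_cancel_left] at this
  · rintro g ⟨q, hq, hg⟩ h1
    have h2 : σ ⁅h, q⁆ ∈ D.S (i + 1) := by
      have := inv_mem (C'.le hg)
      rwa [Subgroup.mem_comap, map_inv, map_mul, map_inv, h1, mul_one, inv_inv] at this
    have h3 : σ q ∈ D.S (i + 1) := by
      rw [← D.c_ker i hi _ hq]
      have := (D.c_ker i hi _ (hmem q hq)).2 h2
      rw [hcd q hq, mul_eq_zero] at this
      exact this.resolve_left (sub_ne_zero.2 hne)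
    obtain ⟨l, hl, hle⟩ := C'.cover q h3
    have h4 : ⁅h, q⁆ ∈ C'.L := by
      rw [CfsgLib.Schur.commutator_congr hc (rfl : σ h = σ h) hle.symm, commutatorElement_def]
      exact mul_mem (C'.tinv h ht₀ l hl) (inv_mem hl)
    exact C'.inj g (by have := mul_mem h4 hg; rwa [mul_inv_cancel_left] at this) h1
  · intro g hg
    obtain ⟨b, hbP, hb⟩ : ∃ b ∈ D.P i, b = D.c i (σ g) / (D.χ i (σ h) - 1) := by
      have hmaps : ∀ b ∈ D.P i, (D.χ i (σ h) - 1) * b ∈ D.P i := fun b hb => by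
        obtain ⟨x, hx, rfl⟩ := D.c_surj i hi b hb
        obtain ⟨q, rfl⟩ := hsur x
        rw [← hcd q hx]
        exact D.c_mem i hi _ (hmem q hx)
      have hinj : Function.Injective fun b : D.P i =>
          (⟨_, hmaps b b.2⟩ : D.P i) := fun b b' e =>
        Subtype.ext (mul_left_cancel₀ (sub_ne_zero.2 hne) (congrArg Subtype.val e))
      obtain ⟨b, hb⟩ := Finite.injective_iff_surjective.1 hinj ⟨_, D.c_mem i hi _ hg⟩
      exact ⟨b, b.2, (eq_div_iff (sub_ne_zero.2 hne)).2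
        ((mul_comm _ _).trans (congrArg Subtype.val hb))⟩
    obtain ⟨x, hx, hxc⟩ := D.c_surj i hi b hbP
    rw [hb] at hxc
    obtain ⟨q, rfl⟩ := hsur x
    have h1 : σ (⁅h, q⁆⁻¹ * g) ∈ D.S (i + 1) := by
      rw [map_mul, map_inv, ← D.c_ker i hi _ (mul_mem (inv_mem (hmem q hx)) hg)]
      have h2 := D.c_mul i hi _ (hmem q hx) _ (mul_mem (inv_mem (hmem q hx)) hg)
      rw [mul_inv_cancel_left, hcd q hx, hxc, mul_div_cancel₀ _ (sub_ne_zero.2 hne)] at h2
      exact left_eq_add.1 h2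
    obtain ⟨l, hl, hle⟩ := C'.cover _ h1
    exact ⟨⁅h, q⁆ * l, ⟨q, hx, by rwa [inv_mul_cancel_left]⟩,
      by rw [map_mul, hle, map_mul, map_inv, mul_inv_cancel_left]⟩
  · rintro x hx g ⟨q, hq, hg⟩
    refine ⟨q, hq, ?_⟩
    have h1 : ⁅h, q⁆⁻¹ * (x * g * x⁻¹) =
        ⁅h, q⁆⁻¹ * ⁅x, ⁅h, q⁆⁆ * ⁅h, q⁆ * (x * (⁅h, q⁆⁻¹ * g) * x⁻¹) := by
      simp only [commutatorElement_def]; group
    rw [h1]
    refine mul_mem ?_ (C'.normal x hx _ hg)
    have hb : σ ⁅h, q⁆⁻¹ ∈ D.S 0 := by rw [map_inv]; exact inv_mem (top (hmem q hq))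
    simpa using C'.normal _ hb _ (hcm x hx _ (hmem q hq))
  · rintro t ht g ⟨q, hq, hg⟩
    refine ⟨t * q * t⁻¹, by rw [map_mul, map_mul, map_inv]; exact D.conj i hi.le _ ht _ hq, ?_⟩
    have e : ⁅h, t * q * t⁻¹⁆ = t * ⁅h, q⁆ * t⁻¹ := by
      rw [show t * ⁅h, q⁆ * t⁻¹ = ⁅t * h * t⁻¹, t * q * t⁻¹⁆ by
        simp only [commutatorElement_def]; group]
      refine CfsgLib.Schur.commutator_congr hc ?_ rfl
      rw [map_mul, map_mul, map_inv, (D.T_comm _ ht _ ht₀).eq, mul_inv_cancel_right]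
    rw [e, show (t * ⁅h, q⁆ * t⁻¹)⁻¹ * (t * g * t⁻¹) = t * (⁅h, q⁆⁻¹ * g) * t⁻¹ by group]
    exact C'.tinv t ht _ hg

/-- The preimage of the top layer has an invariant complement to the kernel. -/
theorem nonempty_compl [Finite K]
    (hpair : ∀ i, i < D.len → ∀ j, j ≤ i → D.NoPairing.{u} j i ∨ D.GoodPair σ j i) :
    Nonempty (D.Compl σ 0) := by
  have key : ∀ k i, i + k = D.len → Nonempty (D.Compl σ i) := by
    intro k
    induction k with
    | zero =>
      intro i hi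
      obtain rfl : i = D.len := by omega
      exact ⟨D.complLast⟩
    | succ k ih =>
      intro i hi
      obtain ⟨C'⟩ := ih (i + 1) (by omega)
      exact nonempty_step D hsur hc (by omega) C' (hpair i (by omega))
  exact key D.len 0 (by omega)

/-- The derived subgroup of the preimage meets the kernel trivially. -/
theorem derived_inf_ker [Finite K]
    (hpair : ∀ i, i < D.len → ∀ j, j ≤ i → D.NoPairing.{u} j i ∨ D.GoodPair σ j i)
    {Q : Subgroup Γ} (hQ : Q.map σ ≤ D.S 0) {z : Γ} (hz : z ∈ σ.ker) (hzQ : z ∈ ⁅Q, Q⁆) : z = 1 := by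
  obtain ⟨C⟩ := nonempty_compl D hsur hc hpair
  have hle : ⁅Q, Q⁆ ≤ C.L := by
    rw [Subgroup.commutator_le]
    intro a ha b hb
    obtain ⟨l, hl, hle⟩ := C.cover a (hQ (Subgroup.mem_map_of_mem σ ha))
    obtain ⟨l', hl', hle'⟩ := C.cover b (hQ (Subgroup.mem_map_of_mem σ hb))
    rw [CfsgLib.Schur.commutator_congr hc hle.symm hle'.symm, commutatorElement_def]
    exact mul_mem (mul_mem (mul_mem hl hl') (inv_mem hl)) (inv_mem hl')
  exact C.inj z (hle hzQ) hz

end Layers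

end CfsgLib.TwistMult
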