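import Cfsg.Agent.Lib.TwistMult.RankOne

/-!
# The Bruhat decomposition lifts to a central extension with kernel of order prime to the characteristic

The kernel of a stem extension is then an image of the kernel of the parametrisation of the torus
by the diagonal subgroups of the rank-one groups.
-/

set_option autoImplicit false
set_option linter.unusedSectionVars false

namespace CfsgLib.TwistMult

open Cfsg.Lie CfsgLib.ChevStr CfsgLib.ChevStr.ChevCore CfsgLib.Twisted CfsgLib.TwistAut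
open scoped MatrixGroups

universe u

variable {D : ChevalleyDatum} {K : Type u} [Field K] [Fintype K] {C : ChevCore D K} {φ : Frob C}
  {I : Type} {O : OrbitData C.R φ.ρ I} {G1 : Subgroup (GL D.Idx K)} {d : ℕ} {g : Gens φ O G1 d}
  {p : ℕ} [Fact p.Prime] [CharP K p] {Γ : Type u} [Group Γ] [Finite Γ]

/-- The lifted rank-one homomorphisms. -/
structure LiftData (R : RankOneData g) (p : ℕ) (σ : Γ →* ↥G1) where
  sur : Function.Surjective σ
  cen : σ.ker ≤ Subgroup.center Γ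
  coprime : ¬ p ∣ Nat.card ↥σ.ker
  ψ : ∀ i, Matrix.SpecialLinearGroup (Fin 2) ↥(R.E i) →* Γ
  σψ : ∀ i s, σ (ψ i s) = R.hom i s
  ψ_pow : ∀ i s, IsPow p s → ψ i s = pLift p σ (R.hom i s)

theorem exists_liftData (R : RankOneData g) {σ : Γ →* ↥G1} (hsur : Function.Surjective σ)
    (hc : σ.ker ≤ Subgroup.center Γ) (hco : ¬ p ∣ Nat.card ↥σ.ker) :
    Nonempty (LiftData R p σ) := by
  classical
  have h : ∀ i, ∃ ψ : Matrix.SpecialLinearGroup (Fin 2) ↥(R.E i) →* Γ,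
      (∀ s, σ (ψ s) = R.hom i s) ∧ ∀ s, IsPow p s → ψ s = pLift p σ (R.hom i s) := fun i => by
    have : CharP ↥(R.E i) p := (R.E i).subtype.charP Subtype.val_injective p
    have : Fintype ↥(R.E i) := Fintype.ofFinite _
    refine exists_homLift hsur hc hco (R.hom i) closure_slX_slY ?_
      fun r hr hrp => noMultiplierAt_slTwo_cross p r hr hrp
    rintro _ (⟨t, rfl⟩ | ⟨t, rfl⟩)
    exacts [isPow_slX p t, isPow_slY p t]
  exact ⟨⟨hsur, hc, hco, fun i => (h i).choose, fun i => (h i).choose_spec.1,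
    fun i => (h i).choose_spec.2⟩⟩

namespace LiftData

variable {R : RankOneData g} {σ : Γ →* ↥G1}

theorem charE (i : I) : CharP ↥(R.E i) p := (R.E i).subtype.charP Subtype.val_injective p

theorem isPow_X (i : I) (t : ↥(R.E i)) : IsPow p (R.hom i (slX t)) :=
  haveI := charE (p := p) (R := R) i
  (isPow_slX p t).map _

theorem isPow_Y (i : I) (t : ↥(R.E i)) : IsPow p (R.hom i (slY t)) :=
  haveI := charE (p := p) (R := R) i
  (isPow_slY p t).map _

variable (L : LiftData R p σ)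
include L

theorem ψ_slX (i : I) (t : ↥(R.E i)) : L.ψ i (slX t) = pLift p σ (R.hom i (slX t)) :=
  haveI := charE (p := p) (R := R) i
  L.ψ_pow i _ (isPow_slX p t)

theorem ψ_slY (i : I) (t : ↥(R.E i)) : L.ψ i (slY t) = pLift p σ (R.hom i (slY t)) :=
  haveI := charE (p := p) (R := R) i
  L.ψ_pow i _ (isPow_slY p t)

theorem isPGroup_upper : IsPGroup p ↥R.upper := by
  have h := (isPGroup_pU (C := C) (G1 := G1) p).comap_of_injective G1.subtype G1.subtype_injective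
  rwa [show (pU G1).comap G1.subtype = R.upper from Subgroup.inf_subgroupOf_right _ _] at h

theorem isPow_upper {a : ↥G1} (ha : a ∈ R.upper) : IsPow p a := by
  obtain ⟨n, hn⟩ := L.isPGroup_upper ⟨a, ha⟩
  exact ⟨n, congrArg Subtype.val hn⟩

/-- The lift of the unipotent group. -/
def U (_L : LiftData R p σ) : Set Γ := {x | ∃ a ∈ R.upper, x = pLift p σ a}

theorem U_mul {x y : Γ} (hx : x ∈ L.U) (hy : y ∈ L.U) : x * y ∈ L.U := by
  obtain ⟨a, ha, rfl⟩ := hx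
  obtain ⟨b, hb, rfl⟩ := hy
  exact ⟨a * b, mul_mem ha hb,
    (pLift_mul L.sur L.cen L.coprime L.isPGroup_upper ha hb).symm⟩

theorem one_mem_U : (1 : Γ) ∈ L.U :=
  ⟨1, one_mem _, (pLift_one L.sur L.cen L.coprime).symm⟩

theorem U_inv {x : Γ} (hx : x ∈ L.U) : x⁻¹ ∈ L.U := by
  obtain ⟨a, ha, rfl⟩ := hx
  exact ⟨a⁻¹, inv_mem ha, (pLift_inv L.sur L.cen L.coprime (L.isPow_upper ha)).symm⟩

theorem σ_U {x : Γ} (hx : x ∈ L.U) : σ x ∈ R.upper := by
  obtain ⟨a, ha, rfl⟩ := hx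
  rw [(pLift_spec L.sur (L.isPow_upper ha)).2]
  exact ha

theorem conj_U (x : Γ) {a : ↥G1} (ha : IsPow p a) (h : σ x * a * (σ x)⁻¹ ∈ R.upper) :
    x * pLift p σ a * x⁻¹ ∈ L.U :=
  ⟨_, h, conj_pLift L.sur L.cen L.coprime x ha⟩

theorem conj_moves_U (x : Γ) {w : Equiv.Perm (Fin D.nroots)}
    (hx : C.Moves (σ x : GL D.Idx K) w) {S : Set ℕ} {a : ↥G1} (ha : IsPow p a)
    (haS : (a : GL D.Idx K) ∈ C.Ucl S)
    (h : ∀ r : Fin D.nroots, (r : ℕ) ∈ S → D.IsPosRoot (w r)) :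
    x * pLift p σ a * x⁻¹ ∈ L.U :=
  L.conj_U x ha (Subgroup.mem_subgroupOf.2
    (C.conj_Ucl_le hx (T := D.posUnipotent K) (fun r hr t => C.xGL_mem_posUnipotent (h r hr) t) _ haS))

/-- A diagonal element normalises the rank-one group. -/
theorem tor_conj_ψ {x : Γ} (hx : (σ x : GL D.Idx K) ∈ D.diagonalSubgroup K) (i : I) :
    ∃ v, ∀ s, x * L.ψ i s * x⁻¹ = L.ψ i (RegTorus.slDiag v s) := by
  obtain ⟨v, hX, hY⟩ := R.tor_conj (σ x) hx i
  refine ⟨v, fun s => DFunLike.congr_fun (RegTorus.slHom_ext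
    (φ := (MulAut.conj x).toMonoidHom.comp (L.ψ i)) (ψ := (L.ψ i).comp (RegTorus.slDiag v))
    (fun t => ?_) fun t => ?_) s⟩
  · show x * L.ψ i (slX t) * x⁻¹ = L.ψ i (RegTorus.slDiag v (slX t))
    rw [conjDia_slX, L.ψ_slX, L.ψ_slX, conj_pLift L.sur L.cen L.coprime x (isPow_X i t), hX,
      conjDia_slX]
  · show x * L.ψ i (slY t) * x⁻¹ = L.ψ i (RegTorus.slDiag v (slY t))
    rw [conjDia_slY, L.ψ_slY, L.ψ_slY, conj_pLift L.sur L.cen L.coprime x (isPow_Y i t), hY,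
      conjDia_slY]

theorem σ_dia (i : I) (u : (↥(R.E i))ˣ) :
    (σ (L.ψ i (dia u)) : GL D.Idx K) ∈ D.diagonalSubgroup K := by
  rw [L.σψ]; exact R.dia_tor i u

theorem commute_dia (i j : I) (u : (↥(R.E i))ˣ) (v : (↥(R.E j))ˣ) :
    Commute (L.ψ i (dia u)) (L.ψ j (dia v)) := by
  obtain ⟨w, hw⟩ := L.tor_conj_ψ (L.σ_dia i u) j
  have h := hw (dia v)
  rw [conjDia_dia] at h
  exact mul_inv_eq_iff_eq_mul.1 h

theorem pairwise_dia : Pairwise fun i j => ∀ (u : (↥(R.E i))ˣ) (v : (↥(R.E j))ˣ),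
    Commute (((L.ψ i).comp dia) u) (((L.ψ j).comp dia) v) := fun i j _ u v => L.commute_dia i j u v

variable [Fintype I]

/-- The lift of the parametrisation of the torus. -/
noncomputable def Ψ : (∀ i, (↥(R.E i))ˣ) →* Γ :=
  MonoidHom.noncommPiCoprod (fun i => (L.ψ i).comp dia) L.pairwise_dia

theorem σ_Ψ (v : ∀ i, (↥(R.E i))ˣ) : σ (L.Ψ v) = R.diaHom v := by
  classical
  refine DFunLike.congr_fun (MonoidHom.pi_ext (f := σ.comp L.Ψ) (g := R.diaHom) fun i u => ?_) v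
  rw [MonoidHom.comp_apply, Ψ, RankOneData.diaHom, MonoidHom.noncommPiCoprod_mulSingle,
    MonoidHom.noncommPiCoprod_mulSingle]
  exact L.σψ i (dia u)

/-- The lift of the torus. -/
noncomputable def T : Subgroup Γ := L.Ψ.range

theorem dia_mem_T (i : I) (u : (↥(R.E i))ˣ) : L.ψ i (dia u) ∈ L.T := by
  classical
  exact ⟨Pi.mulSingle i u, by rw [Ψ, MonoidHom.noncommPiCoprod_mulSingle]; rfl⟩

theorem T_eq : L.T = Subgroup.closure (⋃ i, Set.range fun u => L.ψ i (dia u)) := by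
  classical
  refine le_antisymm ?_ ((Subgroup.closure_le _).2 fun x hx => ?_)
  · rintro _ ⟨v, rfl⟩
    rw [Ψ, MonoidHom.noncommPiCoprod_apply]
    exact Subgroup.noncommProd_mem _ _ fun i _ =>
      Subgroup.subset_closure (Set.mem_iUnion.2 ⟨i, v i, rfl⟩)
  · obtain ⟨i, u, rfl⟩ := Set.mem_iUnion.1 hx
    exact L.dia_mem_T i u

theorem σ_T {x : Γ} (hx : x ∈ L.T) : (σ x : GL D.Idx K) ∈ D.diagonalSubgroup K := by
  refine (show L.T ≤ ((D.diagonalSubgroup K).subgroupOf G1).comap σ from ?_) hx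
  rw [L.T_eq, Subgroup.closure_le]
  intro y hy
  obtain ⟨i, u, rfl⟩ := Set.mem_iUnion.1 hy
  exact L.σ_dia i u

/-- The lift of a reflection. -/
noncomputable def w (i : I) : Γ := L.ψ i slW

theorem moves_w (i : I) : (σ (L.w i) : GL D.Idx K) ∈ D.monomialSubgroup K ∧
    C.Moves (σ (L.w i) : GL D.Idx K) (g.wJ i) := by
  rw [w, L.σψ]; exact ⟨R.W_mono i, R.W_moves i⟩

theorem w_mul_self (i : I) : L.w i * L.w i ∈ L.T := by
  rw [w, ← map_mul, slW_mul_self]; exact L.dia_mem_T i _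

theorem w_conj_T (i : I) {y : Γ} (hy : y ∈ L.T) : L.w i * y * (L.w i)⁻¹ ∈ L.T := by
  refine (show L.T ≤ L.T.comap (MulAut.conj (L.w i)).toMonoidHom from ?_) hy
  rw [L.T_eq, Subgroup.closure_le]
  intro y hy
  obtain ⟨j, u, rfl⟩ := Set.mem_iUnion.1 hy
  show L.w i * L.ψ j (dia u) * (L.w i)⁻¹ ∈ Subgroup.closure _
  rw [← L.T_eq]
  obtain ⟨v, hv⟩ := L.tor_conj_ψ (L.σ_dia j u) i
  have e : L.w i * L.ψ j (dia u) * (L.w i)⁻¹ =
      L.ψ i (slW * (RegTorus.slDiag v slW)⁻¹) * L.ψ j (dia u) := by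
    rw [map_mul, map_inv, ← hv slW, w]; group
  rw [e, slW_conjDia]
  exact mul_mem (L.dia_mem_T i _) (L.dia_mem_T j u)

theorem w_normalizes (i : I) : L.w i ∈ Subgroup.normalizer (L.T : Set Γ) := by
  refine Subgroup.mem_normalizer_iff.2 fun x => ⟨L.w_conj_T i, fun hx => ?_⟩
  have hz := L.w_mul_self i
  have h2 := mul_mem (mul_mem (inv_mem hz) (L.w_conj_T i hx)) hz
  rwa [show (L.w i * L.w i)⁻¹ * (L.w i * (L.w i * x * (L.w i)⁻¹) * (L.w i)⁻¹) * (L.w i * L.w i) = x by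
    group] at h2

/-- The lift of a word in the reflections. -/
noncomputable def wd (P : List I) : Γ := (P.map L.w).prod

theorem wd_append (P Q : List I) : L.wd (P ++ Q) = L.wd P * L.wd Q := by
  simp [wd]

theorem wd_cons (a : I) (P : List I) : L.wd (a :: P) = L.w a * L.wd P := by simp [wd]

theorem wd_normalizes (P : List I) : L.wd P ∈ Subgroup.normalizer (L.T : Set Γ) :=
  list_prod_mem fun x hx => by
    obtain ⟨i, -, rfl⟩ := List.mem_map.1 hx
    exact L.w_normalizes i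

theorem wd_conj_T (P : List I) {y : Γ} (hy : y ∈ L.T) : L.wd P * y * (L.wd P)⁻¹ ∈ L.T :=
  (Subgroup.mem_normalizer_iff.1 (L.wd_normalizes P) y).1 hy

theorem wd_conj_T' (P : List I) {y : Γ} (hy : y ∈ L.T) : (L.wd P)⁻¹ * y * L.wd P ∈ L.T := by
  have := (Subgroup.mem_normalizer_iff.1 (inv_mem (L.wd_normalizes P)) y).1 hy
  rwa [inv_inv] at this

theorem moves_wd (P : List I) : (σ (L.wd P) : GL D.Idx K) ∈ D.monomialSubgroup K ∧
    C.Moves (σ (L.wd P) : GL D.Idx K) (RankOneData.wordP g P) := by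
  induction P with
  | nil =>
    rw [wd, RankOneData.wordP]
    simp only [List.map_nil, List.prod_nil, map_one, Subgroup.coe_one]
    exact ⟨one_mem _, moves_one_of_diag (one_mem _)⟩
  | cons a P ih =>
    rw [L.wd_cons, map_mul, Subgroup.coe_mul, RankOneData.wordP, List.map_cons, List.prod_cons]
    exact ⟨mul_mem (L.moves_w a).1 ih.1, ChevCore.Moves.mul C (L.moves_w a).2 ih.2⟩

/-- An element moving one pair of orbit groups onto another carries the lifted reflection. -/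
theorem cross {a b : I} (x : Γ) (hx : (σ x : GL D.Idx K) ∈ D.monomialSubgroup K)
    {v : Equiv.Perm (Fin D.nroots)} (hv : C.Moves (σ x : GL D.Idx K) v)
    (hpos : ∀ r : Fin D.nroots, (r : ℕ) ∈ inRoots C.R (O.J b) → (v r : ℕ) ∈ inRoots C.R (O.J a))
    (hneg : ∀ r : Fin D.nroots, (r : ℕ) ∈ negRootsIn C.R (O.J b) → (v r : ℕ) ∈ negRootsIn C.R (O.J a)) :
    ∃ τ ∈ L.T, x * L.w b * x⁻¹ = τ * L.w a := by
  have hX : ∀ t, x * L.ψ b (slX t) * x⁻¹ ∈ (L.ψ a).range := fun t => by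
    have hm : ((σ x * R.hom b (slX t) * (σ x)⁻¹ : ↥G1) : GL D.Idx K) ∈
        φ.fixU (inRoots C.R (O.J a)) :=
      Subgroup.mem_inf.2 ⟨C.conj_Ucl_le hv (T := C.Ucl (inRoots C.R (O.J a)))
        (fun r hr t => C.xGL_mem_Ucl (hpos r hr) t) _ (Subgroup.mem_inf.1 (R.X_in b t)).1,
        g.le_fixed (σ x * R.hom b (slX t) * (σ x)⁻¹).2⟩
    obtain ⟨t', ht'⟩ := R.X_surj a _ hm
    refine ⟨slX t', ?_⟩
    rw [L.ψ_slX, L.ψ_slX, conj_pLift L.sur L.cen L.coprime x (isPow_X b t),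
      show R.hom a (slX t') = σ x * R.hom b (slX t) * (σ x)⁻¹ from Subtype.ext ht']
  have hY : ∀ t, x * L.ψ b (slY t) * x⁻¹ ∈ (L.ψ a).range := fun t => by
    have hY0 : slY t = slW * slX (-t) * slW⁻¹ := by
      refine eq_mul_inv_of_mul_eq ?_
      ext i j
      fin_cases i <;> fin_cases j <;> simp [coe_slW', Matrix.mul_apply, Fin.sum_univ_two]
    have hn : ((σ x * R.hom b (slY t) * (σ x)⁻¹ : ↥G1) : GL D.Idx K) ∈
        C.Ucl (negRootsIn C.R (O.J a)) := by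
      refine C.conj_Ucl_le hv (T := C.Ucl (negRootsIn C.R (O.J a)))
        (fun r hr t => C.xGL_mem_Ucl (hneg r hr) t) _ ?_
      rw [hY0, map_mul, map_mul, map_inv, Subgroup.coe_mul, Subgroup.coe_mul, InvMemClass.coe_inv]
      exact C.conj_Ucl_le (R.W_moves b) (T := C.Ucl (negRootsIn C.R (O.J b)))
        (fun r hr t => C.xGL_mem_Ucl (wJ_neg_in g b hr) t) _ (Subgroup.mem_inf.1 (R.X_in b (-t))).1
    obtain ⟨s, hs⟩ := R.neg_surj a hn
    set y := x * L.ψ b (slY t) * x⁻¹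
    have hy : σ y = σ (L.ψ a s) := by
      rw [L.σψ, hs]; simp only [y, map_mul, map_inv, L.σψ]
    refine ⟨slW * slX (R.X_surj a _ (show ((R.hom a (slW⁻¹ * s * slW) : ↥G1) : GL D.Idx K) ∈
      φ.fixU (inRoots C.R (O.J a)) from ?_)).choose * slW⁻¹, ?_⟩
    · refine Subgroup.mem_inf.2 ⟨?_, g.le_fixed (R.hom a _).2⟩
      rw [map_mul, map_mul, map_inv, hs, Subgroup.coe_mul, Subgroup.coe_mul, InvMemClass.coe_inv]
      have hWi := ChevCore.Moves.inv C (R.W_mono a) (R.W_moves a)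
      rw [inv_eq_of_mul_eq_one_right (g.wJ_mul_self a)] at hWi
      have h := C.conj_Ucl_le hWi (T := C.Ucl (inRoots C.R (O.J a)))
        (fun r hr t => C.xGL_mem_Ucl (wJ_pos_of_negIn g a hr) t) _ hn
      rwa [inv_inv] at h
    · generalize_proofs hex
      have e := hex.choose_spec
      haveI := charE (p := p) (R := R) a
      haveI := charE (p := p) (R := R) b
      refine isPow_unique L.cen L.coprime ?_ ?_ ?_
      · exact ((isPow_slX p _).conj slW).map _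
      · exact ((isPow_slY p t).map (L.ψ b)).conj x
      · rw [hy, L.σψ, L.σψ, map_mul, map_mul, map_inv, Subtype.ext e, map_mul, map_mul, map_inv]
        group
  obtain ⟨s, hs⟩ : L.w b ∈ (L.ψ a).range.comap (MulAut.conj x).toMonoidHom :=
    RegTorus.slHom_mem (φ := L.ψ b) hX hY slW
  change L.ψ a s = x * L.w b * x⁻¹ at hs
  have hmono : (R.hom a s : GL D.Idx K) ∈ D.monomialSubgroup K ∧
      C.Moves (R.hom a s : GL D.Idx K) (v * g.wJ b * v⁻¹) := by
    rw [← L.σψ, hs, map_mul, map_mul, map_inv, Subgroup.coe_mul, Subgroup.coe_mul,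
      InvMemClass.coe_inv]
    exact ⟨mul_mem (mul_mem hx (L.moves_w b).1) (inv_mem hx),
      ChevCore.Moves.mul C (ChevCore.Moves.mul C hv (L.moves_w b).2) (ChevCore.Moves.inv C hx hv)⟩
  have hw := R.moves_of_mono a hmono.1 hmono.2 fun h => wJ_ne_one g b (conj_eq_one_iff.1 h)
  obtain ⟨u, hu⟩ := R.dia_of_diag a (s := s * slW⁻¹) (by
    rw [map_mul, map_inv, Subgroup.coe_mul, InvMemClass.coe_inv]
    refine C.mem_diagonal_of_moves_one (mul_mem hmono.1 (inv_mem (R.W_mono a))) ?_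
    have h2 := ChevCore.Moves.mul C hmono.2 (ChevCore.Moves.inv C (R.W_mono a) (R.W_moves a))
    rwa [hw, mul_inv_cancel] at h2)
  refine ⟨L.ψ a (dia u), L.dia_mem_T a u, ?_⟩
  rw [← hs, w, ← map_mul, ← hu, inv_mul_cancel_right]

/-- A word acting trivially on the roots lifts into the lifted torus. -/
theorem wd_mem_T : ∀ k : ℕ, ∀ P : List I, P.length ≤ k → RankOneData.wordP g P = 1 →
    L.wd P ∈ L.T := by
  intro k
  induction k with
  | zero =>
    intro P hP _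
    rw [List.length_eq_zero_iff.1 (Nat.le_zero.1 hP), wd, List.map_nil, List.prod_nil]
    exact one_mem _
  | succ k ih =>
    intro P hP h1
    rcases P.eq_nil_or_concat with rfl | ⟨Q, b, rfl⟩
    · rw [wd, List.map_nil, List.prod_nil]; exact one_mem _
    rw [List.concat_eq_append] at hP h1 ⊢
    obtain ⟨j, hj⟩ := O.nonempty b
    have hQ : RankOneData.wordP g Q = g.wJ b := by
      rw [RankOneData.wordP, List.map_append, List.prod_append, List.map_singleton,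
        List.prod_singleton] at h1
      rw [RankOneData.wordP, eq_inv_of_mul_eq_one_left h1,
        inv_eq_of_mul_eq_one_right (g.wJ_mul_self b)]
    obtain ⟨A, a, B, e, hpos, hneg⟩ := RankOneData.exists_delete g b Q
      ⟨j, hj, by rw [hQ]; exact g.wJ_neg b j hj⟩
    subst e
    obtain ⟨τ, hτ, hc'⟩ := L.cross (L.wd B) (L.moves_wd B).1 (L.moves_wd B).2 hpos hneg
    have hz : L.wd A * (L.w a * τ * (L.w a)⁻¹ * (L.w a * L.w a)) * (L.wd A)⁻¹ ∈ L.T :=
      L.wd_conj_T A (mul_mem (L.w_conj_T a hτ) (L.w_mul_self a))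
    have heq : L.wd (A ++ a :: B ++ [b]) =
        L.wd A * (L.w a * τ * (L.w a)⁻¹ * (L.w a * L.w a)) * (L.wd A)⁻¹ * L.wd (A ++ B) := by
      rw [L.wd_append, L.wd_append, L.wd_cons, L.wd_append, L.wd_cons b [],
        show L.wd ([] : List I) = 1 from rfl, mul_one, mul_assoc, mul_assoc (L.w a),
        show L.wd B * L.w b = L.wd B * L.w b * (L.wd B)⁻¹ * L.wd B by group, hc']
      group
    rw [heq]
    refine mul_mem hz (ih (A ++ B) (by simp at hP ⊢; omega) ?_)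
    have hm := L.moves_wd (A ++ a :: B ++ [b])
    rw [heq, map_mul, Subgroup.coe_mul, h1] at hm
    have h2 := ChevCore.Moves.mul C (moves_one_of_diag (L.σ_T hz)) (L.moves_wd (A ++ B)).2
    rw [one_mul] at h2
    exact ChevCore.Moves.unique C h2 hm.2

/-- The lifted monomial elements. -/
def N (L : LiftData R p σ) : Set Γ := {x | ∃ τ ∈ L.T, ∃ P, x = τ * L.wd P}

theorem w_mul_N (i : I) {x : Γ} (hx : x ∈ L.N) : L.w i * x ∈ L.N := by
  obtain ⟨τ, hτ, P, rfl⟩ := hx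
  exact ⟨L.w i * τ * (L.w i)⁻¹, L.w_conj_T i hτ, i :: P, by rw [L.wd_cons]; group⟩

theorem T_mul_N {t x : Γ} (ht : t ∈ L.T) (hx : x ∈ L.N) : t * x ∈ L.N := by
  obtain ⟨τ, hτ, P, rfl⟩ := hx
  exact ⟨t * τ, mul_mem ht hτ, P, by group⟩

theorem moves_N {x : Γ} (hx : x ∈ L.N) : (σ x : GL D.Idx K) ∈ D.monomialSubgroup K ∧
    ∃ v, C.Moves (σ x : GL D.Idx K) v ∧ Commute φ.ρ v := by
  obtain ⟨τ, hτ, P, rfl⟩ := hx
  rw [map_mul, Subgroup.coe_mul]
  refine ⟨mul_mem (diag_le_monomial (L.σ_T hτ)) (L.moves_wd P).1, _, ?_, RankOneData.wordP_commute g P⟩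
  have := ChevCore.Moves.mul C (moves_one_of_diag (L.σ_T hτ)) (L.moves_wd P).2
  rwa [one_mul] at this

/-- The lifted Bruhat decomposition. -/
def S (L : LiftData R p σ) : Set Γ :=
  {x | ∃ u ∈ L.U, ∃ n ∈ L.N, ∃ v ∈ L.U, x = u * n * v}

theorem U_mul_S {u x : Γ} (hu : u ∈ L.U) (hx : x ∈ L.S) : u * x ∈ L.S := by
  obtain ⟨a, ha, n, hn, b, hb, rfl⟩ := hx
  exact ⟨u * a, L.U_mul hu ha, n, hn, b, hb, by group⟩

theorem conj_T_U {t u : Γ} (ht : t ∈ L.T) (hu : u ∈ L.U) : t * u * t⁻¹ ∈ L.U := by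
  obtain ⟨a, ha, rfl⟩ := hu
  refine L.conj_U t (L.isPow_upper ha) (Subgroup.mem_subgroupOf.2 ?_)
  rw [Subgroup.coe_mul, Subgroup.coe_mul, InvMemClass.coe_inv]
  exact (Subgroup.mem_normalizer_iff.1 (C.diagonal_normalizes_pos (L.σ_T ht)) _).1 ha

theorem T_mul_S {t x : Γ} (ht : t ∈ L.T) (hx : x ∈ L.S) : t * x ∈ L.S := by
  obtain ⟨a, ha, n, hn, b, hb, rfl⟩ := hx
  exact ⟨t * a * t⁻¹, L.conj_T_U ht ha, t * n, L.T_mul_N ht hn, b, hb, by group⟩

theorem w_X_mem_S (i : I) (t : ↥(R.E i)) {n v : Γ} (hn : n ∈ L.N) (hv : v ∈ L.U) :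
    L.w i * (L.ψ i (slX t) * n * v) ∈ L.S := by
  rcases eq_or_ne t 0 with rfl | ht
  · rw [slX_zero, map_one, one_mul]
    exact ⟨1, L.one_mem_U, L.w i * n, L.w_mul_N i hn, v, hv, by group⟩
  obtain ⟨hnN, vn, hvn, hcomm⟩ := L.moves_N hn
  have hn' : C.Moves ((σ n⁻¹ : ↥G1) : GL D.Idx K) vn⁻¹ := by
    rw [map_inv, InvMemClass.coe_inv]; exact ChevCore.Moves.inv C hnN hvn
  have hc : Commute φ.ρ vn⁻¹ := hcomm.inv_right
  by_cases hex : ∃ j ∈ O.J i, D.IsNegRoot (vn⁻¹ ⟨D.simple j.val, C.R.simple_lt j⟩)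
  swap
  · push Not at hex
    have hU : n⁻¹ * L.ψ i (slX t) * n⁻¹⁻¹ ∈ L.U := by
      rw [L.ψ_slX]
      exact L.conj_moves_U n⁻¹ hn' (isPow_X i t) (Subgroup.mem_inf.1 (R.X_in i t)).1
        fun r hr => pos_of_supp C.hR hn'.1
          (fun j hj => (C.R.pos_or_neg (vn⁻¹ _).isLt).resolve_right (hex j hj)) hr
    exact ⟨1, L.one_mem_U, L.w i * n, L.w_mul_N i hn, n⁻¹ * L.ψ i (slX t) * n⁻¹⁻¹ * v,
      L.U_mul hU hv, by group⟩
  obtain ⟨j, hj, hjn⟩ := hex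
  have hneg := O.all_neg hc hj hjn
  have hU : (L.w i * n)⁻¹ * L.ψ i (slX (-t⁻¹)) * (L.w i * n)⁻¹⁻¹ ∈ L.U := by
    rw [L.ψ_slX]
    refine L.conj_moves_U _ (w := vn⁻¹ * (g.wJ i)⁻¹) ?_ (isPow_X i _)
      (Subgroup.mem_inf.1 (R.X_in i _)).1 fun r hr => ?_
    · rw [mul_inv_rev, map_mul, map_inv, map_inv, Subgroup.coe_mul, InvMemClass.coe_inv,
        InvMemClass.coe_inv]
      exact ChevCore.Moves.mul C (ChevCore.Moves.inv C hnN hvn)
        (ChevCore.Moves.inv C (L.moves_w i).1 (L.moves_w i).2)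
    · rw [inv_eq_of_mul_eq_one_right (g.wJ_mul_self i), Equiv.Perm.mul_apply]
      have hr' := wJ_neg_in g i hr
      set r' := g.wJ i r
      have h1 := neg_of_supp C.hR hn'.1 hneg (s := ⟨D.neg r', C.R.neg_lt r' r'.isLt⟩)
        ⟨(C.R.isPos_neg_iff r'.isLt).2 hr'.1, fun m hm => by
          rw [C.R.α_neg _ r'.isLt, Pi.neg_apply, hr'.2 m hm, neg_zero]⟩
      rwa [C.hR.apply_neg hn'.1 r', C.R.isNeg_neg_iff (vn⁻¹ r').isLt] at h1
  have hX : L.ψ i (slX (-t⁻¹)) ∈ L.U :=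
    ⟨R.hom i (slX (-t⁻¹)), Subgroup.mem_subgroupOf.2 (R.hom_X_mem_U i _), L.ψ_slX i _⟩
  refine ⟨L.ψ i (slX (-t⁻¹)), hX,
    L.ψ i (dia (Units.mk0 t⁻¹ (inv_ne_zero ht))) * (L.w i * (L.w i * n)),
    L.T_mul_N (L.dia_mem_T i _) (L.w_mul_N i (L.w_mul_N i hn)),
    (L.w i * n)⁻¹ * L.ψ i (slX (-t⁻¹)) * (L.w i * n)⁻¹⁻¹ * v, L.U_mul hU hv, ?_⟩
  have e := congrArg (L.ψ i) (slW_conj_slX ht)
  simp only [map_mul, map_inv] at e
  rw [show L.w i * (L.ψ i (slX t) * n * v) = L.ψ i slW * L.ψ i (slX t) * (L.ψ i slW)⁻¹ *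
    (L.w i * n * v) by rw [w]; group, e, w]
  group

theorem w_mul_S (i : I) {x : Γ} (hx : x ∈ L.S) : L.w i * x ∈ L.S := by
  obtain ⟨u, hu, n, hn, v, hv, rfl⟩ := hx
  obtain ⟨a, ha, rfl⟩ := hu
  obtain ⟨a1, ha1, c1, hc1, e⟩ := exists_split C (O.J i) (inv_mem (Subgroup.mem_subgroupOf.1 ha))
  obtain ⟨haf, -⟩ := O.split_fixed i ha1 hc1 (e ▸ g.le_fixed (inv_mem a.2))
  obtain ⟨t, ht⟩ := R.X_surj i a1⁻¹ (inv_mem (Subgroup.mem_inf.2 ⟨ha1, haf⟩))
  set A := R.hom i (slX t)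
  set Cc : ↥G1 := a * A⁻¹ with hC
  have hCe : (Cc : GL D.Idx K) = c1⁻¹ := by
    rw [hC, Subgroup.coe_mul, InvMemClass.coe_inv, ht, ← inv_inv (a : GL D.Idx K), e]; group
  have hAU : A ∈ R.upper := Subgroup.mem_subgroupOf.2 (R.hom_X_mem_U i t)
  have hCU : Cc ∈ R.upper := mul_mem ha (inv_mem hAU)
  have hge : pLift p σ a = pLift p σ Cc * L.ψ i (slX t) := by
    rw [L.ψ_slX, ← pLift_mul L.sur L.cen L.coprime L.isPGroup_upper hCU hAU, hC, inv_mul_cancel_right]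
  have hout : L.w i * pLift p σ Cc * (L.w i)⁻¹ ∈ L.U :=
    L.conj_moves_U _ (L.moves_w i).2 (L.isPow_upper hCU) (S := outRoots C.R (O.J i))
      (by rw [hCe]; exact inv_mem hc1) fun r hr => (out_weyl C.hR (g.wJ_mem i) hr).1
  have h := L.U_mul_S hout (L.w_X_mem_S i t hn hv)
  rw [hge]
  convert h using 1
  group

/-- The subgroup generated by the lifts. -/
noncomputable def gen : Subgroup Γ := Subgroup.closure (L.U ∪ Set.range L.w ∪ (L.T : Set Γ))

theorem gen_le_S : ∀ x ∈ L.gen, x ∈ L.S := by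
  intro x hx
  induction hx using Subgroup.closure_induction_left with
  | one =>
    exact ⟨1, L.one_mem_U, 1, ⟨1, one_mem _, [], by simp [wd]⟩, 1, L.one_mem_U, by simp⟩
  | mul_left x hx y hy ih =>
    rcases hx with (hx | ⟨i, rfl⟩) | hx
    exacts [L.U_mul_S hx ih, L.w_mul_S i ih, L.T_mul_S hx ih]
  | inv_mul_cancel x hx y hy ih =>
    rcases hx with (hx | ⟨i, rfl⟩) | hx
    · exact L.U_mul_S (L.U_inv hx) ih
    · have := L.w_mul_S i (L.T_mul_S (inv_mem (L.w_mul_self i)) ih)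
      rwa [show L.w i * ((L.w i * L.w i)⁻¹ * y) = (L.w i)⁻¹ * y by group] at this
    · exact L.T_mul_S (inv_mem hx) ih

theorem gen_inter {z : Γ} (hz : z ∈ L.gen) (h1 : σ z = 1) : z ∈ L.T := by
  obtain ⟨u, hu, n, hn, v, hv, rfl⟩ := L.gen_le_S z hz
  obtain ⟨a, ha, rfl⟩ := hu
  obtain ⟨b, hb, rfl⟩ := hv
  rw [map_mul, map_mul, (pLift_spec L.sur (L.isPow_upper ha)).2,
    (pLift_spec L.sur (L.isPow_upper hb)).2] at h1
  have hσn : σ n = a⁻¹ * b⁻¹ := by rw [eq_inv_mul_iff_mul_eq, eq_inv_of_mul_eq_one_left h1]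
  have hw : (σ n : GL D.Idx K) ∈ D.posUnipotent K := by
    have := mul_mem (inv_mem ha) (inv_mem hb)
    rw [← hσn] at this
    exact this
  have hdiag : (σ n : GL D.Idx K) ∈ D.diagonalSubgroup K :=
    C.borel_inf_monomial ▸ Subgroup.mem_inf.2
      ⟨le_sup_left (b := D.diagonalSubgroup K) hw, (L.moves_N hn).1⟩
  have hbot : σ n = 1 := Subtype.ext ((Subgroup.eq_bot_iff_forall _).1 C.posUnipotent_inf_diagonal _
    (Subgroup.mem_inf.2 ⟨hw, hdiag⟩))
  obtain ⟨τ, hτ, P, rfl⟩ := hn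
  have hP : RankOneData.wordP g P = 1 := by
    have h2 := ChevCore.Moves.mul C (moves_one_of_diag (L.σ_T hτ)) (L.moves_wd P).2
    rw [one_mul, ← Subgroup.coe_mul, ← map_mul] at h2
    exact ChevCore.Moves.unique C h2 (moves_one_of_diag hdiag)
  rw [hbot, mul_one] at h1
  have hu1 : pLift p σ a * pLift p σ b = 1 := by
    rw [← pLift_mul L.sur L.cen L.coprime L.isPGroup_upper ha hb, h1,
      pLift_one L.sur L.cen L.coprime]
  have hzc := CfsgLib.Schur.ker_commute L.cen hbot (pLift p σ b)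
  rw [mul_assoc, hzc.eq, ← mul_assoc, hu1, one_mul]
  exact mul_mem hτ (L.wd_mem_T P.length P le_rfl hP)

theorem gen_surjective : L.gen.map σ = ⊤ := by
  set H := L.gen.map σ
  have hU : ∀ a : ↥G1, (a : GL D.Idx K) ∈ D.posUnipotent K → a ∈ H := fun a ha =>
    ⟨pLift p σ a, Subgroup.subset_closure (Or.inl (Or.inl ⟨a, ha, rfl⟩)),
      (pLift_spec L.sur (L.isPow_upper (show a ∈ R.upper from ha))).2⟩
  have hT : (D.diagonalSubgroup K).subgroupOf G1 ≤ H := by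
    refine R.tor_gen.trans ((Subgroup.closure_le _).2 fun y hy => ?_)
    obtain ⟨i, u, rfl⟩ := Set.mem_iUnion.1 hy
    exact ⟨L.ψ i (dia u), Subgroup.subset_closure (Or.inr (L.dia_mem_T i u)), L.σψ i _⟩
  have hN : g.twist.N1 ≤ H.map G1.subtype := by
    rw [← g.reflections.N1_eq]
    refine sup_le ((Subgroup.closure_le _).2 ?_) fun h hh => ⟨⟨h, hh.2⟩, hT hh.1, rfl⟩
    rintro _ ⟨i, rfl⟩
    obtain ⟨hWm, hWv⟩ := L.moves_w i
    set h0 : ↥G1 := σ (L.w i) * (⟨g.s i, g.s_mem i⟩ : ↥G1)⁻¹ with hh0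
    have hd : h0 ∈ (D.diagonalSubgroup K).subgroupOf G1 := by
      rw [Subgroup.mem_subgroupOf, hh0, Subgroup.coe_mul, InvMemClass.coe_inv]
      refine C.mem_diagonal_of_moves_one (mul_mem hWm (inv_mem (g.s_mem_N i))) ?_
      have := ChevCore.Moves.mul C hWv (ChevCore.Moves.inv C (g.s_mem_N i) (g.s_moves i))
      rwa [mul_inv_cancel] at this
    refine ⟨h0⁻¹ * σ (L.w i), mul_mem (inv_mem (hT hd))
      ⟨L.w i, Subgroup.subset_closure (Or.inl (Or.inr ⟨i, rfl⟩)), rfl⟩, ?_⟩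
    rw [hh0]; simp; rfl
  refine eq_top_iff.2 fun x _ => ?_
  obtain ⟨u, hu, n, hn, v, hv, -, e⟩ := g.twist.nf x.2
  obtain ⟨n', hn', e'⟩ := hN hn
  have ex : x = (⟨u, hu.2⟩ : ↥G1) * n' * ⟨v, hv.2⟩ := Subtype.ext (by
    rw [Subgroup.coe_mul, Subgroup.coe_mul, show (n' : GL D.Idx K) = n from e']; exact e)
  rw [ex]
  exact mul_mem (mul_mem (hU _ hu.1) hn') (hU _ hv.1)

/-- The kernel of a stem extension is an image of the kernel of the parametrisation of the torus. -/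
theorem exists_onto_ker (hder : σ.ker ≤ commutator Γ) :
    ∃ f : ↥(R.diaHom).ker →* ↥σ.ker, Function.Surjective f := by
  have hdec : ∀ x : Γ, ∃ a ∈ L.gen, ∃ z ∈ Subgroup.center Γ, x = a * z := fun x => by
    have hx : σ x ∈ L.gen.map σ := L.gen_surjective ▸ Subgroup.mem_top _
    obtain ⟨a, ha, e⟩ := hx
    exact ⟨a, ha, a⁻¹ * x, L.cen (by rw [MonoidHom.mem_ker, map_mul, map_inv, e, inv_mul_cancel]),
      (mul_inv_cancel_left a x).symm⟩
  have hcomm : commutator Γ ≤ L.gen := by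
    refine Subgroup.commutator_le.2 fun x _ y _ => ?_
    obtain ⟨a, ha, z, hz, rfl⟩ := hdec x
    obtain ⟨b, hb, v, hv, rfl⟩ := hdec y
    have hz' := Subgroup.mem_center_iff.1 hz
    have hv' := Subgroup.mem_center_iff.1 hv
    rw [commutatorElement_def, show a * z * (b * v) * (a * z)⁻¹ * (b * v)⁻¹ =
      a * (z * (b * v) * z⁻¹) * a⁻¹ * (v⁻¹ * b⁻¹) by group, ← hz' (b * v), mul_inv_cancel_right,
      show a * (b * v) * a⁻¹ * (v⁻¹ * b⁻¹) = a * b * (v * a⁻¹ * v⁻¹) * b⁻¹ by group, ← hv' a⁻¹,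
      mul_inv_cancel_right]
    exact mul_mem (mul_mem (mul_mem ha hb) (inv_mem ha)) (inv_mem hb)
  refine ⟨(L.Ψ.comp R.diaHom.ker.subtype).codRestrict σ.ker fun v => ?_, fun z => ?_⟩
  · rw [MonoidHom.mem_ker, MonoidHom.comp_apply, L.σ_Ψ]
    exact v.2
  · obtain ⟨v, hv⟩ := L.gen_inter (hcomm (hder z.2)) z.2
    refine ⟨⟨v, ?_⟩, Subtype.ext hv⟩
    rw [MonoidHom.mem_ker, ← L.σ_Ψ, hv]
    exact z.2

end LiftData

end CfsgLib.TwistMult
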