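import Cfsg.Agent.Lib.Schur.Criteria

/-!
# Elements of prime-power order in a central extension with kernel of coprime order

They lift uniquely, the lifts multiply on every p-subgroup, and a homomorphism from a group
generated by p-elements without multiplier away from p lifts uniquely.
-/

set_option autoImplicit false
set_option linter.unusedSectionVars false

namespace CfsgLib.TwistMult

open Subgroup

universe u

/-- Having order a power of `p`. -/
def IsPow (p : ℕ) {G : Type*} [Monoid G] (g : G) : Prop := ∃ n : ℕ, g ^ p ^ n = 1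

theorem IsPow.inv {p : ℕ} {G : Type*} [Group G] {g : G} (h : IsPow p g) : IsPow p g⁻¹ := by
  obtain ⟨n, hn⟩ := h; exact ⟨n, by rw [inv_pow, hn, inv_one]⟩

theorem IsPow.map {p : ℕ} {G H : Type*} [Monoid G] [Monoid H] (f : G →* H) {g : G}
    (h : IsPow p g) : IsPow p (f g) := by
  obtain ⟨n, hn⟩ := h; exact ⟨n, by rw [← map_pow, hn, map_one]⟩

theorem IsPow.conj {p : ℕ} {G : Type*} [Group G] {g : G} (x : G) (h : IsPow p g) :
    IsPow p (x * g * x⁻¹) :=
  h.map (MulAut.conj x).toMonoidHom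

variable {p : ℕ} [hp : Fact p.Prime] {Γ : Type u} [Group Γ] [Finite Γ] {G : Type u} [Group G] {σ : Γ →* G}
  (hsur : Function.Surjective σ) (hc : σ.ker ≤ center Γ) (hco : ¬ p ∣ Nat.card ↥σ.ker)

include hco in
omit [Finite Γ] in
theorem eq_one_of_isPow {z : Γ} (hz : σ z = 1) (h : IsPow p z) : z = 1 := by
  obtain ⟨n, hn⟩ := h
  have h1 : (⟨z, hz⟩ : σ.ker) ^ p ^ n = 1 := Subtype.ext (by simpa using hn)
  have h2 : orderOf (⟨z, hz⟩ : σ.ker) = 1 := by
    refine Nat.eq_one_of_dvd_coprimes ?_ (orderOf_dvd_natCard _) (orderOf_dvd_of_pow_eq_one h1)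
    exact (Nat.Coprime.pow_left n ((hp.out.coprime_iff_not_dvd).2 hco)).symm
  exact congrArg Subtype.val (orderOf_eq_one_iff.1 h2)

include hc hco in
omit [Finite Γ] in
theorem isPow_unique {x y : Γ} (hx : IsPow p x) (hy : IsPow p y) (e : σ x = σ y) : x = y := by
  have hz : σ (x⁻¹ * y) = 1 := by rw [map_mul, map_inv, e, inv_mul_cancel]
  refine inv_mul_eq_one.1 (eq_one_of_isPow hco hz ?_)
  obtain ⟨a, ha⟩ := hx
  obtain ⟨b, hb⟩ := hy
  refine ⟨a + b, ?_⟩
  have hyx : y = x * (x⁻¹ * y) := by group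
  have hcm : Commute (x⁻¹ * y) x := CfsgLib.Schur.ker_commute hc hz x
  have h1 : y ^ p ^ (a + b) = x ^ p ^ (a + b) * (x⁻¹ * y) ^ p ^ (a + b) := by
    conv_lhs => rw [hyx]
    exact hcm.symm.mul_pow _
  rw [pow_add, pow_mul x, ha, one_pow, one_mul, mul_comm (p ^ a), pow_mul y, hb, one_pow] at h1
  rw [pow_add, mul_comm (p ^ a)]
  exact h1.symm

include hsur in
theorem exists_isPow_lift {g : G} (hg : IsPow p g) : ∃ x : Γ, IsPow p x ∧ σ x = g := by
  obtain ⟨x, rfl⟩ := hsur g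
  obtain ⟨n, hn⟩ := hg
  obtain ⟨a, d, hd, e⟩ := Nat.exists_eq_pow_mul_and_not_dvd (orderOf_pos x).ne' p hp.out.ne_one
  have hcop : Nat.Coprime d (orderOf (σ x)) :=
    Nat.Coprime.coprime_dvd_right (orderOf_dvd_of_pow_eq_one hn)
      (Nat.Coprime.pow_left n (hp.out.coprime_iff_not_dvd.2 hd)).symm
  obtain ⟨k, hk⟩ := exists_pow_eq_self_of_coprime hcop
  refine ⟨(x ^ d) ^ k, ⟨a, ?_⟩, by rw [map_pow, map_pow, hk]⟩
  rw [← pow_mul, ← pow_mul, show d * (k * p ^ a) = p ^ a * d * k by ring, ← e, pow_mul,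
    pow_orderOf_eq_one, one_pow]

open Classical in
/-- The lift of p-power order. -/
noncomputable def pLift (p : ℕ) (σ : Γ →* G) (g : G) : Γ :=
  if h : ∃ x : Γ, IsPow p x ∧ σ x = g then h.choose else 1

include hsur in
theorem pLift_spec {g : G} (hg : IsPow p g) : IsPow p (pLift p σ g) ∧ σ (pLift p σ g) = g := by
  have h := exists_isPow_lift hsur hg
  rw [pLift, dif_pos h]
  exact h.choose_spec

include hsur hc hco in
theorem pLift_eq {x : Γ} {g : G} (hx : IsPow p x) (e : σ x = g) : pLift p σ g = x := by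
  have hg : IsPow p g := e ▸ hx.map σ
  obtain ⟨h1, h2⟩ := pLift_spec hsur hg
  exact isPow_unique hc hco h1 hx (h2.trans e.symm)

include hsur hc hco in
theorem conj_pLift (x : Γ) {g : G} (hg : IsPow p g) :
    x * pLift p σ g * x⁻¹ = pLift p σ (σ x * g * (σ x)⁻¹) := by
  obtain ⟨h1, h2⟩ := pLift_spec hsur hg
  exact (pLift_eq hsur hc hco (h1.conj x) (by rw [map_mul, map_mul, map_inv, h2])).symm

include hsur hc hco in
theorem pLift_one : pLift p σ (1 : G) = 1 :=
  pLift_eq hsur hc hco ⟨0, one_pow _⟩ (map_one σ)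

include hsur hc hco in
/-- On a p-subgroup the lifts multiply. -/
theorem pLift_mul {X : Subgroup G} (hX : IsPGroup p ↥X) {g h : G} (hg : g ∈ X) (hh : h ∈ X) :
    pLift p σ (g * h) = pLift p σ g * pLift p σ h := by
  have two : ∀ {g}, g ∈ X → IsPow p g := fun {g} hg => by
    obtain ⟨n, hn⟩ := hX ⟨g, hg⟩
    exact ⟨n, congrArg Subtype.val hn⟩
  set f : ↥(X.comap σ) →* ↥X := σ.subgroupComap X
  have hf : Function.Surjective f := fun ⟨g, hg⟩ => by
    obtain ⟨x, rfl⟩ := hsur g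
    exact ⟨⟨x, hg⟩, rfl⟩
  have : Finite ↥X := Finite.of_surjective f hf
  obtain ⟨T, hT⟩ := (hX.to_subgroup (H := (⊤ : Subgroup ↥X))).exists_le_sylow
  obtain ⟨S, hS⟩ := CfsgLib.Schur.exists_sylow_map_eq hf T
  set M : Subgroup Γ := (S : Subgroup ↥(X.comap σ)).map (X.comap σ).subtype
  have key : ∀ {g}, g ∈ X → pLift p σ g ∈ M ∧ ∀ x ∈ M, σ x = g → pLift p σ g = x := by
    intro g hg
    have h2 : ∀ x ∈ M, σ x = g → pLift p σ g = x := by
      rintro _ ⟨y, hy, rfl⟩ e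
      obtain ⟨n, hn⟩ := S.2 ⟨y, hy⟩
      exact pLift_eq hsur hc hco
        ⟨n, congrArg (fun w : ↥(S : Subgroup ↥(X.comap σ)) => ((w : ↥(X.comap σ)) : Γ)) hn⟩ e
    obtain ⟨y, hy, hye⟩ : (⟨g, hg⟩ : ↥X) ∈ (S : Subgroup ↥(X.comap σ)).map f := by
      rw [hS]; exact hT (mem_top _)
    have hm : (y : Γ) ∈ M := ⟨y, hy, rfl⟩
    exact ⟨by rw [h2 _ hm (congrArg Subtype.val hye)]; exact hm, h2⟩
  exact (key (mul_mem hg hh)).2 _ (mul_mem (key hg).1 (key hh).1)
    (by rw [map_mul, (pLift_spec hsur (two hg)).2, (pLift_spec hsur (two hh)).2])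

include hsur hc hco in
theorem pLift_inv {g : G} (hg : IsPow p g) : pLift p σ g⁻¹ = (pLift p σ g)⁻¹ := by
  obtain ⟨h1, h2⟩ := pLift_spec hsur hg
  exact pLift_eq hsur hc hco h1.inv (by rw [map_inv, h2])

include hsur hc hco in
/-- A homomorphism out of a group generated by `p`-elements without multiplier away from `p`
lifts, the lift agreeing with the lifts on all `p`-elements. -/
theorem exists_homLift {S : Type u} [Group S] [Finite S] (φ : S →* G) {X : Set S}
    (hgen : Subgroup.closure X = ⊤) (hX : ∀ x ∈ X, IsPow p x)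
    (hS : ∀ r : ℕ, r.Prime → r ≠ p → CfsgLib.Schur.NoMultiplierAt r S) :
    ∃ ψ : S →* Γ, (∀ s, σ (ψ s) = φ s) ∧ ∀ x, IsPow p x → ψ x = pLift p σ (φ x) := by
  classical
  let A : Set (S × Γ) := (fun x => (x, pLift p σ (φ x))) '' X
  let E : Subgroup (S × Γ) := Subgroup.closure A
  let f : ↥E →* S := (MonoidHom.fst S Γ).comp E.subtype
  have hE : ∀ e ∈ E, σ e.2 = φ e.1 := fun e he => by
    refine Subgroup.closure_induction (p := fun e _ => σ e.2 = φ e.1) ?_ (by simp) ?_ ?_ he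
    · rintro _ ⟨x, hx, rfl⟩
      exact (pLift_spec hsur ((hX x hx).map φ)).2
    · intro a b _ _ ha hb
      rw [Prod.snd_mul, Prod.fst_mul, map_mul, map_mul, ha, hb]
    · intro a _ ha
      rw [Prod.snd_inv, Prod.fst_inv, map_inv, map_inv, ha]
  have hsf : Function.Surjective f := by
    rw [← MonoidHom.range_eq_top, eq_top_iff, ← hgen, Subgroup.closure_le]
    intro x hx
    exact ⟨⟨(x, pLift p σ (φ x)), Subgroup.subset_closure ⟨x, hx, rfl⟩⟩, rfl⟩
  have hker : ∀ e : ↥E, f e = 1 → σ (e : S × Γ).2 = 1 := fun e he => by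
    rw [hE e e.2]
    exact (congrArg φ he).trans (map_one φ)
  have hfc : f.ker ≤ center ↥E := fun e he => mem_center_iff.2 fun y => Subtype.ext (Prod.ext
    (by
      show (y : S × Γ).1 * (e : S × Γ).1 = (e : S × Γ).1 * (y : S × Γ).1
      rw [show (e : S × Γ).1 = 1 from MonoidHom.mem_ker.1 he, one_mul, mul_one])
    (CfsgLib.Schur.ker_commute hc (hker e (MonoidHom.mem_ker.1 he)) (y : S × Γ).2).symm.eq)
  set N := Nat.card ↥σ.ker
  have hpowN : ∀ e : ↥E, f e = 1 → e ^ N = 1 := fun e he => Subtype.ext (Prod.ext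
    (by
      show ((e : S × Γ) ^ N).1 = 1
      rw [Prod.pow_fst, show (e : S × Γ).1 = 1 from he, one_pow])
    (by
      show ((e : S × Γ) ^ N).2 = 1
      rw [Prod.pow_snd]
      exact congrArg Subtype.val (pow_card_eq_one' (x := (⟨_, hker e he⟩ : ↥σ.ker)))))
  have hfd : f.ker ≤ commutator ↥E := by
    intro z hz
    set π : ↥E →* Abelianization ↥E := Abelianization.of
    have hpow : ∀ y : ↥E, IsPow p (π y) := fun y => by
      refine Subgroup.closure_induction (p := fun y hy => IsPow p (π ⟨y, hy⟩)) ?_ ?_ ?_ ?_ y.2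
      · rintro _ ⟨x, hx, rfl⟩
        obtain ⟨a, ha⟩ := hX x hx
        obtain ⟨b, hb⟩ := (pLift_spec hsur ((hX x hx).map φ)).1
        refine IsPow.map π ⟨a + b, Subtype.ext (Prod.ext ?_ ?_)⟩
        · show ((x, pLift p σ (φ x)) ^ p ^ (a + b)).1 = 1
          rw [Prod.pow_fst, pow_add, pow_mul, ha, one_pow]
        · show ((x, pLift p σ (φ x)) ^ p ^ (a + b)).2 = 1
          rw [Prod.pow_snd, pow_add, mul_comm (p ^ a), pow_mul, hb, one_pow]
      · exact ⟨0, by
          rw [show (⟨1, one_mem E⟩ : ↥E) = 1 from rfl, map_one, one_pow]⟩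
      · rintro a b ha hb ⟨n, hn⟩ ⟨k, hk⟩
        refine ⟨n + k, ?_⟩
        rw [show (⟨a * b, mul_mem ha hb⟩ : ↥E) = ⟨a, ha⟩ * ⟨b, hb⟩ from rfl, map_mul, mul_pow,
          pow_add, pow_mul, hn, one_pow, one_mul, mul_comm (p ^ n), pow_mul, hk, one_pow]
      · intro a ha h
        rw [show (⟨a⁻¹, inv_mem ha⟩ : ↥E) = ⟨a, ha⟩⁻¹ from rfl, map_inv]
        exact h.inv
    rw [← Abelianization.ker_of (G := ↥E), MonoidHom.mem_ker]
    obtain ⟨n, hn⟩ := hpow z
    have hzN : π z ^ N = 1 := by rw [← map_pow, hpowN z (MonoidHom.mem_ker.1 hz), map_one]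
    have hg : Nat.gcd (p ^ n) N = 1 :=
      (Nat.Coprime.pow_left n (hp.out.coprime_iff_not_dvd.2 hco)).gcd_eq_one
    have := pow_gcd_eq_one.mpr ⟨hn, hzN⟩
    rwa [hg, pow_one] at this
  have hinj : Function.Injective f := by
    rw [← MonoidHom.ker_eq_bot_iff]
    by_contra hne
    have hcard : Nat.card ↥f.ker ≠ 1 := fun h => hne (Subgroup.eq_bot_of_card_eq _ h)
    obtain ⟨r, hr, hdvd⟩ := Nat.exists_prime_and_dvd hcard
    have : Fact r.Prime := ⟨hr⟩
    obtain ⟨w, hw⟩ := exists_prime_orderOf_dvd_card' r hdvd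
    have hwr : (w : ↥E) ^ r = 1 := by
      rw [← SubmonoidClass.coe_pow, ← hw, pow_orderOf_eq_one]; rfl
    have hrp : r ≠ p := by
      rintro rfl
      refine hco ?_
      have h1 : orderOf (w : ↥E) ∣ N :=
        orderOf_dvd_of_pow_eq_one (hpowN _ (MonoidHom.mem_ker.1 w.2))
      rw [Subgroup.orderOf_coe, hw] at h1
      exact h1
    have h := hS r hr hrp ↥E f ⟨hsf, hfc, hfd⟩ w w.2 hwr
    rw [← Subgroup.orderOf_coe, h, orderOf_one] at hw
    exact hr.one_lt.ne hw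
  let e : ↥E ≃* S := MulEquiv.ofBijective f ⟨hinj, hsf⟩
  let ψ : S →* Γ := ((MonoidHom.snd S Γ).comp E.subtype).comp e.symm.toMonoidHom
  have hψ : ∀ s, σ (ψ s) = φ s := fun s => by
    have h1 := hE _ (e.symm s).2
    rwa [show ((e.symm s : ↥E) : S × Γ).1 = s from e.apply_symm_apply s] at h1
  exact ⟨ψ, hψ, fun x hx => (pLift_eq hsur hc hco (hx.map ψ) (hψ x)).symm⟩

end CfsgLib.TwistMult
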