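import Cfsg.Agent.Lib.Schur.SLTwo

/-!
# The multiplier of SL₂ away from the characteristic

The argument of `Schur.hasCyclicSchurMultiplier_slTwo` at primes other than the characteristic,
which needs no restriction on the field.
-/

set_option autoImplicit false

namespace CfsgLib.TwistMult

open Subgroup Cfsg CfsgLib.Schur
open scoped Matrix

universe u

variable {F : Type u} [Field F] [Fintype F]

theorem noMultiplierAt_slTwo_cross (p : ℕ) [hchar : CharP F p] (l : ℕ) (hl : l.Prime) (hlp : l ≠ p) :
    NoMultiplierAt l (Matrix.SpecialLinearGroup (Fin 2) F) := by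
  classical
  have : Fact l.Prime := ⟨hl⟩
  obtain ⟨n, hp, hq⟩ := FiniteField.card F p
  have hlq : ¬ l ∣ Fintype.card F := fun h =>
    hlp ((Nat.prime_dvd_prime_iff_eq hl hp).mp (hl.dvd_of_dvd_pow (hq ▸ h)))
  have hcard := natCard_slTwo (F := F)
  have h1 := Fintype.one_lt_card (α := F)
  obtain ⟨g, hg⟩ := exists_split_torus (F := F)
  obtain ⟨c, hc, hcw⟩ := exists_nonsplit_torus (F := F)
  set q := Fintype.card F with hqdef
  by_cases hl2 : l = 2
  · subst hl2
    have h2 : (2 : F) ≠ 0 := by
      intro h0
      have : CharP F 2 := CharTwo.of_one_ne_zero_of_two_eq_zero one_ne_zero h0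
      exact hlp (CharP.eq F this hchar)
    have hodd : q % 2 = 1 := by omega
    rcases (show q % 4 = 1 ∨ q % 4 = 3 by omega) with h | h
    · obtain ⟨k, hk⟩ : ∃ k, q = 4 * k + 1 := ⟨q / 4, by omega⟩
      let w : Matrix.SpecialLinearGroup (Fin 2) F :=
        ⟨!![0, 1; -1, 0], by simp [Matrix.det_fin_two]⟩
      have hwc : (w : Matrix (Fin 2) (Fin 2) F) = !![0, 1; -1, 0] := rfl
      refine noMultiplierAt_two_of_inverted (slDiag g) w (2 * k) (q * (2 * k + 1))
        (by omega) ?_ ?_ ?_ ?_
      · rw [mul_inv_eq_iff_eq_mul, ← map_inv]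
        refine Subtype.ext ?_
        simp only [Matrix.SpecialLinearGroup.coe_mul, slDiag_coe, hwc]
        ext i j
        fin_cases i <;> fin_cases j <;> simp
      · rw [← map_pow]
        have hsq : (g ^ (2 * k)) ^ 2 = 1 := by
          rw [← pow_mul, show 2 * k * 2 = q - 1 by omega, ← hg,
            orderOf_injective _ slDiag_injective, pow_orderOf_eq_one]
        have hne : g ^ (2 * k) ≠ 1 := fun h3 => by
          have := orderOf_le_of_pow_eq_one (by omega) h3
          rw [← orderOf_injective _ slDiag_injective] at this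
          omega
        have hm1 : ((g ^ (2 * k) : Fˣ) : F) = -1 :=
          (sq_eq_one_iff.mp (congrArg Units.val hsq)).resolve_left
            (fun h3 => hne (Units.ext h3))
        refine Subtype.ext ?_
        simp only [Matrix.SpecialLinearGroup.coe_pow, slDiag_coe, hwc, Units.val_inv_eq_inv_val,
          hm1]
        simp [pow_two]
      · intro h3
        rcases Nat.prime_two.dvd_mul.mp h3 with h3 | h3 <;> omega
      · rw [hcard, hg, show q + 1 = 2 * (2 * k + 1) by omega]; ring
    · obtain ⟨k, hk⟩ : ∃ k, q = 4 * k + 3 := ⟨q / 4, by omega⟩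
      obtain ⟨w, hw, hw2⟩ := hcw h2 (2 * k + 2) (by omega)
      refine noMultiplierAt_two_of_inverted c w (2 * k + 2) (q * (2 * k + 1))
        (by omega) hw hw2 ?_ ?_
      · intro h3
        rcases Nat.prime_two.dvd_mul.mp h3 with h3 | h3 <;> omega
      · rw [hcard, hc, show q - 1 = 2 * (2 * k + 1) by omega]; ring
  · by_cases hplus : l ∣ q + 1
    · refine noMultiplierAt_of_cyclic_element c
        (not_dvd_index_zpowers c (d := q * (q - 1)) (by rw [hcard, hc]; ring) ?_)
      intro h3
      rcases hl.dvd_mul.mp h3 with h3 | h3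
      · exact hlq h3
      · have := Nat.dvd_sub hplus h3
        rw [show q + 1 - (q - 1) = 2 by omega] at this
        exact hl2 ((Nat.prime_dvd_prime_iff_eq hl Nat.prime_two).mp this)
    · refine noMultiplierAt_of_cyclic_element (slDiag g)
        (not_dvd_index_zpowers (slDiag g) (d := q * (q + 1)) (by rw [hcard, hg]; ring) ?_)
      intro h3
      rcases hl.dvd_mul.mp h3 with h3 | h3
      · exact hlq h3
      · exact hplus h3

end CfsgLib.TwistMult
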