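import Cfsg.Agent.Lib.TwistMult.PLift
import Cfsg.Agent.Lib.TwistMult.SLTwoCross
import Cfsg.Agent.Lib.RegTorus.RankOneMap
import Cfsg.Agent.Lib.Twisted.Orbits
import Cfsg.Agent.Lib.TwistAut.Base

/-!
# Rank-one data of a twisted group

For every orbit of fundamental roots a homomorphism out of SL₂ over a subfield onto the pair of
opposite orbit groups.
-/

set_option autoImplicit false
set_option linter.unusedSectionVars false

namespace CfsgLib.TwistMult

open Cfsg.Lie CfsgLib.ChevStr CfsgLib.ChevStr.ChevCore CfsgLib.Twisted CfsgLib.TwistAut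
open scoped MatrixGroups

section sl

variable {E : Type*} [Field E]

/-- The diagonal element. -/
abbrev dia : Eˣ →* Matrix.SpecialLinearGroup (Fin 2) E := CfsgLib.Schur.slDiag

theorem coe_slW' :
    ((slW : Matrix.SpecialLinearGroup (Fin 2) E) : Matrix (Fin 2) (Fin 2) E) = !![0, 1; -1, 0] := rfl

theorem conjDia_dia (v u : Eˣ) : RegTorus.slDiag v (dia u) = dia u := by
  ext a b
  fin_cases a <;> fin_cases b <;> simp [RegTorus.slDiag, dia, CfsgLib.Schur.slDiag_coe]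

theorem conjDia_slX (v : Eˣ) (t : E) : RegTorus.slDiag v (slX t) = slX ((v : E) * t) := by
  ext a b
  fin_cases a <;> fin_cases b <;> simp [RegTorus.slDiag]

theorem conjDia_slY (v : Eˣ) (t : E) : RegTorus.slDiag v (slY t) = slY (((v⁻¹ : Eˣ) : E) * t) := by
  ext a b
  fin_cases a <;> fin_cases b <;> simp [RegTorus.slDiag]

theorem slW_conjDia (v : Eˣ) : slW * (RegTorus.slDiag v slW)⁻¹ = dia v⁻¹ := by
  refine mul_inv_eq_of_eq_mul ?_
  ext a b
  fin_cases a <;> fin_cases b <;>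
    simp [RegTorus.slDiag, coe_slW', dia, CfsgLib.Schur.slDiag_coe, Matrix.mul_apply, Fin.sum_univ_two]

theorem slW_mul_self : slW * slW = dia (-1 : Eˣ) := by
  ext a b
  fin_cases a <;> fin_cases b <;>
    simp [coe_slW', dia, CfsgLib.Schur.slDiag_coe, Matrix.mul_apply, Fin.sum_univ_two]

theorem slW_conj_slX {t : E} (ht : t ≠ 0) :
    slW * slX t * slW⁻¹ = slX (-t⁻¹) * (dia (Units.mk0 t⁻¹ (inv_ne_zero ht)) * slW) * slX (-t⁻¹) := by
  refine mul_inv_eq_of_eq_mul ?_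
  ext a b
  fin_cases a <;> fin_cases b <;>
    simp [coe_slW', dia, CfsgLib.Schur.slDiag_coe, Matrix.mul_apply, Fin.sum_univ_two, ht]

/-- The two cells. -/
theorem sl_cells (g : Matrix.SpecialLinearGroup (Fin 2) E) :
    (∃ u y, g = dia u * slX y) ∨ ∃ x u y, g = slX x * (dia u * slW) * slX y := by
  have hd := sl_det g
  by_cases hc : (g : Matrix (Fin 2) (Fin 2) E) 1 0 = 0
  · rw [hc, mul_zero, sub_zero] at hd
    have ha := left_ne_zero_of_mul_eq_one hd
    refine Or.inl ⟨Units.mk0 _ ha, (g : Matrix (Fin 2) (Fin 2) E) 0 1 / (g : Matrix (Fin 2) (Fin 2) E) 0 0, ?_⟩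
    ext a b
    fin_cases a <;> fin_cases b <;>
      simp [dia, CfsgLib.Schur.slDiag_coe, Matrix.mul_apply, Fin.sum_univ_two, hc] <;> field_simp
    rw [mul_comm]; exact hd
  · refine Or.inr ⟨(g : Matrix (Fin 2) (Fin 2) E) 0 0 / (g : Matrix (Fin 2) (Fin 2) E) 1 0,
      Units.mk0 (-((g : Matrix (Fin 2) (Fin 2) E) 1 0)⁻¹) (neg_ne_zero.2 (inv_ne_zero hc)),
      (g : Matrix (Fin 2) (Fin 2) E) 1 1 / (g : Matrix (Fin 2) (Fin 2) E) 1 0, ?_⟩
    ext a b
    fin_cases a <;> fin_cases b <;>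
      simp [coe_slW', dia, CfsgLib.Schur.slDiag_coe, Matrix.mul_apply, Fin.sum_univ_two] <;> field_simp
    linear_combination -hd

theorem slX_add (s t : E) : slX (s + t) = slX s * slX t := by
  ext a b
  fin_cases a <;> fin_cases b <;> simp [Matrix.mul_apply, Fin.sum_univ_two, add_comm]

theorem slY_add (s t : E) : slY (s + t) = slY s * slY t := by
  ext a b
  fin_cases a <;> fin_cases b <;> simp [Matrix.mul_apply, Fin.sum_univ_two]

theorem slX_zero : slX (0 : E) = 1 := by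
  ext a b
  fin_cases a <;> fin_cases b <;> simp

theorem isPow_slX (p : ℕ) [CharP E p] (t : E) : IsPow p (slX t) := by
  have h : ∀ k : ℕ, slX t ^ k = slX ((k : E) * t) := by
    intro k
    induction k with
    | zero => simp [slX_zero]
    | succ k ih => rw [pow_succ, ih, ← slX_add, Nat.cast_succ, add_mul, one_mul]
  exact ⟨1, by rw [pow_one, h, CharP.cast_eq_zero, zero_mul, slX_zero]⟩

theorem isPow_slY (p : ℕ) [CharP E p] (t : E) : IsPow p (slY t) := by
  have h0 : slY (0 : E) = 1 := by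
    ext a b
    fin_cases a <;> fin_cases b <;> simp
  have h : ∀ k : ℕ, slY t ^ k = slY ((k : E) * t) := by
    intro k
    induction k with
    | zero => simp [h0]
    | succ k ih => rw [pow_succ, ih, ← slY_add, Nat.cast_succ, add_mul, one_mul]
  exact ⟨1, by rw [pow_one, h, CharP.cast_eq_zero, zero_mul, h0]⟩

/-- The two root groups generate. -/
theorem closure_slX_slY :
    Subgroup.closure (Set.range (slX (F := E)) ∪ Set.range (slY (F := E))) = ⊤ :=
  eq_top_iff.2 fun g _ => sl_decomp (fun g => g ∈ Subgroup.closure _)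
    (fun t => Subgroup.subset_closure (Or.inl ⟨t, rfl⟩))
    (fun t => Subgroup.subset_closure (Or.inr ⟨t, rfl⟩)) (fun _ _ h h' => mul_mem h h') g

end sl

universe u

variable {D : ChevalleyDatum} {K : Type u} [Field K] [Fintype K] {C : ChevCore D K} {φ : Frob C}
  {I : Type} {O : OrbitData C.R φ.ρ I} {G1 : Subgroup (GL D.Idx K)} {d : ℕ} {g : Gens φ O G1 d}

/-- The rank-one homomorphisms. -/
structure RankOneData (g : Gens φ O G1 d) where
  E : I → Subfield K
  hom : ∀ i, Matrix.SpecialLinearGroup (Fin 2) ↥(E i) →* ↥G1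
  X_in : ∀ i t, (hom i (slX t) : GL D.Idx K) ∈ φ.fixU (inRoots C.R (O.J i))
  X_surj : ∀ i, ∀ a ∈ φ.fixU (inRoots C.R (O.J i)), ∃ t, (hom i (slX t) : GL D.Idx K) = a
  X_inj : ∀ i t, hom i (slX t) = 1 → t = 0
  dia_tor : ∀ i u, (hom i (dia u) : GL D.Idx K) ∈ D.diagonalSubgroup K
  W_mono : ∀ i, (hom i slW : GL D.Idx K) ∈ D.monomialSubgroup K
  W_moves : ∀ i, C.Moves (hom i slW : GL D.Idx K) (g.wJ i)
  tor_conj : ∀ h : ↥G1, (h : GL D.Idx K) ∈ D.diagonalSubgroup K → ∀ i, ∃ v : (↥(E i))ˣ,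
    (∀ t, h * hom i (slX t) * h⁻¹ = hom i (RegTorus.slDiag v (slX t))) ∧
      ∀ t, h * hom i (slY t) * h⁻¹ = hom i (RegTorus.slDiag v (slY t))
  tor_gen : (D.diagonalSubgroup K).subgroupOf G1 ≤
    Subgroup.closure (⋃ i, Set.range fun u => hom i (dia u))

omit [Fintype K] in
theorem moves_one_of_diag {h : GL D.Idx K} (hh : h ∈ D.diagonalSubgroup K) : C.Moves h 1 := by
  obtain ⟨c, rfl⟩ : h ∈ C.R.torus.range := C.diagonalSubgroup_eq ▸ hh
  exact C.moves_torus c

omit [Fintype K] in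
theorem diag_le_monomial : D.diagonalSubgroup K ≤ D.monomialSubgroup K := le_sup_left

theorem wJ_ne_one (g : Gens φ O G1 d) (i : I) : g.wJ i ≠ 1 := fun h => by
  obtain ⟨j, hj⟩ := O.nonempty i
  have h1 := g.wJ_neg i j hj
  rw [h, Equiv.Perm.one_apply] at h1
  exact C.R.not_pos_and_neg (C.R.simple_pos j) h1

/-- Signs at an orbit. -/
theorem wJ_neg_in (g : Gens φ O G1 d) (i : I) {r : Fin D.nroots}
    (hr : (r : ℕ) ∈ inRoots C.R (O.J i)) : (g.wJ i r : ℕ) ∈ negRootsIn C.R (O.J i) :=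
  ⟨neg_of_supp C.hR (C.hR.weylSub_le _ (g.wJ_mem i)) (g.wJ_neg i) hr,
    (suppIn_weyl C.hR (g.wJ_mem i) r).2 hr.2⟩

theorem wJ_pos_of_negIn (g : Gens φ O G1 d) (i : I) {r : Fin D.nroots}
    (hr : (r : ℕ) ∈ negRootsIn C.R (O.J i)) : (g.wJ i r : ℕ) ∈ inRoots C.R (O.J i) := by
  have h := wJ_neg_in g i (r := ⟨D.neg r, C.R.neg_lt r r.isLt⟩)
    ⟨(C.R.isPos_neg_iff r.isLt).2 hr.1, fun m hm => by
      rw [C.R.α_neg _ r.isLt, Pi.neg_apply, hr.2 m hm, neg_zero]⟩
  refine ⟨?_, (suppIn_weyl C.hR (g.wJ_mem i) r).2 hr.2⟩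
  have h1 := h.1
  rw [C.hR.apply_neg (C.hR.weylSub_le _ (g.wJ_mem i)) r, C.R.isNeg_neg_iff (g.wJ i r).isLt] at h1
  exact h1

namespace RankOneData

variable (R : RankOneData g)

theorem hom_X_mem_U (i : I) (t : ↥(R.E i)) :
    (R.hom i (slX t) : GL D.Idx K) ∈ D.posUnipotent K :=
  Ucl_in_le C _ (Subgroup.mem_inf.1 (R.X_in i t)).1

theorem hom_dia_mul_X (i : I) (u : (↥(R.E i))ˣ) (y : ↥(R.E i)) :
    (R.hom i (dia u * slX y) : GL D.Idx K) ∈ D.borelSubgroup K := by
  rw [map_mul, Subgroup.coe_mul]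
  exact mul_mem (le_sup_right (a := D.posUnipotent K) (R.dia_tor i u))
    (le_sup_left (b := D.diagonalSubgroup K) (R.hom_X_mem_U i y))

theorem mem_bigCell_W (i : I) (x : ↥(R.E i)) (u : (↥(R.E i))ˣ) (y : ↥(R.E i)) :
    (R.hom i (slX x * (dia u * slW) * slX y) : GL D.Idx K) ∈ C.bigCell (R.hom i slW : GL D.Idx K) := by
  simp only [map_mul, Subgroup.coe_mul, ← mul_assoc]
  exact C.mem_bigCell.2 ⟨_, mul_mem (le_sup_left (b := D.diagonalSubgroup K) (R.hom_X_mem_U i x))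
    (le_sup_right (a := D.posUnipotent K) (R.dia_tor i u)),
    _, le_sup_left (b := D.diagonalSubgroup K) (R.hom_X_mem_U i y), rfl⟩

/-- An element of the image that is diagonal comes from the diagonal. -/
theorem dia_of_diag (i : I) {s : Matrix.SpecialLinearGroup (Fin 2) ↥(R.E i)}
    (hs : (R.hom i s : GL D.Idx K) ∈ D.diagonalSubgroup K) : ∃ u, s = dia u := by
  rcases sl_cells s with ⟨u, y, rfl⟩ | ⟨x, u, y, rfl⟩
  · refine ⟨u, ?_⟩
    have h1 : (R.hom i (slX y) : GL D.Idx K) ∈ D.diagonalSubgroup K := by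
      have := mul_mem (inv_mem (R.dia_tor i u)) hs
      rwa [← InvMemClass.coe_inv, ← Subgroup.coe_mul, ← map_inv, ← map_mul, inv_mul_cancel_left] at this
    have h2 := (Subgroup.eq_bot_iff_forall _).1 C.posUnipotent_inf_diagonal _
      (Subgroup.mem_inf.2 ⟨R.hom_X_mem_U i y, h1⟩)
    rw [R.X_inj i y (Subtype.ext h2), slX_zero, mul_one]
  · exact absurd (C.moves_eq_of_mem (diag_le_monomial hs) (R.W_mono i) (moves_one_of_diag hs)
      (R.W_moves i) (R.mem_bigCell_W i x u y)).symm (wJ_ne_one g i)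

/-- A monomial element of the image that is not diagonal moves the roots as the reflection. -/
theorem moves_of_mono (i : I) {s : Matrix.SpecialLinearGroup (Fin 2) ↥(R.E i)}
    (hs : (R.hom i s : GL D.Idx K) ∈ D.monomialSubgroup K) {w : Equiv.Perm (Fin D.nroots)}
    (hw : C.Moves (R.hom i s : GL D.Idx K) w) (hne : w ≠ 1) : w = g.wJ i := by
  rcases sl_cells s with ⟨u, y, rfl⟩ | ⟨x, u, y, rfl⟩
  · refine absurd (ChevCore.Moves.unique C hw (moves_one_of_diag ?_)) hne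
    rw [← C.borel_inf_monomial]
    exact Subgroup.mem_inf.2 ⟨R.hom_dia_mul_X i u y, hs⟩
  · exact C.moves_eq_of_mem hs (R.W_mono i) hw (R.W_moves i) (R.mem_bigCell_W i x u y)

/-- The negative orbit group lies in the image. -/
theorem neg_surj (i : I) {a : ↥G1} (ha : (a : GL D.Idx K) ∈ C.Ucl (negRootsIn C.R (O.J i))) :
    ∃ s, R.hom i s = a := by
  set W := R.hom i slW with hW
  have hb : ((W * a * W⁻¹ : ↥G1) : GL D.Idx K) ∈ φ.fixU (inRoots C.R (O.J i)) :=
    Subgroup.mem_inf.2 ⟨C.conj_Ucl_le (R.W_moves i) (T := C.Ucl (inRoots C.R (O.J i)))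
      (fun r hr t => C.xGL_mem_Ucl (wJ_pos_of_negIn g i hr) t) _ ha,
      g.le_fixed (W * a * W⁻¹).2⟩
  obtain ⟨t, ht⟩ := R.X_surj i _ hb
  refine ⟨slW⁻¹ * slX t * slW, ?_⟩
  rw [map_mul, map_mul, map_inv, ← hW, show R.hom i (slX t) = W * a * W⁻¹ from Subtype.ext ht]
  group

/-- The positive unipotent part as a subgroup. -/
def upper (_R : RankOneData g) : Subgroup ↥G1 := (D.posUnipotent K).subgroupOf G1

theorem commute_dia (i j : I) (u : (↥(R.E i))ˣ) (v : (↥(R.E j))ˣ) :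
    Commute (R.hom i (dia u)) (R.hom j (dia v)) := by
  obtain ⟨c, hc⟩ : (R.hom i (dia u) : GL D.Idx K) ∈ C.R.torus.range :=
    C.diagonalSubgroup_eq ▸ R.dia_tor i u
  obtain ⟨e, he⟩ : (R.hom j (dia v) : GL D.Idx K) ∈ C.R.torus.range :=
    C.diagonalSubgroup_eq ▸ R.dia_tor j v
  refine Subtype.ext ?_
  rw [Subgroup.coe_mul, Subgroup.coe_mul, ← hc, ← he, ← map_mul, ← map_mul, mul_comm]

theorem pairwise_dia : Pairwise fun i j => ∀ (u : (↥(R.E i))ˣ) (v : (↥(R.E j))ˣ),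
    Commute (((R.hom i).comp dia) u) (((R.hom j).comp dia) v) := fun i j _ u v => R.commute_dia i j u v

/-- The parametrisation of the torus. -/
noncomputable def diaHom [Fintype I] : (∀ i, (↥(R.E i))ˣ) →* ↥G1 :=
  MonoidHom.noncommPiCoprod (fun i => (R.hom i).comp dia) R.pairwise_dia

/-- The permutation of a word in the reflections. -/
noncomputable def wordP (g : Gens φ O G1 d) (L : List I) : Equiv.Perm (Fin D.nroots) := (L.map g.wJ).prod

theorem wordP_mem (g : Gens φ O G1 d) (L : List I) : wordP g L ∈ C.hR.weyl :=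
  list_prod_mem fun x hx => by
    obtain ⟨i, -, rfl⟩ := List.mem_map.1 hx
    exact C.hR.weylSub_le _ (g.wJ_mem i)

theorem wordP_commute (g : Gens φ O G1 d) (L : List I) : Commute φ.ρ (wordP g L) := by
  induction L with
  | nil => exact Commute.one_right _
  | cons a L ih =>
    rw [wordP, List.map_cons, List.prod_cons]
    exact (g.wJ_commute a).mul_right ih

/-- The deletion step. -/
theorem exists_delete (g : Gens φ O G1 d) (b : I) :
    ∀ P : List I, (∃ j ∈ O.J b, D.IsNegRoot (wordP g P ⟨D.simple j.val, C.R.simple_lt j⟩)) →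
      ∃ A a B, P = A ++ a :: B ∧
        (∀ r : Fin D.nroots, (r : ℕ) ∈ inRoots C.R (O.J b) →
          (wordP g B r : ℕ) ∈ inRoots C.R (O.J a)) ∧
        ∀ r : Fin D.nroots, (r : ℕ) ∈ negRootsIn C.R (O.J b) →
          (wordP g B r : ℕ) ∈ negRootsIn C.R (O.J a) := by
  intro P
  induction P with
  | nil =>
    rintro ⟨j, -, h⟩
    exact absurd h (fun h => C.R.not_pos_and_neg (C.R.simple_pos j) h)
  | cons a B ih =>
    intro hex
    by_cases hB : ∃ j ∈ O.J b, D.IsNegRoot (wordP g B ⟨D.simple j.val, C.R.simple_lt j⟩)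
    · obtain ⟨A, a', B', e, h1, h2⟩ := ih hB
      exact ⟨a :: A, a', B', by rw [e]; rfl, h1, h2⟩
    obtain ⟨j, hj, hjn⟩ := hex
    have hneg := O.all_neg (wordP_commute g (a :: B)) hj hjn
    push Not at hB
    have hpos : ∀ k ∈ O.J b, D.IsPosRoot (wordP g B ⟨D.simple k.val, C.R.simple_lt k⟩) :=
      fun k hk => (C.R.pos_or_neg (wordP g B _).isLt).resolve_right (hB k hk)
    have key : ∀ r : Fin D.nroots, (r : ℕ) ∈ inRoots C.R (O.J b) →
        (wordP g B r : ℕ) ∈ inRoots C.R (O.J a) := by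
      intro r hr
      have h1 := pos_of_supp C.hR (wordP_mem g B) hpos hr
      have h2 := neg_of_supp C.hR (wordP_mem g (a :: B)) hneg hr
      rw [wordP, List.map_cons, List.prod_cons, Equiv.Perm.mul_apply] at h2
      refine ⟨h1, by_contra fun hs => ?_⟩
      exact C.R.not_pos_and_neg (out_weyl C.hR (g.wJ_mem a) ⟨h1, hs⟩).1 h2
    refine ⟨[], a, B, rfl, key, fun r hr => ?_⟩
    have h := key ⟨D.neg r, C.R.neg_lt r r.isLt⟩ ⟨(C.R.isPos_neg_iff r.isLt).2 hr.1, fun m hm => by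
      rw [C.R.α_neg _ r.isLt, Pi.neg_apply, hr.2 m hm, neg_zero]⟩
    rw [C.hR.apply_neg (wordP_mem g B) r] at h
    refine ⟨(C.R.isPos_neg_iff (wordP g B r).isLt).1 h.1, fun m hm => ?_⟩
    have h' := h.2 m hm
    rwa [C.R.α_neg _ (wordP g B r).isLt, Pi.neg_apply, neg_eq_zero] at h'

end RankOneData

end CfsgLib.TwistMult
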